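import Mathlib
import Cfsg.Agent.Perm.Derang
import Cfsg.Agent.Core.SylowOf

/-! Transitivity on invariant subsets: coprime index, Jordan, Gleason. -/

set_option autoImplicit false

namespace Cfsg.Agent.PG

open MulAction

variable {G X : Type*} [Group G] [MulAction G X]

/-- `H` leaves `Y` invariant -/
def InvOn (H : Subgroup G) (Y : Set X) : Prop := ∀ g ∈ H, ∀ y ∈ Y, g • y ∈ Y

/-- `H` is transitive on `Y` -/
def TrOn (H : Subgroup G) (Y : Set X) : Prop := ∀ a ∈ Y, ∀ b ∈ Y, ∃ g ∈ H, g • a = b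

theorem relIndex_stab (H : Subgroup G) (x : X) :
    (stabilizer G x).relIndex H = (orbit H x).ncard := by
  rw [← index_stabilizer]; rfl

theorem relIndex_of_tr {H : Subgroup G} {Y : Set X} (h1 : InvOn H Y) (h2 : TrOn H Y) {x : X}
    (hx : x ∈ Y) : (stabilizer G x).relIndex H = Y.ncard := by
  rw [relIndex_stab]
  congr 1
  ext y
  constructor
  · rintro ⟨g, rfl⟩; exact h1 g g.2 x hx
  · intro hy
    obtain ⟨g, hg, e⟩ := h2 x hx y hy
    exact ⟨⟨g, hg⟩, e⟩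

theorem dvd_relIndex_of_coprime {W H St : Subgroup G} (hle : W ≤ H) {d : ℕ}
    (h1 : d ∣ St.relIndex H) (h2 : d.Coprime (W.relIndex H)) : d ∣ St.relIndex W := by
  have h3 : St.relIndex H ∣ (St ⊓ W).relIndex H := Subgroup.relIndex_dvd_of_le_left _ inf_le_left
  rw [← Subgroup.relIndex_inf_mul_relIndex, inf_of_le_left hle] at h3
  exact h2.dvd_of_dvd_mul_right (h1.trans h3)

theorem tr_of_coprime [Finite X] {W H : Subgroup G} (hle : W ≤ H) {Y : Set X} (h1 : InvOn H Y)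
    (h2 : TrOn H Y) (h3 : Y.ncard.Coprime (W.relIndex H)) : TrOn W Y := by
  intro a ha b hb
  have h4 := dvd_relIndex_of_coprime (St := stabilizer G a) hle
    (relIndex_of_tr h1 h2 ha ▸ dvd_rfl) h3
  rw [relIndex_stab] at h4
  have h5 : orbit W a ⊆ Y := by rintro _ ⟨g, rfl⟩; exact h1 g (hle g.2) a ha
  have h6 := Set.eq_of_subset_of_ncard_le h5
    (Nat.le_of_dvd ((Set.ncard_pos (Set.toFinite _)).2 ⟨a, mem_orbit_self a⟩) h4)
  obtain ⟨g, e⟩ : b ∈ orbit W a := h6 ▸ hb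
  exact ⟨g, g.2, e⟩

theorem dvd_ncard [Finite X] {A : Subgroup G} {B : Set X} (h1 : InvOn A B) {d : ℕ}
    (h2 : ∀ b ∈ B, d ∣ (stabilizer G b).relIndex A) : d ∣ B.ncard := by
  classical
  let S : SubMulAction A X := { carrier := B, smul_mem' := fun n b hb => h1 n n.2 b hb }
  have h3 : B.ncard = Nat.card S := rfl
  rw [h3, Nat.card_congr (selfEquivSigmaOrbits A S)]
  cases nonempty_fintype (orbitRel.Quotient A S)
  rw [Nat.card_sigma]
  refine Finset.dvd_sum fun ω _ => ?_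
  have h5 : stabilizer A ω.out = (stabilizer G (ω.out : X)).subgroupOf A := by
    ext n; simp [mem_stabilizer_iff, Subtype.ext_iff, Subgroup.mem_subgroupOf]; rfl
  have h4 := index_stabilizer A ω.out
  rw [h5] at h4
  have h6 := h2 _ ω.out.2
  rw [Subgroup.relIndex, h4] at h6
  exact h6

theorem jordan [Finite G] [Finite X] {W : Subgroup G} {Y : Set X} (h1 : InvOn W Y) (h2 : TrOn W Y)
    (h3 : 1 < Y.ncard) : ∃ w ∈ W, ∀ y ∈ Y, w • y ≠ y := by
  let S : SubMulAction W X := { carrier := Y, smul_mem' := fun n b hb => h1 n n.2 b hb }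
  haveI : IsPretransitive W S := ⟨fun a b => by
    obtain ⟨g, hg, e⟩ := h2 a a.2 b b.2
    exact ⟨⟨g, hg⟩, Subtype.ext e⟩⟩
  by_contra h
  push Not at h
  have h4 := (Perm.derangement_closure (G := W) (α := S) ⊥ fun g hg => by
    obtain ⟨y, hy, e⟩ := h g g.2
    exact (hg ⟨y, hy⟩ (Subtype.ext e)).elim).1
  obtain ⟨a, b, ha, hb, hab⟩ := (Set.one_lt_ncard_iff (Set.toFinite Y)).1 h3
  obtain ⟨⟨g, hg⟩, e⟩ := h4.exists_smul_eq (⟨a, ha⟩ : S) ⟨b, hb⟩
  obtain rfl : g = 1 := hg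
  exact hab (congrArg Subtype.val ((one_smul _ _).symm.trans e))

theorem ncard_modEq [Finite X] {p : ℕ} [Fact p.Prime] {g : G} (hg : g ^ p = 1) {Y : Set X}
    (h : ∀ y ∈ Y, g • y ∈ Y) : Y.ncard ≡ {y ∈ Y | g • y = y}.ncard [MOD p] := by
  classical
  cases nonempty_fintype Y
  let f : Function.End Y := fun y => ⟨g • y, h y y.2⟩
  have h1 : ∀ n : ℕ, ∀ y : Y, (((f ^ n) y : Y) : X) = g ^ n • (y : X) := by
    intro n
    induction n with
    | zero => intro y; simp; rfl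
    | succ n ih => intro y; rw [pow_succ', pow_succ', mul_smul, ← ih]; rfl
  have h2 : f ^ p ^ 1 = 1 := by
    funext y
    exact Subtype.ext (by rw [h1, pow_one, hg, one_smul]; rfl)
  have h3 := Equiv.Perm.card_fixedPoints_modEq h2
  rw [← Nat.card_eq_fintype_card, ← Nat.card_eq_fintype_card] at h3
  have h4 : Nat.card (Function.fixedPoints f) = {y ∈ Y | g • y = y}.ncard :=
    Nat.card_congr
      { toFun := fun y => ⟨y.1.1, y.1.2, congrArg Subtype.val y.2⟩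
        invFun := fun y => ⟨⟨y.1, y.2.1⟩, Subtype.ext y.2.2⟩
        left_inv := fun _ => rfl
        right_inv := fun _ => rfl }
  rw [← h4]; exact h3

theorem gleason [Finite X] {p : ℕ} [hp : Fact p.Prime] {H : Subgroup G} {Y : Set X}
    (h1 : InvOn H Y) (h : ∀ y ∈ Y, ∃ g ∈ H, g ^ p = 1 ∧ ∀ z ∈ Y, g • z = z ↔ z = y) :
    TrOn H Y := by
  intro a ha b hb
  by_contra hc
  push Not at hc
  have hs : orbit H a ⊆ Y := by rintro _ ⟨g, rfl⟩; exact h1 g g.2 a ha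
  have hi : ∀ g ∈ H, ∀ y ∈ orbit H a, g • y ∈ orbit H a := by
    rintro g hg _ ⟨t, rfl⟩
    exact ⟨⟨g, hg⟩ * t, mul_smul _ _ _⟩
  obtain ⟨g, hg, h2, h3⟩ := h a ha
  obtain ⟨g', hg', h2', h3'⟩ := h b hb
  have h4 := ncard_modEq h2 (hi g hg)
  have h5 := ncard_modEq h2' (hi g' hg')
  have h6 : {y ∈ orbit H a | g • y = y} = {a} := by
    ext y
    simp only [Set.mem_setOf_eq, Set.mem_singleton_iff]
    exact ⟨fun e => (h3 y (hs e.1)).1 e.2, fun e => by
      rw [e]; exact ⟨mem_orbit_self _, (h3 _ ha).2 rfl⟩⟩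
  have h7 : {y ∈ orbit H a | g' • y = y} = ∅ := by
    refine Set.eq_empty_of_forall_notMem fun y e => ?_
    obtain ⟨⟨t, e1⟩, e2⟩ := e
    exact hc t t.2 (e1.trans ((h3' y (hs ⟨t, e1⟩)).1 e2))
  rw [h6, Set.ncard_singleton] at h4
  rw [h7, Set.ncard_empty] at h5
  have := (Nat.modEq_zero_iff_dvd).1 (h4.symm.trans h5)
  exact hp.out.one_lt.ne' (Nat.dvd_one.1 this)

theorem primePow_of_tr [Finite G] {p : ℕ} (hp : p.Prime) {H : Subgroup G} (hH : ∀ g ∈ H, g ^ p = 1)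
    {Y : Set X} (h1 : InvOn H Y) (h2 : TrOn H Y) (h3 : 1 < Y.ncard) : IsPrimePow Y.ncard := by
  haveI := Fact.mk hp
  have h4 : IsPGroup p H := fun g => ⟨1, Subtype.ext (by simpa using hH g g.2)⟩
  obtain ⟨x, hx⟩ : Y.Nonempty := Set.nonempty_of_ncard_ne_zero (by omega)
  obtain ⟨n, hn⟩ := h4.index ((stabilizer G x).subgroupOf H)
  have h5 := relIndex_of_tr h1 h2 hx
  rw [Subgroup.relIndex, hn] at h5
  refine ⟨p, n, hp.prime, Nat.pos_of_ne_zero ?_, h5⟩
  rintro rfl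
  rw [pow_zero] at h5
  omega

/-- in a finite `2`-group a proper subgroup is normalised by an outer element with inner square -/
theorem exists_norm_sq [Finite G] {K T : Subgroup G} (hT : IsPGroup 2 T) (h : K < T) :
    ∃ t ∈ T, t ∉ K ∧ t ∈ Subgroup.normalizer (K : Set G) ∧ t * t ∈ K := by
  classical
  have h1 := Core.lt_inf_normalizer_of_nilpotent hT.isNilpotent h
  obtain ⟨t, ⟨h2, h3⟩, h4⟩ := SetLike.exists_of_lt h1
  have h5 : ∃ n, t ^ 2 ^ n ∈ K := by
    obtain ⟨n, hn⟩ := hT ⟨t, h2⟩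
    exact ⟨n, by rw [show t ^ 2 ^ n = 1 from congrArg Subtype.val hn]; exact K.one_mem⟩
  have h6 := Nat.find_spec h5
  have h7 : Nat.find h5 ≠ 0 := fun e => h4 (by simpa [e] using h6)
  obtain ⟨m, hm⟩ := Nat.exists_eq_succ_of_ne_zero h7
  refine ⟨t ^ 2 ^ m, T.pow_mem h2 _, Nat.find_min h5 (by omega), Subgroup.pow_mem _ h3 _, ?_⟩
  rw [← pow_add, ← two_mul, ← pow_succ', ← Nat.succ_eq_add_one, ← hm]; exact h6

end Cfsg.Agent.PG
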