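import Mathlib
import Cfsg.Agent.PG.HHS10
import Cfsg.Agent.PG.Tr
import Cfsg.Agent.H23.Fit

/-! Norm maps and the covering argument for an abelian group. -/

set_option autoImplicit false
set_option linter.unusedVariables false

namespace Cfsg.Agent.PG.Tu

open Cfsg.Agent.BG Cfsg.Agent.BG.Amb Subgroup Cfsg.Agent.PG.HHS Cfsg.Agent.H23.HH
open scoped Pointwise commutatorElement

variable {X : Type*} [Group X] [Finite X]

theorem nrm {P R : Subgroup X} (hP : P ≤ 𝐂(P)) (hR : R ≤ 𝐍(P)) : ∃ N : X → X,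
    (∀ a ∈ P, N a ∈ P ⊓ 𝐂(R)) ∧
    (∀ a ∈ P, ∀ K : Subgroup X, (∀ σ ∈ R, σ ≠ 1 → σ * a * σ⁻¹ ∈ K) → (N a ∈ K ↔ a ∈ K)) ∧
    (∀ a ∈ P, ∀ b ∈ P, N (a * b⁻¹) = N a * (N b)⁻¹) ∧
    ∀ a ∈ P, ∀ x ∈ 𝐂(R), x ∈ 𝐍(P) → N (x * a * x⁻¹) = x * N a * x⁻¹ := by
  classical
  have := Fintype.ofFinite R
  letI : CommGroup P := { (inferInstance : Group P) with
    mul_comm := fun a b => Subtype.ext (mem_cent_of_le_cent hP a.2 b.2) }
  let cj : ∀ g ∈ 𝐍(P), P →* P := fun g hg => (P.normalizerMonoidHom ⟨g, hg⟩).toMonoidHom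
  have hcj : ∀ g hg (a : P), (cj g hg a : X) = g * a * g⁻¹ := fun _ _ _ => rfl
  let M : P → P := fun a => ∏ σ : R, cj σ (hR σ.2) a
  refine ⟨fun a => if h : a ∈ P then M ⟨a, h⟩ else 1, fun a ha => ?_, fun a ha K hK => ?_,
    fun a ha b hb => ?_, fun a ha x hx hxP => ?_⟩ <;> beta_reduce
  · rw [dif_pos ha]
    refine ⟨(M _).2, mem_cent.2 fun τ hτ => ?_⟩
    have : cj τ (hR hτ) (M ⟨a, ha⟩) = M ⟨a, ha⟩ := by
      rw [map_prod]
      exact Fintype.prod_equiv (Equiv.mulLeft ⟨τ, hτ⟩) _ _ fun σ => Subtype.ext (by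
        simp [hcj, mul_assoc])
    exact mul_inv_eq_iff_eq_mul.1 ((hcj _ _ _).symm.trans (congrArg Subtype.val this))
  · rw [dif_pos ha]
    have h1 : M ⟨a, ha⟩ = ⟨a, ha⟩ * ∏ σ ∈ Finset.univ.erase (1 : R), cj σ (hR σ.2) ⟨a, ha⟩ := by
      rw [show M ⟨a, ha⟩ = _ from (Finset.mul_prod_erase _ _ (Finset.mem_univ 1)).symm]
      congr 1
      exact Subtype.ext (by simp [hcj])
    have h2 : ∏ σ ∈ Finset.univ.erase (1 : R), cj σ (hR σ.2) ⟨a, ha⟩ ∈ K.subgroupOf P :=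
      prod_mem fun σ hσ => hK σ σ.2 fun e => (Finset.mem_erase.1 hσ).1 (Subtype.ext e)
    rw [h1]
    exact mul_mem_cancel_right h2
  · rw [dif_pos ha, dif_pos hb, dif_pos (mul_mem ha (inv_mem hb))]
    have : M (⟨a, ha⟩ * ⟨b, hb⟩⁻¹) = M ⟨a, ha⟩ * (M ⟨b, hb⟩)⁻¹ := by
      simp only [M, map_mul, map_inv, Finset.prod_mul_distrib, Finset.prod_inv_distrib]
    exact congrArg Subtype.val this
  · rw [dif_pos ha, dif_pos (conj_mem_of_le_norm le_rfl hxP ha)]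
    have : M (cj x hxP ⟨a, ha⟩) = cj x hxP (M ⟨a, ha⟩) := by
      rw [map_prod]
      refine Finset.prod_congr rfl fun σ _ => Subtype.ext ?_
      have h := mem_cent.1 hx σ σ.2
      rw [hcj, hcj, hcj, hcj]
      calc _ = (σ * x) * a * (σ * x)⁻¹ := by group
        _ = _ := by rw [h]; group
    exact congrArg Subtype.val this

theorem cm_zpowers {D : Subgroup X} {g τ : X} (hτ : τ ∈ 𝐍(D)) (h : ⁅g, τ⁆ ∈ D) :
    ∀ υ ∈ zpowers τ, ⁅g, υ⁆ ∈ D := by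
  intro υ hυ
  obtain ⟨n, rfl⟩ := mem_powers_iff_mem_zpowers.2 hυ
  induction n with
  | zero => simp
  | succ n ih =>
    simp only [pow_succ'] at ih ⊢
    rw [cm_mul_right]
    exact mul_mem h (conj_mem_of_le_norm le_rfl hτ (ih (pow_mem (mem_zpowers τ) n)))

theorem sol_prime {R : Subgroup X} (hR : (Nat.card R).Prime) : Group.IsSolvable R := by
  have := Fact.mk hR
  have := isCyclic_of_prime_card (α := R) rfl
  infer_instance

theorem fpf {B D R : Subgroup X} (hR : (Nat.card R).Prime) (hB : R ≤ 𝐍(B)) (hD : R ≤ 𝐍(D))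
    (hBD : B ≤ 𝐍(D)) (hc : (Nat.card B).Coprime (Nat.card R)) (hC : B ⊓ 𝐂(R) ≤ D) {g σ : X}
    (hg : g ∈ B) (hσ : σ ∈ R) (h1 : σ ≠ 1) (h : ⁅g, σ⁆ ∈ D) : g ∈ D := by
  have a1 : R ≤ 𝐍(Rd B R D) := le_norm_Rd hBD hB (fun s hs b hb => mul_mem (mul_mem hs hb) (inv_mem hs)) hD
  have a2 := coprime_comm_sup_cent a1 (Core.coprime_of_le_left hc (Rd_le _ _ _)) (Or.inl (sol_prime hR))
  exact (a2.ge.trans (sup_le (commutator_le.2 fun a ha b hb => ((mem_Rd hBD).1 ha).2 b hb)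
    ((inf_le_inf_right _ (Rd_le _ _ _)).trans hC))) ((mem_Rd hBD).2
      ⟨hg, fun υ hυ => cm_zpowers (hD hσ) h υ (le_zpowers_of_prime hR σ hσ h1 hυ)⟩)

theorem card_mod {B R : Subgroup X} (hR : (Nat.card R).Prime) (hB : R ≤ 𝐍(B)) :
    Nat.card B ≡ Nat.card (B ⊓ 𝐂(R) : Subgroup X) [MOD Nat.card R] := by
  have := Fact.mk hR
  obtain ⟨σ, hσ, h1⟩ := exists_mem_ne_one (H := R) fun e => by
    rw [e, card_bot] at hR; exact Nat.not_prime_one hR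
  have a1 := ncard_modEq (p := Nat.card R) (g := ConjAct.toConjAct σ) (Y := (B : Set X))
    (by rw [← map_pow, show σ ^ Nat.card R = 1 from
      congrArg Subtype.val (pow_card_eq_one' (x := (⟨σ, hσ⟩ : R))), map_one])
    fun y hy => conj_mem_of_le_norm hB hσ hy
  have a2 : {y ∈ (B : Set X) | ConjAct.toConjAct σ • y = y} = (B ⊓ 𝐂(R) : Subgroup X) := by
    ext y
    refine and_congr_right fun _ => ⟨fun h => ?_, fun h => conj_eq_of_comm (mem_cent.1 h σ hσ)⟩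
    refine cent_anti (le_zpowers_of_prime hR σ hσ h1) ?_
    rw [cent_zpowers]
    exact mem_cent1.2 (mul_inv_eq_iff_eq_mul.1 h).symm
  rwa [a2, ← Nat.card_coe_set_eq, ← Nat.card_coe_set_eq] at a1

theorem idx_mod {B D R : Subgroup X} (hR : (Nat.card R).Prime) (hB : R ≤ 𝐍(B)) (hD : R ≤ 𝐍(D))
    (hDB : D ≤ B) (hc : (Nat.card B).Coprime (Nat.card R)) (hC : B ⊓ 𝐂(R) ≤ D) :
    D.relIndex B ≡ 1 [MOD Nat.card R] := by
  have a1 := card_mod hR hB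
  have a2 := card_mod hR hD
  rw [show D ⊓ 𝐂(R) = B ⊓ 𝐂(R) from le_antisymm (inf_le_inf_right _ hDB) (le_inf hC inf_le_right)] at a2
  have a3 := a1.trans a2.symm
  rw [← Core.card_mul_relIndex hDB] at a3
  exact Nat.ModEq.cancel_left_of_coprime (Core.coprime_of_le_left hc hDB).symm
    (by rwa [mul_one])

theorem card_Rd {B D : Subgroup X} {h : X} (hDB : D ≤ B) (hd : ⁅B, B⁆ ≤ D) (hh : h ∈ 𝐍(B))
    (hs : B ≤ ⁅B, zpowers h⁆ ⊔ D) : Nat.card (Rd B {h} D) = Nat.card D := by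
  have hn : B ≤ 𝐍(D) := le_norm_of_comm_le_right ((commutator_mono le_rfl hDB).trans hd)
  have := (normal_subgroupOf_iff_le_normalizer hDB).2 hn
  have m : ∀ b ∈ B, ⁅b, h⁆ ∈ B := fun b hb => by
    rw [show ⁅b, h⁆ = b * (h * b⁻¹ * h⁻¹) by rw [commutatorElement_def]; group]
    exact mul_mem hb (conj_mem_of_le_norm le_rfl hh (inv_mem hb))
  let f : B →* B ⧸ D.subgroupOf B := MonoidHom.mk' (fun b => QuotientGroup.mk ⟨⁅(b : X), h⁆, m b b.2⟩)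
    fun a b => by
      rw [← QuotientGroup.mk_mul, QuotientGroup.eq]
      show ⁅(a * b : X), h⁆⁻¹ * (⁅(a : X), h⁆ * ⁅(b : X), h⁆) ∈ D
      rw [cm_mul_left, show (a * ⁅(b : X), h⁆ * (a : X)⁻¹ * ⁅(a : X), h⁆)⁻¹ * (⁅(a : X), h⁆ * ⁅(b : X), h⁆) =
        ⁅⁅(a : X), h⁆⁻¹ * a, ⁅(b : X), h⁆⁻¹⁆ by
            generalize ⁅(a : X), h⁆ = u
            generalize ⁅(b : X), h⁆ = v
            simp only [commutatorElement_def]; group]
      exact hd (commutator_mem_commutator (mul_mem (inv_mem (m a a.2)) a.2) (inv_mem (m b b.2)))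
  have a1 := cnt_hom f (N := Rd B {h} D) fun a => by
    rw [mem_Rd1 hn]
    exact ⟨fun ⟨h1, h2⟩ => ⟨h1, (QuotientGroup.eq_one_iff (N := D.subgroupOf B) ⟨_, m a h1⟩).2 h2⟩,
      fun ⟨h1, h2⟩ => ⟨h1, (QuotientGroup.eq_one_iff (N := D.subgroupOf B) ⟨_, m a h1⟩).1 h2⟩⟩
  have a2 : f.range = ⊤ := by
    rw [eq_top_iff]
    have a3 : B ≤ (f.range.comap (QuotientGroup.mk' _)).map B.subtype := by
      refine hs.trans (sup_le (commutator_le.2 fun b hb υ hυ => ?_) fun d hd' =>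
        ⟨⟨d, hDB hd'⟩, ⟨1, (map_one f).trans ((QuotientGroup.eq_one_iff (N := D.subgroupOf B) ⟨d, hDB hd'⟩).2 hd').symm⟩, rfl⟩)
      obtain ⟨n, rfl⟩ := mem_powers_iff_mem_zpowers.2 hυ
      clear hυ
      induction n with
      | zero => simp
      | succ n ih =>
        simp only [pow_succ] at ih ⊢
        rw [cm_mul_right, ← cm_conj, show h ^ n * h * (h ^ n)⁻¹ = h by group]
        have h1 := conj_mem_of_le_norm le_rfl (pow_mem hh n) hb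
        exact mul_mem ih ⟨⟨_, m _ h1⟩, ⟨⟨_, h1⟩, rfl⟩, rfl⟩
    intro y _
    obtain ⟨b, rfl⟩ := QuotientGroup.mk'_surjective _ y
    obtain ⟨c, hc, e⟩ := a3 b.2
    obtain rfl : c = b := Subtype.ext e
    exact hc
  rw [a2, card_top, ← Core.card_mul_relIndex hDB, mul_comm] at a1
  exact (Nat.eq_of_mul_eq_mul_left (Nat.pos_of_ne_zero index_ne_zero_of_finite) a1).symm

theorem cover {B D R : Subgroup X} (F : X → Subgroup X) (hF : ∀ σ ∈ R, Nat.card (F σ) = Nat.card D)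
    (hDB : D ≤ B) (hi : Nat.card R + 1 ≤ D.relIndex B) : ∃ b ∈ B, b ∉ D ∧ ∀ σ ∈ R, b ∉ F σ := by
  classical
  have := Fintype.ofFinite X
  by_contra hn
  push Not at hn
  let G : Option R → Subgroup X := fun o => o.elim D fun σ => F σ
  have c : ∀ H : Subgroup X, ((H : Set X).toFinset.erase 1).card + 1 = Nat.card H := fun H => by
    rw [Finset.card_erase_add_one (by simp), Set.toFinset_card, Nat.card_eq_fintype_card]
    rfl
  have a1 : (B : Set X).toFinset.erase 1 ⊆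
      Finset.univ.biUnion fun o : Option R => (G o : Set X).toFinset.erase 1 := by
    intro b hb
    simp only [Finset.mem_erase, Set.mem_toFinset, SetLike.mem_coe, Finset.mem_biUnion,
      Finset.mem_univ, true_and] at hb ⊢
    by_cases e : b ∈ D
    · exact ⟨none, hb.1, e⟩
    · obtain ⟨σ, h1, h2⟩ := hn b hb.2 e
      exact ⟨some ⟨σ, h1⟩, hb.1, h2⟩
  have a2 := (Finset.card_le_card a1).trans Finset.card_biUnion_le
  rw [Finset.sum_congr rfl (g := fun _ => Nat.card D - 1) fun o _ => by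
    have := c (G o)
    have h2 : Nat.card (G o) = Nat.card D := by
      cases o with
      | none => rfl
      | some σ => exact hF σ σ.2
    omega, Finset.sum_const, Finset.card_univ, Fintype.card_option, ← Nat.card_eq_fintype_card,
    smul_eq_mul] at a2
  have a3 := c B
  rw [← Core.card_mul_relIndex hDB] at a3
  have a4 : 0 < Nat.card D := Nat.card_pos
  have a5 : 0 < Nat.card R := Nat.card_pos
  obtain ⟨d, hd⟩ := Nat.exists_eq_add_of_lt a4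
  rw [hd] at a2 a3
  have := Nat.mul_le_mul_left (0 + d + 1) hi
  simp only [zero_add, add_tsub_cancel_right] at a2 a3 this
  nlinarith

omit [Finite X] in
theorem cm_mem {B : Subgroup X} {b h : X} (hb : b ∈ B) (hh : h ∈ 𝐍(B)) : ⁅b, h⁆ ∈ B := by
  rw [show ⁅b, h⁆ = b * (h * b⁻¹ * h⁻¹) by rw [commutatorElement_def]; group]
  exact mul_mem hb (conj_mem_of_le_norm le_rfl hh (inv_mem hb))

/-- The elements normalizing `P` and acting trivially on `P` modulo `K`. -/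
def Sk (P K : Subgroup X) : Subgroup X where
  carrier := {g | g ∈ 𝐍(P) ∧ ∀ a ∈ P, ⁅g, a⁆ ∈ K}
  one_mem' := ⟨one_mem _, fun a _ => by simp⟩
  mul_mem' := by
    rintro g h ⟨hg, hg'⟩ ⟨hh, hh'⟩
    refine ⟨mul_mem hg hh, fun a ha => ?_⟩
    rw [show ⁅g * h, a⁆ = ⁅g, h * a * h⁻¹⁆ * ⁅h, a⁆ by simp only [commutatorElement_def]; group]
    exact mul_mem (hg' _ (conj_mem_of_le_norm le_rfl hh ha)) (hh' a ha)
  inv_mem' := by
    rintro g ⟨hg, hg'⟩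
    refine ⟨inv_mem hg, fun a ha => ?_⟩
    rw [show ⁅g⁻¹, a⁆ = ⁅g, g⁻¹ * a * g⁆⁻¹ by simp only [commutatorElement_def]; group]
    exact inv_mem (hg' _ (inv_conj_mem_of_le_norm le_rfl hg ha))

theorem ab_core {P K B R : Subgroup X} {T : Set X} (hR : (Nat.card R).Prime) (hP : P ≤ 𝐂(P))
    (hRP : R ≤ 𝐍(P)) (hBP : B ≤ 𝐍(P)) (hRB : R ≤ 𝐍(B)) (hBR : ⁅B, R⁆ = B) (hPB : ⁅P, B⁆ = P)
    (h3 : ⁅⁅B, B⁆, R⁆ ≤ 𝐂(P)) (hc : (Nat.card B).Coprime (Nat.card R)) (hT : T ⊆ (P ⊓ 𝐂(R) : Subgroup X))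
    (hd : ∀ g ∈ B, (∀ a ∈ ⁅P, R⁆, g * a * g⁻¹ ∈ K) ∨ ∀ t ∈ T, g * t * g⁻¹ ∈ K)
    (h : (∀ c ∈ P ⊓ 𝐂(R), c ∈ T) ∨ ∃ x ∈ 𝐂(R), x ∈ 𝐍(P) ∧ x ∈ 𝐍(B) ∧
      (orderOf x).Coprime (Nat.card R) ∧ (∀ t, t ∈ T ↔ ∃ c ∈ P ⊓ 𝐂(R), t = ⁅c, x⁆) ∧
      (⁅B, zpowers x⁆ ≤ 𝐂(P) ∨ B ≤ ⁅B, zpowers x⁆ ⊔ (B ⊓ 𝐂(P)))) : T ⊆ K := by
  by_contra hn
  obtain ⟨N, n1, n2, n3, n4⟩ := nrm hP hRP
  have a1 : R ≤ Sk P K := fun σ hσ => ⟨hRP hσ, fun a ha => by
    have := (hd 1 (one_mem _)).resolve_right (fun e => hn fun t ht => by simpa using e t ht) _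
      (commutator_mem_commutator ha hσ)
    rw [cm_swap]
    exact inv_mem (by simpa using this)⟩
  have a2 : B ⊓ 𝐂(P) ≤ B ⊓ Sk P K := fun g hg => ⟨hg.1, hBP hg.1, fun a ha => by
    rw [cm_one.2 (mem_cent.1 hg.2 a ha).symm]; exact one_mem _⟩
  have a3 : R ≤ 𝐍(B ⊓ Sk P K) := le_norm_inf hRB (a1.trans le_normalizer)
  set C₁ := (B ⊓ 𝐂(P)) ⊔ (B ⊓ 𝐂(R)) with hC₁
  have a4 : ⁅B, B⁆ ≤ C₁ := (coprime_comm_sup_cent (le_norm_comm hRB hRB)
    (Core.coprime_of_le_left hc (der_le B)) (Or.inl (sol_prime hR))).ge.trans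
      (sup_le_sup (le_inf ((comm_le_left (le_norm_comm hRB hRB)).trans (der_le B)) h3)
        (inf_le_inf_right _ (der_le B)))
  have a5 : C₁ ≤ B := sup_le inf_le_left inf_le_left
  set D := (B ⊓ Sk P K) ⊔ C₁ with hD
  have a6 : D ≤ B := sup_le inf_le_left a5
  have a7 : ⁅B, B⁆ ≤ D := a4.trans le_sup_right
  have a8 : B ≤ 𝐍(D) := le_norm_of_comm_le_right ((commutator_mono le_rfl a6).trans a7)
  have a9 : R ≤ 𝐍(D) := le_norm_sup a3 (le_norm_sup (le_norm_inf_cent hRB hRP)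
    (le_norm_inf_cent hRB le_normalizer))
  have b1 : B ⊓ 𝐂(R) ≤ D := le_sup_of_le_right le_sup_right
  have b2 : ¬ B ≤ D := fun e => by
    have c1 : B ≤ B ⊓ Sk P K := hBR.ge.trans (commutator_le.2 fun g hg σ hσ => by
      obtain ⟨u, hu, n, hn, rfl⟩ := (Core.mem_sup_of_le_normalizer' (inf_le_left.trans
        (le_norm_of_comm_le_right ((commutator_mono le_rfl a5).trans a4)))).1 (e hg)
      obtain ⟨n, hn', c, hc, rfl⟩ := (Core.mem_sup_of_le_normalizer (inf_le_left.trans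
        (le_norm_inf_cent le_normalizer hBP))).1 hn
      rw [← mul_assoc, cm_mul_left, cm_one.2 (mem_cent.1 hc.2 σ hσ).symm, mul_one, mul_inv_cancel, one_mul]
      exact cm_mem (mul_mem hu (a2 hn')) (a3 hσ))
    refine hn fun t ht => (hPB.ge.trans (commutator_le.2 fun a ha g hg => ?_)) (hT ht).1
    rw [cm_swap]
    exact inv_mem ((c1 hg).2.2 a ha)
  have b3 : ∀ g ∈ B, g ∉ D → ∀ t ∈ T, g * t * g⁻¹ ∈ K := fun g hg hgD =>
    (hd g hg).resolve_left fun e => by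
      obtain ⟨σ, hσ, h1⟩ := exists_mem_ne_one (H := R) fun e => by
        rw [e, card_bot] at hR; exact Nat.not_prime_one hR
      refine hgD (fpf hR hRB a9 a8 hc b1 hg hσ h1 (mem_sup_left ⟨cm_mem hg (hRB hσ), ?_⟩))
      refine (Sk P K).mul_mem (show g * σ * g⁻¹ ∈ Sk P K from ⟨mul_mem (mul_mem (hBP hg) (hRP hσ))
        (inv_mem (hBP hg)), fun a ha => ?_⟩) ((Sk P K).inv_mem (a1 hσ))
      rw [show ⁅g * σ * g⁻¹, a⁆ = g * ⁅g⁻¹ * a * g, σ⁆⁻¹ * g⁻¹ by simp only [commutatorElement_def]; group]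
      exact e _ (inv_mem (commutator_mem_commutator (inv_conj_mem_of_le_norm hBP hg ha) hσ))
  have key : ∀ b ∈ B, b ∉ D → ∀ t ∈ T, b * N (b⁻¹ * t * b) * b⁻¹ ∈ K → t ∈ K := fun b hb hbD t ht e => by
    have c1 := (n2 _ (inv_conj_mem_of_le_norm hBP hb (hT ht).1) (K.comap (MulAut.conj b).toMonoidHom)
      fun σ hσ h1 => by
        have c2 := b3 _ (cm_mem hb (hRB hσ)) (fun e1 => hbD (fpf hR hRB a9 a8 hc b1 hb hσ h1 e1)) t ht
        show b * (σ * (b⁻¹ * t * b) * σ⁻¹) * b⁻¹ ∈ K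
        rwa [show b * (σ * (b⁻¹ * t * b) * σ⁻¹) * b⁻¹ = ⁅b, σ⁆ * (σ * t * σ⁻¹) * ⁅b, σ⁆⁻¹ by
          simp only [commutatorElement_def]; group, conj_eq_of_comm (mem_cent.1 (hT ht).2 σ hσ)]).1 e
    have c3 : b * (b⁻¹ * t * b) * b⁻¹ ∈ K := c1
    simpa [mul_assoc] using c3
  obtain ⟨b, hb, hbD⟩ := SetLike.not_le_iff_exists.1 b2
  rcases h with h | ⟨x, hx, hxP, hxB, hxc, hTx, h | h⟩
  · exact hn fun t ht => key b hb hbD t ht (b3 b hb hbD _
      (h _ (n1 _ (inv_conj_mem_of_le_norm hBP hb (hT ht).1))))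
  · refine hn fun t ht => key b hb hbD t ht (b3 b hb hbD _ ?_)
    obtain ⟨c, hc, rfl⟩ := (hTx t).1 ht
    have c1 := inv_conj_mem_of_le_norm hBP hb hc.1
    have c2 := conj_mem_of_le_norm le_rfl hxP c1
    have c3 := mem_cent.1 (h (commutator_mem_commutator (inv_mem hb) (mem_zpowers x))) _ c2
    refine (hTx _).2 ⟨_, n1 _ c1, ?_⟩
    rw [show b⁻¹ * ⁅c, x⁆ * b = (b⁻¹ * c * b) * (⁅b⁻¹, x⁆ * (x * (b⁻¹ * c * b) * x⁻¹) * ⁅b⁻¹, x⁆⁻¹)⁻¹ by
      simp only [commutatorElement_def]; group, conj_eq_of_comm c3.symm, n3 _ c1 _ c2, n4 _ c1 x hx hxP,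
      commutatorElement_def]
    group
  · have c1 : Nat.card R + 1 ≤ D.relIndex B := by
      have d1 := idx_mod hR hRB a9 a6 hc b1
      have d2 : D.relIndex B ≠ 1 := fun e => b2 (relIndex_eq_one.1 e)
      have d3 : D.relIndex B ≠ 0 := index_ne_zero_of_finite
      have d4 := Nat.le_of_dvd (by omega) ((Nat.modEq_iff_dvd' (by omega)).1 d1.symm)
      omega
    obtain ⟨b, hb, hbD, hb2⟩ := cover (fun σ => Rd B {σ * x} D) (fun σ hσ => card_Rd a6 a7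
      (mul_mem (hRB hσ) hxB) (by
        have d1 : x ∈ zpowers (σ * x) := mem_zpowers_mul_of_coprime' (mem_cent.1 hx σ hσ)
          (hxc.symm.coprime_dvd_left (R.orderOf_dvd_natCard hσ))
        exact h.trans (sup_le_sup (commutator_mono le_rfl (zpowers_le.2 d1))
          (le_sup_of_le_right le_sup_left)))) a6 c1
    refine hn fun t ht => key b hb hbD t ht ?_
    have c1 := inv_conj_mem_of_le_norm hBP hb (hT ht).1
    have c2 := b3 b hb hbD _ ((hTx _).2 ⟨_, n1 _ c1, rfl⟩)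
    have c3 : x * t * x⁻¹ ∈ T := by
      obtain ⟨c, hc, rfl⟩ := (hTx t).1 ht
      refine (hTx _).2 ⟨_, conj_mem_of_le_norm (le_norm_inf_cent (zpowers_le.2 hxP)
        (zpowers_le.2 (cent_le_norm R hx))) (mem_zpowers x) hc, ?_⟩
      simp only [commutatorElement_def]; group
    have c4 : ∀ σ ∈ R, σ * (x * (b⁻¹ * t * b) * x⁻¹) * σ⁻¹ ∈ K.comap (MulAut.conj b).toMonoidHom :=
      fun σ hσ => by
        have d1 := b3 _ (cm_mem hb (mul_mem (hRB hσ) hxB)) (fun e => hb2 σ hσ ((mem_Rd1 a8).2 ⟨hb, e⟩)) _ c3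
        show b * (σ * (x * (b⁻¹ * t * b) * x⁻¹) * σ⁻¹) * b⁻¹ ∈ K
        rwa [show b * (σ * (x * (b⁻¹ * t * b) * x⁻¹) * σ⁻¹) * b⁻¹ =
          ⁅b, σ * x⁆ * (σ * (x * t * x⁻¹) * σ⁻¹) * ⁅b, σ * x⁆⁻¹ by
          simp only [commutatorElement_def]; group, conj_eq_of_comm (mem_cent.1 (hT c3).2 σ hσ)]
    have c5 := (n2 _ (conj_mem_of_le_norm le_rfl hxP c1) _ fun σ hσ _ => c4 σ hσ).2
      (by simpa using c4 1 (one_mem _))
    rw [n4 _ c1 x hx hxP] at c5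
    have c6 := mul_mem c2 c5
    generalize N (b⁻¹ * t * b) = y at c6 ⊢
    rwa [show b * ⁅y, x⁆ * b⁻¹ * (MulAut.conj b).toMonoidHom (x * y * x⁻¹) = b * y * b⁻¹ by
      simp only [commutatorElement_def, MulEquiv.coe_toMonoidHom, MulAut.conj_apply]; group] at c6

end Cfsg.Agent.PG.Tu
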