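import Mathlib
import Cfsg.Agent.PG.Tu1
import Cfsg.Agent.H23.PL6

/-! The dimension of the commutant of a map with a small annihilating polynomial. -/

set_option autoImplicit false
set_option linter.unusedVariables false

namespace Cfsg.Agent.PG.Tu

open Module Cfsg.Agent.H23.HH Polynomial

variable {k W : Type*} [Field k] [AddCommGroup W] [Module k W] [FiniteDimensional k W]

omit [FiniteDimensional k W] in
theorem exists_chain' (F : ℕ → Submodule k W) (h0 : F 0 = ⊥) (hF : ∀ j, F j ≤ F (j + 1)) (s : ℕ) :
    ∃ S : ℕ → Set W, S 0 = ∅ ∧ Monotone S ∧ LinearIndepOn k id (S s) ∧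
      ∀ j ≤ s, Submodule.span k (S j) = F j := by
  induction s with
  | zero =>
    refine ⟨fun _ => ∅, rfl, monotone_const, linearIndepOn_empty k id, fun j hj => ?_⟩
    obtain rfl : j = 0 := by omega
    rw [Submodule.span_empty, h0]
  | succ s ih =>
    obtain ⟨S, h0, hm, hl, hs⟩ := ih
    have hsub : S s ⊆ (F (s + 1) : Set W) := fun v hv => hF s (hs s le_rfl ▸ Submodule.subset_span hv)
    refine ⟨fun j => if j ≤ s then S j else hl.extend hsub, by simp [h0], ?_, ?_, ?_⟩
    · intro a b hab
      dsimp only
      split_ifs with h1 h2 h2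
      · exact hm hab
      · exact (hm h1).trans (hl.subset_extend hsub)
      · omega
      · exact le_rfl
    · simpa using hl.linearIndepOn_extend hsub
    · intro j hj
      dsimp only
      split_ifs with h1
      · exact hs j h1
      · obtain rfl : j = s + 1 := by omega
        apply le_antisymm
        · exact Submodule.span_le.2 (hl.extend_subset hsub)
        · exact hl.subset_span_extend hsub

theorem exists_level' (T : Module.End k W) (a : ℕ → k) (F : ℕ → Submodule k W) (hF0 : F 0 = ⊥)
    (hF : ∀ j, F j ≤ F (j + 1)) (s : ℕ) (hT : F s = ⊤) (hT' : ∀ j, ∀ v ∈ F (j + 1), T v - a j • v ∈ F j) :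
    ∃ (ι : Set W) (_ : Fintype ι) (b : Basis ι k W) (l : ι → ℕ), (∀ i, l i < s) ∧
      ∀ i j, ¬ l i < l j → b.repr (T (b j) - a (l j) • b j) i = 0 := by
  classical
  obtain ⟨S, h0, hm, hl, hs⟩ := exists_chain' F hF0 hF s
  have htop : ⊤ ≤ Submodule.span k (Set.range ((↑) : S s → W)) := by
    rw [Subtype.range_coe, hs s le_rfl, hT]
  let b : Basis (S s) k W := Basis.mk hl htop
  have hb : ∀ i, b i = i := fun i => Basis.mk_apply _ _ i
  have hfin : Finite (S s) := Module.Finite.finite_basis b
  have hex : ∀ v : S s, ∃ j, (v : W) ∈ S (j + 1) := fun v => ⟨s, hm (Nat.le_succ s) v.2⟩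
  have hlt : ∀ v : S s, Nat.find (hex v) < s := by
    intro v
    rcases s with _ | s
    · exact (Set.notMem_empty (v : W) (h0 ▸ v.2)).elim
    · exact Nat.lt_succ_of_le (Nat.find_min' _ v.2)
  refine ⟨S s, Fintype.ofFinite _, b, fun v => Nat.find (hex v), hlt, fun i j hij => ?_⟩
  have h1 : T (b j) - a (Nat.find (hex j)) • b j ∈
      Submodule.span k (b '' {i | Nat.find (hex i) < Nat.find (hex j)}) := by
    have h2 : (j : W) ∈ F (Nat.find (hex j) + 1) := by
      rw [← hs _ (hlt j)]
      exact Submodule.subset_span (Nat.find_spec (hex j))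
    have h3 : T (b j) - a (Nat.find (hex j)) • b j ∈ Submodule.span k (S (Nat.find (hex j))) := by
      rw [hs _ (hlt j).le, hb]
      exact hT' _ _ h2
    refine Submodule.span_mono (fun v hv => ?_) h3
    have hv' : v ∈ S s := hm (hlt j).le hv
    refine ⟨⟨v, hv'⟩, ?_, hb _⟩
    rcases hn : Nat.find (hex j) with _ | n
    · rw [hn, h0] at hv
      exact absurd hv (by simp)
    · rw [hn] at hv
      exact Nat.lt_succ_of_le (Nat.find_min' (hex ⟨v, hv'⟩) hv)
  have := b.mem_span_image.1 h1
  by_contra hne
  exact hij (this (Finsupp.mem_support_iff.2 hne))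

theorem card_le_comm' {ι : Type*} [Fintype ι] (b : Basis ι k W) (l : ι → ℕ) (d : ℕ → k)
    (T : Module.End k W) (h : ∀ i j, ¬ l i < l j → b.repr (T (b j) - d (l j) • b j) i = 0) :
    Fintype.card {p : ι × ι // l p.1 = l p.2} ≤ finrank k (comm T) := by
  classical
  set M : Matrix ι ι k := LinearMap.toMatrix b b T with hM
  have hM0 : ∀ i j, ¬ l i < l j → M i j = if i = j then d (l j) else 0 := fun i j hij => by
    have := h i j hij
    rw [map_sub, map_smul, Finsupp.sub_apply, sub_eq_zero, b.repr_self, Finsupp.smul_apply,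
      Finsupp.single_apply, smul_eq_mul] at this
    rw [hM, LinearMap.toMatrix_apply, this]
    by_cases e : i = j
    · simp [e]
    · simp [e, Ne.symm e]
  let P := {p : ι × ι // l p.1 ≤ l p.2}
  let N := {p : ι × ι // l p.1 < l p.2}
  let ext : (P → k) →ₗ[k] Matrix ι ι k :=
    { toFun := fun a => Matrix.of fun i j => if h : l i ≤ l j then a ⟨(i, j), h⟩ else 0
      map_add' := fun a b => by
        ext i j
        simp only [Matrix.of_apply, Matrix.add_apply, Pi.add_apply]
        split_ifs <;> simp
      map_smul' := fun c a => by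
        ext i j
        simp only [Matrix.of_apply, Matrix.smul_apply, Pi.smul_apply, RingHom.id_apply]
        split_ifs <;> simp }
  have hext0 : ∀ a i j, ¬ l i ≤ l j → ext a i j = 0 := fun a i j hij => by
    simp only [ext, LinearMap.coe_mk, AddHom.coe_mk, Matrix.of_apply, dif_neg hij]
  have hextinj : Function.Injective ext := by
    intro a a' haa
    funext p
    have := congrFun (congrFun haa p.1.1) p.1.2
    simpa only [ext, LinearMap.coe_mk, AddHom.coe_mk, Matrix.of_apply, dif_pos p.2] using this
  let res : Matrix ι ι k →ₗ[k] (N → k) :=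
    { toFun := fun A p => A p.1.1 p.1.2
      map_add' := fun _ _ => rfl
      map_smul' := fun _ _ => rfl }
  let Φ : (P → k) →ₗ[k] (N → k) :=
    res ∘ₗ (LinearMap.mulLeft k M - LinearMap.mulRight k M) ∘ₗ ext
  have hker : ∀ a ∈ LinearMap.ker Φ, M * ext a = ext a * M := by
    intro a ha
    rw [← sub_eq_zero]
    ext i j
    by_cases hij : l i < l j
    · exact congrFun (LinearMap.mem_ker.1 ha) ⟨(i, j), hij⟩
    · rw [Matrix.sub_apply, Matrix.mul_apply, Matrix.mul_apply, Finset.sum_eq_single i,
        Finset.sum_eq_single j, Matrix.zero_apply, hM0 i i (lt_irrefl _), hM0 j j (lt_irrefl _),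
        if_pos rfl, if_pos rfl]
      · by_cases e : l i = l j
        · rw [e, mul_comm, sub_self]
        · rw [hext0 a i j (by omega), mul_zero, zero_mul, sub_self]
      · intro t _ ht
        by_cases h1 : l t < l j
        · rw [hext0 a i t (by omega), zero_mul]
        · rw [hM0 t j h1, if_neg ht, mul_zero]
      · simp
      · intro t _ ht
        by_cases h1 : l i < l t
        · rw [hext0 a t j (by omega), mul_zero]
        · rw [hM0 i t h1, if_neg (Ne.symm ht), zero_mul]
      · simp
  have hmem : ∀ a : LinearMap.ker Φ,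
      ((Matrix.toLin b b).toLinearMap ∘ₗ ext ∘ₗ (LinearMap.ker Φ).subtype) a ∈ comm T := by
    intro a
    change T * Matrix.toLin b b (ext a) = Matrix.toLin b b (ext a) * T
    have hT : T = Matrix.toLin b b M := by rw [hM, Matrix.toLin_toMatrix]
    rw [hT, Module.End.mul_eq_comp, Module.End.mul_eq_comp, ← Matrix.toLin_mul, ← Matrix.toLin_mul,
      hker a a.2]
  have h1 := LinearMap.finrank_le_finrank_of_injective
    (f := LinearMap.codRestrict (comm T) _ hmem) (by
      intro a a' haa
      have h2 : Matrix.toLin b b (ext a) = Matrix.toLin b b (ext a') := congrArg Subtype.val haa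
      exact Subtype.ext (hextinj ((Matrix.toLin b b).injective h2)))
  have h2 := Φ.finrank_range_add_finrank_ker
  have h3 : finrank k (LinearMap.range Φ) ≤ Fintype.card N := by
    rw [← Module.finrank_fintype_fun_eq_card k]
    exact Submodule.finrank_le _
  rw [Module.finrank_fintype_fun_eq_card] at h2
  have h4 : Fintype.card P = Fintype.card {p : ι × ι // l p.1 = l p.2} + Fintype.card N := by
    simp only [P, N, Fintype.card_subtype]
    rw [← Finset.card_union_of_disjoint]
    · congr 1
      ext p
      simp [le_iff_eq_or_lt]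
    · rw [Finset.disjoint_filter]
      intro p _ h1 h2
      omega
  omega

theorem split_poly [IsAlgClosed k] (s : ℕ) : ∀ g : k[X], g ≠ 0 → g.natDegree = s →
    ∃ (c : k) (a : ℕ → k), c ≠ 0 ∧ g = C c * ∏ i ∈ Finset.range s, (X - C (a i)) := by
  induction s with
  | zero =>
    intro g h0 hg
    refine ⟨g.coeff 0, fun _ => 0, fun e => h0 ?_, ?_⟩
    · rw [eq_C_of_natDegree_eq_zero hg, e, map_zero]
    · simpa using eq_C_of_natDegree_eq_zero hg
  | succ s ih =>
    intro g h0 hg
    obtain ⟨z, hz⟩ := IsAlgClosed.exists_root g (degree_ne_of_natDegree_ne (by rw [hg]; simp))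
    obtain ⟨g', rfl⟩ := dvd_iff_isRoot.2 hz
    have h1 : g' ≠ 0 := right_ne_zero_of_mul h0
    rw [natDegree_mul (X_sub_C_ne_zero z) h1, natDegree_X_sub_C] at hg
    obtain ⟨c, a, hc, e⟩ := ih g' h1 (by omega)
    refine ⟨c, fun i => if i = s then z else a i, hc, ?_⟩
    beta_reduce
    rw [Finset.prod_range_succ, if_pos rfl, Finset.prod_congr rfl (g := fun i => X - C (a i))
      fun i hi => by rw [if_neg (Finset.mem_range.1 hi).ne], e]
    ring

theorem comm_ge_poly [IsAlgClosed k] (T : Module.End k W) (g : k[X]) (h0 : g ≠ 0) (hT : aeval T g = 0)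
    {s : ℕ} (hs : g.natDegree ≤ s) :
    finrank k W ≤ finrank k (comm T) ∧ finrank k W ^ 2 ≤ s * finrank k (comm T) := by
  classical
  obtain ⟨c, a, hc, e⟩ := split_poly _ g h0 rfl
  obtain ⟨ι, _, b, l, hl, h⟩ := exists_level' T a
    (fun j => LinearMap.ker (aeval T (∏ i ∈ Finset.range j, (X - C (a i))))) (by
      rw [Finset.prod_range_zero, map_one]; exact LinearMap.ker_id)
    (fun j v hv => by
      rw [LinearMap.mem_ker, Finset.prod_range_succ, mul_comm, map_mul, Module.End.mul_apply,
        LinearMap.mem_ker.1 hv, map_zero]) g.natDegree (by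
      rw [e, map_mul, aeval_C, Algebra.algebraMap_eq_smul_one, smul_mul_assoc, one_mul, smul_eq_zero] at hT
      rw [hT.resolve_left hc, LinearMap.ker_zero])
    (fun j v hv => by
      rw [LinearMap.mem_ker, Finset.prod_range_succ, map_mul, Module.End.mul_apply] at hv
      simpa using hv)
  have h1 := card_le_comm' b l a T h
  rw [finrank_eq_card_basis b]
  constructor
  · refine le_trans ?_ h1
    exact Fintype.card_le_of_injective (fun i => ⟨(i, i), rfl⟩) fun i j hij => by
      simpa using hij
  · refine le_trans ?_ (Nat.mul_le_mul_left s h1)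
    have h2 : Fintype.card ι = ∑ t ∈ Finset.range s, (Finset.univ.filter fun i => l i = t).card :=
      Finset.card_eq_sum_card_fiberwise fun i _ => Finset.mem_range.2 ((hl i).trans_le hs)
    have h3 : Fintype.card {p : ι × ι // l p.1 = l p.2} =
        ∑ t ∈ Finset.range s, (Finset.univ.filter fun i => l i = t).card ^ 2 := by
      rw [Fintype.card_subtype, Finset.card_eq_sum_card_fiberwise (f := fun p : ι × ι => l p.1)
        (t := Finset.range s) fun p _ => Finset.mem_range.2 ((hl p.1).trans_le hs)]
      refine Finset.sum_congr rfl fun t _ => ?_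
      rw [sq, ← Finset.card_product]
      congr 1
      ext p
      simp only [Finset.mem_filter, Finset.mem_univ, true_and, Finset.mem_product]
      constructor
      · rintro ⟨h1, h2⟩; exact ⟨h2, h1 ▸ h2⟩
      · rintro ⟨h1, h2⟩; exact ⟨h1.trans h2.symm, h1⟩
    rw [h2, h3]
    simpa using sq_sum_le_card_mul_sum_sq (s := Finset.range s)
      (f := fun t => (Finset.univ.filter fun i => l i = t).card)

end Cfsg.Agent.PG.Tu
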