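import Mathlib
import Cfsg.Agent.PG.Tu2

/-! A Hall-Higman type count for two commuting elements. -/

set_option autoImplicit false
set_option linter.unusedVariables false

namespace Cfsg.Agent.PG.Tu

open Cfsg.Agent.BG Cfsg.Agent.BG.Amb Subgroup Cfsg.Agent.PG.HHS Cfsg.Agent.H23.HH Module
  Cfsg.Agent.BG.RepGlue Cfsg.Agent.BG.RepWeight Cfsg.Agent.BG.RepFrob Cfsg.Agent.BG.RepExtra
  Cfsg.Agent.BG.RepPrime Polynomial
open scoped Pointwise commutatorElement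

variable {k G W : Type*} [Field k] [Group G] [Finite G] [AddCommGroup W] [Module k W]
  [IsAlgClosed k] [FiniteDimensional k W] {ρ : Representation k G W}

theorem wa {Z R : Subgroup G} {x : G} (hR : (Nat.card R).Prime) (hZ : (Nat.card Z : k) ≠ 0)
    (hRZ : R ≤ 𝐍(Z)) (hxZ : x ∈ 𝐍(Z)) (hx : x ∈ 𝐂(R)) (hc : (orderOf x).Coprime (Nat.card R))
    (hle : ⁅Z, R⁆ ≤ ⁅Z, zpowers x⁆) {U : Submodule k W} (hinv : ∀ a ∈ Z, ∀ v ∈ U, ρ a v ∈ U)
    (hcomm : ∀ a ∈ Z, ∀ b ∈ Z, ∀ v ∈ U, ρ a (ρ b v) = ρ b (ρ a v))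
    (hid : ∀ v, ρ x (nm ρ R v) = nm ρ R v) : ∀ g ∈ ⁅Z, R⁆, ∀ v ∈ U, ρ g v = v := by
  classical
  intro g hg u hu
  by_contra hgu
  obtain ⟨μ, hμ, v, hv, hv0, hvμ⟩ := exists_wt_not_mem hZ U hinv hcomm (comm_le_left hRZ hg) hu hgu
  have a1 : ∀ σ ∈ R, σ ≠ 1 → σ ∉ stab μ := fun σ hσ h1 e => hμ ((le_stab_iff hRZ).1
    ((le_zpowers_of_prime hR σ hσ h1).trans (zpowers_le.2 e)) hg)
  have a2 : ∀ σ ∈ R, x * σ ∉ stab μ := fun σ hσ e => by
    by_cases h1 : σ = 1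
    · rw [h1, mul_one] at e
      exact hμ ((le_stab_iff (zpowers_le.2 hxZ)).1 (zpowers_le.2 e) (hle hg))
    · exact a1 σ hσ h1 (zpowers_le.2 e (mem_zpowers_mul_of_coprime' (mem_cent.1 hx σ hσ).symm
        (hc.coprime_dvd_right (R.orderOf_dvd_natCard hσ))))
  obtain ⟨e, he1, he2⟩ := exists_proj ρ hZ μ
  have a3 := congrArg e (hid v)
  rw [nm_apply, map_sum, map_sum, map_sum, Finset.sum_eq_zero, Finset.sum_eq_single 1, map_one,
    Module.End.one_apply, he1 v hvμ] at a3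
  · exact hv0 a3.symm
  · intro σ hσ h1
    have h2 := mem_els.1 hσ
    exact he2 _ (fun h4 => a1 σ h2 h1 ⟨hRZ h2, h4⟩) _ (apply_mem_wt ⟨σ, hRZ h2⟩ hvμ)
  · exact fun h => absurd (mem_els.2 (one_mem _)) h
  · intro σ hσ
    have h2 := mem_els.1 hσ
    rw [← Module.End.mul_apply (ρ x), ← map_mul]
    exact he2 _ (fun h4 => a2 σ h2 ⟨mul_mem hxZ (hRZ h2), h4⟩) _
      (apply_mem_wt ⟨x * σ, mul_mem hxZ (hRZ h2)⟩ hvμ)

omit [IsAlgClosed k] [FiniteDimensional k W] in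
theorem sum_pow_eq_nm {R : Subgroup G} (hR : (Nat.card R).Prime) {τ : G} (hτ : τ ∈ R) (h1 : τ ≠ 1) :
    ∑ i ∈ Finset.range (Nat.card R), ρ (τ ^ i) = nm ρ R := by
  have ho : orderOf τ = Nat.card R :=
    ((Nat.dvd_prime hR).1 (R.orderOf_dvd_natCard hτ)).resolve_left fun e => h1 (orderOf_eq_one_iff.1 e)
  classical
  refine Finset.sum_bij (fun i _ => τ ^ i) (fun i _ => mem_els.2 (pow_mem hτ i))
    (fun i hi j hj e => pow_injOn_Iio_orderOf (by simpa [ho] using hi) (by simpa [ho] using hj) e)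
    (fun g hg => ?_) fun _ _ => rfl
  obtain ⟨i, hi, e⟩ := Finset.mem_image.1 (mem_zpowers_iff_mem_range_orderOf.1
    (le_zpowers_of_prime hR τ hτ h1 (mem_els.1 hg)))
  exact ⟨i, ho ▸ hi, e⟩

theorem core_s [Nontrivial W] {P Z : Subgroup G} {h : G} {o : ℕ} (hPZ : P ≤ 𝐍(Z)) (hh : h ∈ 𝐍(P))
    (hZscal : ∀ z ∈ Z, ∃ c : k, ρ z = c • 1) (hcommZ : ∀ a ∈ P, ∀ b ∈ P, ⁅a, b⁆ ∈ Z)
    (hnd : ∀ g ∈ P, (∀ y ∈ P, ρ y * ρ g = ρ g * ρ y) → g ∈ Z) (hne : ¬ P ≤ Z)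
    (ho : ∃ c : k, ρ (h ^ o) = c • 1) (ho0 : 0 < o)
    (hfree : ∀ i, ¬ o ∣ i → ∀ a ∈ P, ∃ b ∈ P, ∃ z ∈ Z, a = b⁻¹ * ((h ^ i)⁻¹ * b * h ^ i) * z)
    (hP : (Nat.card P : k) ≠ 0)
    (hirr : ∀ U : Submodule k W, (∀ g ∈ P, ∀ v ∈ U, ρ g v ∈ U) →
      (∀ g ∈ zpowers h, ∀ v ∈ U, ρ g v ∈ U) → U = ⊥ ∨ U = ⊤)
    (g : k[X]) (g0 : g ≠ 0) (hg : aeval (ρ h) g = 0) {s : ℕ} (hs : g.natDegree ≤ s) (hlt : s < o) :
    finrank k W ^ 2 = Z.relIndex P ∧ o = finrank k W + 1 ∧ finrank k W ≤ s := by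
  classical
  obtain ⟨G', _, _, π, ρ', hπ, e1, e2⟩ := exists_faithful_quot (conjRep ρ)
  have hcomm : ∀ a ∈ P, ∀ b ∈ P, conjRep ρ a * conjRep ρ b = conjRep ρ b * conjRep ρ a := by
    intro a ha b hb
    rw [← map_mul, ← map_mul, show a * b = ⁅a, b⁆ * (b * a) by rw [commutatorElement_def]; group,
      map_mul, conjRep_scalar ρ (hZscal _ (hcommZ a ha b hb)), one_mul]
  have hf : ∀ i, ¬ o ∣ i → ∀ a ∈ P, ∃ b ∈ P, ρ' (π a) = ρ' ((π b)⁻¹ * ((π h ^ i)⁻¹ * π b * π h ^ i)) :=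
    fun i hi a ha => by
      obtain ⟨b, hb, z, hz, hab⟩ := hfree i hi a ha
      refine ⟨b, hb, ?_⟩
      rw [← map_pow, ← map_inv, ← map_inv, ← map_mul, ← map_mul, ← map_mul, e1, e1, hab, map_mul,
        conjRep_scalar ρ (hZscal z hz), mul_one]
  have o1 : π h ^ o = 1 := e2 _ (by rw [← map_pow, e1, conjRep_scalar ρ ho])
  have o2 : orderOf (π h) = o := Nat.dvd_antisymm (orderOf_dvd_of_pow_eq_one o1) (by
    by_contra e
    refine hne fun a ha => hnd a ha fun y hy => ?_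
    obtain ⟨b, hb, e3⟩ := hf _ e a ha
    rw [pow_orderOf_eq_one, inv_one, one_mul, mul_one, inv_mul_cancel, map_one, e1] at e3
    have := LinearMap.congr_fun e3 (ρ y)
    rw [conjRep_apply, Module.End.one_apply] at this
    conv_lhs => rw [← this]
    rw [mul_assoc, ← map_mul ρ a⁻¹, inv_mul_cancel, map_one, mul_one])
  have h1 := weight_formula ρ' (P.map π) (zpowers (π h))
    (zpowers_le.2 (Core.map_le_normalizer_map (zpowers_le.2 hh) π (mem_map_of_mem π (mem_zpowers h))))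
    (fun e => hP (by
      obtain ⟨m, hm⟩ := Core.card_map_dvd P π
      rw [hm, Nat.cast_mul, e, zero_mul]))
    (by rintro _ ⟨a, ha, rfl⟩ _ ⟨b, hb, rfl⟩; rw [e1, e1, hcomm a ha b hb])
    (by
      rintro e he he1 _ ⟨a, ha, rfl⟩
      obtain ⟨i, rfl⟩ := mem_powers_iff_mem_zpowers.2 he
      obtain ⟨b, hb, e3⟩ := hf i (fun d => he1 (orderOf_dvd_iff_pow_eq_one.1 (o2 ▸ d))) a ha
      exact ⟨_, mem_map_of_mem π hb, e3⟩)
  have f1 : ∀ A : Subgroup G, fixSub ρ' (A.map π) = fixSub (conjRep ρ) A := fun A => by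
    ext f
    exact ⟨fun hf a ha => by rw [← e1]; exact hf _ (mem_map_of_mem π ha),
      by rintro hf _ ⟨a, ha, rfl⟩; rw [e1]; exact hf a ha⟩
  rw [Nat.card_zpowers, o2, ← MonoidHom.map_zpowers, f1, f1] at h1
  have h2 : fixSub (conjRep ρ) (zpowers h) ⊓ fixSub (conjRep ρ) P = Submodule.span k {1} := by
    apply le_antisymm
    · rintro f ⟨hfH, hfP⟩
      rw [SetLike.mem_coe, mem_fixSub_conjRep] at hfH hfP
      obtain ⟨c, hc⟩ := exists_scalar ((fun g => ρ g) '' ((P : Set G) ∪ zpowers h)) ⊤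
        top_ne_bot (fun _ _ _ _ => Submodule.mem_top)
        (fun N _ hN => hirr N (fun g hg => hN _ ⟨g, Or.inl hg, rfl⟩)
          (fun g hg => hN _ ⟨g, Or.inr hg, rfl⟩)) f (fun _ _ => Submodule.mem_top) (by
          rintro _ ⟨g, hg, rfl⟩ v _
          rw [← Module.End.mul_apply, ← Module.End.mul_apply, hg.elim (hfP g) (hfH g)])
      rw [Submodule.mem_span_singleton]
      exact ⟨c, LinearMap.ext fun v => (hc v Submodule.mem_top).symm⟩
    · rw [Submodule.span_le, Set.singleton_subset_iff]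
      exact ⟨mem_fixSub_conjRep.2 (by simp), mem_fixSub_conjRep.2 (by simp)⟩
  rw [h2, finrank_span_singleton one_ne_zero, mul_one, Module.finrank_linearMap, ← sq] at h1
  have h3 := finrank_sq_eq ρ P Z hPZ hZscal hcommZ hnd hP
  have hd : 1 ≤ finrank k (fixSub (conjRep ρ) P) := by
    rw [Nat.one_le_iff_ne_zero]
    intro h
    rw [h, mul_zero] at h3
    exact (Module.finrank_pos (R := k) (M := W)).ne' (pow_eq_zero_iff two_ne_zero |>.1 h3)
  have hN : 2 ≤ finrank k W := by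
    by_contra hlt
    have h2 : finrank k W = 1 := le_antisymm (by omega) Module.finrank_pos
    rw [h2, one_pow, eq_comm] at h3
    exact hne (relIndex_eq_one.1 (Nat.eq_one_of_mul_eq_one_right h3))
  have h4 : fixSub (conjRep ρ) (zpowers h) = comm (ρ h) := by
    ext f
    rw [mem_fixSub_conjRep]
    refine ⟨fun e => e h (mem_zpowers h), fun e a ha => ?_⟩
    obtain ⟨n, rfl⟩ := (mem_powers_iff_mem_zpowers.2 ha)
    change ρ (h ^ n) * f = f * ρ (h ^ n)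
    rw [map_pow]
    exact (Commute.pow_left e n).eq
  rw [h4] at h1
  obtain ⟨h5, h6⟩ := comm_ge_poly (ρ h) g g0 hg hs
  obtain ⟨e1, e2, e3⟩ := arith_p h1 hd hlt h5 h6 hN
  rw [e1, mul_one] at h3
  exact ⟨h3, e2, e3⟩

/-- The configuration for the count. -/
structure H3 (B D R : Subgroup G) (x : G) (u : ℕ) : Prop where
  hR : (Nat.card R).Prime
  hu : u.Prime
  ur : u ≠ Nat.card R
  DB : D ≤ B
  BB : ⁅B, B⁆ ≤ D
  Dc : D ≤ 𝐂(B)
  Dx : x ∈ 𝐂(D)
  DR : R ≤ 𝐂(D)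
  xB : x ∈ 𝐍(B)
  RB : R ≤ 𝐍(B)
  xR : x ∈ 𝐂(R)
  Bx : B ≤ ⁅B, zpowers x⁆ ⊔ D
  fR : B ⊓ 𝐂(R) ≤ D
  xu : x ^ u ∈ 𝐂(B)
  px : IsPGroup u (zpowers x)
  cx : (Nat.card B).Coprime u
  cR : (Nat.card B).Coprime (Nat.card R)
  sol : Group.IsSolvable B

theorem H3.rep {B D R : Subgroup G} {x : G} {u : ℕ} (h : H3 B D R x u) (hB : (Nat.card B : k) ≠ 0)
    (top : B ⊔ zpowers x ⊔ R = ⊤) (hid : ∀ v, ρ x (nm ρ R v) = nm ρ R v) (hne : ∃ g ∈ ⁅B, R⁆, ρ g ≠ 1) :
    u = 2 ∧ ∃ K ≤ D, ¬ ⁅B, B⁆ ≤ K ∧ (rad B K).relIndex B = (2 * Nat.card R - 1) ^ 2 := by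
  have := Fact.mk h.hu
  obtain ⟨m, hm⟩ := IsPGroup.iff_card.1 h.px
  have c1 : (orderOf x).Coprime (Nat.card R) := by
    rw [← Nat.card_zpowers, hm]; exact ((Nat.coprime_primes h.hu h.hR).2 h.ur).pow_left m
  have c2 : (Nat.card B).Coprime (Nat.card (zpowers x)) := hm ▸ h.cx.pow_right m
  have nD : B ≤ 𝐍(D) := le_norm_of_le_cent (le_cent_symm h.Dc)
  have fx : B ⊓ 𝐂(zpowers x) ≤ D := by
    have a1 : D ≤ Rd B {x} D := fun d hd => (mem_Rd1 nD).2 ⟨h.DB hd, by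
      rw [cm_one.2 (mem_cent.1 h.Dx d hd)]; exact one_mem _⟩
    rw [eq_of_le_of_card_ge a1 (card_Rd h.DB h.BB h.xB h.Bx).le]
    exact fun g hg => (mem_Rd1 nD).2 ⟨hg.1, by
      rw [cm_one.2 (mem_cent.1 hg.2 x (mem_zpowers x)).symm]; exact one_mem _⟩
  have wa' : ∀ A ≤ B, R ≤ 𝐍(A) → x ∈ 𝐍(A) → ⁅A, R⁆ ≤ ⁅A, zpowers x⁆ := fun A h1 h2 h3 => by
    have a1 := coprime_comm_sup_cent (zpowers_le.2 h3) (Core.coprime_of_le_left c2 h1)
      (Or.inr (solvable_mono h.sol h1))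
    have a2 : R ≤ 𝐍(⁅A, zpowers x⁆) := le_norm_comm h2 (le_norm_of_le_cent (le_cent_symm (zpowers_le.2 h.xR)))
    refine commutator_le.2 fun a ha σ hσ => ?_
    obtain ⟨b, hb, c, hc, rfl⟩ := (Core.mem_sup_of_le_normalizer
      (inf_le_left.trans (norm_comm_left _ _))).1 (a1.ge ha)
    rw [cm_mul_left, cm_one.2 (mem_cent.1 (h.DR hσ) c (fx ⟨h1 hc.1, hc.2⟩)), mul_one, mul_inv_cancel, one_mul]
    exact cm_mem hb (a2 hσ)
  by_cases e : ∀ g ∈ ⁅B, B⁆, ρ g = 1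
  · obtain ⟨g, hg, g1⟩ := hne
    refine absurd (LinearMap.ext fun v => wa (U := ⊤) h.hR hB h.RB h.xB h.xR c1 (wa' B le_rfl h.RB h.xB)
      (fun _ _ _ _ => trivial) (fun a ha b hb v _ => ?_) hid g hg v trivial) g1
    rw [apply_comm, e _ (commutator_mem_commutator ha hb), Module.End.one_apply]
  push Not at e
  obtain ⟨g, hg, g1⟩ := e
  obtain ⟨l, hl, hwt⟩ := exists_wt_of_comm (ρ := ρ) (cast_card_ne_zero_of_le h.DB hB)
    (h.Dc.trans (cent_anti h.DB)) (h.BB hg) g1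
  have t1 : ∀ g, g ∈ 𝐂(D) := fun g => (top.ge.trans
    (sup_le (sup_le (le_cent_symm h.Dc) (zpowers_le.2 h.Dx)) h.DR)) (mem_top g)
  have t2 : ∀ g, ∀ v ∈ wt ρ D l, ρ g v ∈ wt ρ D l := fun g v hv =>
    apply_mem_wt_of_stab (cent_le_stab l (t1 g)) hv
  have nK : ∀ A : Subgroup G, A ≤ 𝐍(kerG l) := fun A g _ => stab_le_norm_kerG l (cent_le_stab l (t1 g))
  have nA : ∀ A : Subgroup G, A ≤ 𝐍(B) → A ≤ 𝐍(rad B (kerG l)) := fun A e => le_norm_rad e (nK A)
  have hA := rad_le B (kerG l)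
  have hDA := le_rad_of_cent h.DB h.Dc l
  have a1 := wa (U := wt ρ D l) h.hR (cast_card_ne_zero_of_le hA hB) (nA R h.RB)
    (nA _ (zpowers_le.2 h.xB) (mem_zpowers x)) h.xR c1
    (wa' _ hA (nA R h.RB) (nA _ (zpowers_le.2 h.xB) (mem_zpowers x))) (fun a _ => t2 a)
    (fun a ha b hb v hv => by
      rw [apply_comm, apply_eq_of_mem_kerG (((mem_rad (nK B)).1 ha).2 b (hA hb)) (t2 _ _ (t2 _ _ hv))]) hid
  have a2 : ∀ z ∈ rad B (kerG l), ∃ c : k, ∀ v ∈ wt ρ D l, ρ z v = c • v := fun z hz => by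
    obtain ⟨b, hb, c, hc, rfl⟩ := (Core.mem_sup_of_le_normalizer
      (inf_le_left.trans (norm_comm_left _ _))).1 ((coprime_comm_sup_cent (nA R h.RB)
        (Core.coprime_of_le_left h.cR hA) (Or.inl (sol_prime h.hR))).ge hz)
    have hc' := h.fR ⟨hA hc.1, hc.2⟩
    exact ⟨l ⟨c, hc'⟩, fun v hv => by
      rw [map_mul, Module.End.mul_apply, hv ⟨c, hc'⟩, map_smul, a1 b hb v hv]⟩
  obtain ⟨U, hUU, hU, hinv, hmin⟩ := exists_minimal_invariant (Set.range fun g => ρ g) _ hwt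
    (by rintro _ ⟨g, rfl⟩; exact t2 g)
  have : Nontrivial U := Submodule.nontrivial_iff_ne_bot.2 hU
  let ρ₁ : Representation k G U := ρ.subrepresentation U fun g v hv => hinv _ ⟨g, rfl⟩ v hv
  have r1 : ∀ g (v : U), (ρ₁ g v : W) = ρ g v := fun _ _ => rfl
  obtain ⟨σ, hσ, σ1⟩ := exists_mem_ne_one (H := R) fun e => by
    have := h.hR; rw [e, card_bot] at this; exact Nat.not_prime_one this
  have cm : Commute x σ := (mem_cent.1 h.xR σ hσ).symm
  have σr : σ ^ Nat.card R = 1 := congrArg Subtype.val (pow_card_eq_one' (x := (⟨σ, hσ⟩ : R)))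
  have σo : orderOf σ = Nat.card R :=
    ((Nat.dvd_prime h.hR).1 (R.orderOf_dvd_natCard hσ)).resolve_left fun e => σ1 (orderOf_eq_one_iff.1 e)
  have cxu : ∀ g, Commute (x ^ u) g := fun g => by
    have : ⊤ ≤ 𝐂(zpowers (x ^ u)) := top.ge.trans (sup_le (sup_le (le_cent_symm (zpowers_le.2 h.xu))
      (le_cent_of_comm inferInstance le_rfl (zpowers_le.2 (pow_mem (mem_zpowers x) u))))
      (le_cent_symm (zpowers_le.2 (pow_mem h.xR u))))
    exact mem_cent.1 (this (mem_top g)) _ (mem_zpowers _)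
  obtain ⟨ω, hω⟩ := exists_scalar (Set.range fun g => ρ g) U hU hinv hmin (ρ (x ^ u))
    (hinv _ ⟨_, rfl⟩) (by
      rintro _ ⟨g, rfl⟩ v _
      rw [← Module.End.mul_apply, ← Module.End.mul_apply, ← map_mul, ← map_mul, (cxu g).eq])
  have hω' : ρ₁ (x ^ u) = ω • 1 := LinearMap.ext fun v => Subtype.ext (hω v v.2)
  have u0 := h.hu.two_le
  have r0 := h.hR.two_le
  have hk := core_s (ρ := ρ₁) (h := x * σ) (o := u * Nat.card R) (s := 1 + u * (Nat.card R - 1))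
    (nA B le_normalizer) (mul_mem h.xB (h.RB hσ))
    (fun z hz => (a2 z hz).imp fun c hc => LinearMap.ext fun v => Subtype.ext (hc v (hUU v.2)))
    (fun a ha b hb => hDA (h.BB (commutator_mem_commutator ha hb)))
    (fun g hg hc => (mem_rad (nK B)).2 ⟨hg, fun b hb => by
      obtain ⟨v, hv, hv0⟩ := (Submodule.ne_bot_iff _).1 hU
      refine mem_kerG_of_apply_eq (h.BB (commutator_mem_commutator hg hb))
        (t2 b _ (t2 g v (hUU hv))) (apply_ne_zero b (apply_ne_zero g hv0)) ?_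
      rw [← apply_comm]
      exact (congrArg Subtype.val (LinearMap.congr_fun (hc b hb) ⟨v, hv⟩)).symm⟩)
    (fun e => hl (((le_rad_iff (nK B)).1 e).2 hg))
    ⟨ω ^ Nat.card R, by
      rw [cm.mul_pow, mul_comm u, pow_mul σ, σr, one_pow, mul_one, mul_comm, pow_mul, map_pow, hω',
        _root_.smul_pow, one_pow]⟩ (by positivity)
    (fun i hi => comm_surj' hA (h.BB.trans hDA) (pow_mem (mul_mem h.xB (h.RB hσ)) i) (by
      have c3 : (orderOf (x ^ i)).Coprime (orderOf (σ ^ i)) :=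
        (c1.coprime_dvd_left (orderOf_pow_dvd i)).coprime_dvd_right (σo ▸ orderOf_pow_dvd i)
      rw [cm.mul_pow]
      by_cases e : σ ^ i = 1
      · have d1 : u.Coprime i := (Nat.Prime.coprime_iff_not_dvd h.hu).2 fun d => hi
          (((Nat.coprime_primes h.hu h.hR).2 h.ur).mul_dvd_of_dvd_of_dvd d
            (σo ▸ orderOf_dvd_of_pow_eq_one e))
        rw [e, mul_one]
        refine h.Bx.trans (sup_le_sup (commutator_mono le_rfl (zpowers_le.2 ?_)) hDA)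
        exact mem_zpowers_pow_iff.2 (by
          rw [← Nat.card_zpowers, hm]; exact (d1.symm.pow_right m))
      · refine (coprime_comm_sup_cent h.RB h.cR (Or.inr h.sol)).ge.trans (sup_le_sup (commutator_mono le_rfl
          ((le_zpowers_of_prime h.hR _ (pow_mem hσ i) e).trans (zpowers_le.2 ?_))) (h.fR.trans hDA))
        exact mem_zpowers_mul_of_coprime' (cm.pow_pow i i) c3)) hB
    (fun N h1 h2 => by
      let S : Subgroup G := stabU ρ₁ N
      have d1 : x ∈ zpowers (x * σ) := mem_zpowers_mul_of_coprime cm (σo ▸ c1)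
      have d2 : σ ∈ zpowers (x * σ) := mem_zpowers_mul_of_coprime' cm (σo ▸ c1)
      have d3 : ⊤ ≤ S := top.ge.trans (sup_le (sup_le (le_stabU.2 h1) ((zpowers_le.2 d1).trans (le_stabU.2 h2)))
        ((le_zpowers_of_prime h.hR σ hσ σ1).trans ((zpowers_le.2 d2).trans (le_stabU.2 h2))))
      refine (hmin (N.map U.subtype) (Submodule.map_subtype_le _ _) (by
        rintro _ ⟨g, rfl⟩ _ ⟨v, hv, rfl⟩
        exact ⟨_, le_stabU.1 d3 g (mem_top g) v hv, rfl⟩)).imp (fun e => ?_) fun e => ?_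
      · exact Submodule.map_injective_of_injective U.injective_subtype (by rw [e, Submodule.map_bot])
      · exact Submodule.map_injective_of_injective U.injective_subtype (by rw [e, Submodule.map_subtype_top]))
    ((X - C 1) * ∑ i ∈ Finset.range (Nat.card R), (X ^ u) ^ i * C ω ^ (Nat.card R - 1 - i))
    (mul_ne_zero (X_sub_C_ne_zero 1) fun e => by
      have := geom_sum₂_mul (X ^ u : k[X]) (C ω) (Nat.card R)
      rw [e, zero_mul, ← pow_mul, ← map_pow] at this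
      exact X_pow_sub_C_ne_zero (by positivity) _ this.symm)
    (by
      have d1 : σ ^ u ≠ 1 := fun e => h.ur ((Nat.prime_dvd_prime_iff_eq h.hR h.hu).1
        (σo ▸ orderOf_dvd_of_pow_eq_one e)).symm
      have d2 : aeval (ρ₁ (x * σ)) (∑ i ∈ Finset.range (Nat.card R), (X ^ u) ^ i * C ω ^ (Nat.card R - 1 - i)) =
          ω ^ (Nat.card R - 1) • nm ρ₁ R := by
        rw [← sum_pow_eq_nm h.hR (pow_mem hσ u) d1, map_sum, Finset.smul_sum]
        refine Finset.sum_congr rfl fun i hi => ?_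
        rw [map_mul, map_pow, map_pow, map_pow, aeval_X, aeval_C, ← map_pow ρ₁, cm.mul_pow, map_mul, hω',
          Algebra.algebraMap_eq_smul_one, _root_.smul_pow, one_pow, smul_mul_assoc, one_mul, _root_.smul_pow,
          mul_smul_comm, mul_one, smul_smul, ← pow_add,
          Nat.sub_add_cancel (Nat.le_sub_one_of_lt (Finset.mem_range.1 hi))]
        simp only [map_pow]
      rw [map_mul, d2, map_sub, aeval_X, aeval_C, map_one, mul_smul_comm, sub_mul, one_mul]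
      refine smul_eq_zero.2 (Or.inr (sub_eq_zero.2 (LinearMap.ext fun v => ?_)))
      have d3 : (nm ρ₁ R v : W) = nm ρ R v := by
        rw [nm_apply, nm_apply, Submodule.coe_sum]; rfl
      rw [map_mul, Module.End.mul_apply, Module.End.mul_apply, nm_mem_fixSub v σ hσ]
      exact Subtype.ext (by rw [r1, d3, hid]))
    (natDegree_mul_le.trans (add_le_add (natDegree_X_sub_C_le _)
      (natDegree_sum_le_of_forall_le _ _ fun i hi => natDegree_mul_le.trans (by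
        rw [← map_pow, natDegree_C, ← pow_mul, natDegree_X_pow, add_zero]
        exact Nat.mul_le_mul_left u (Nat.le_sub_one_of_lt (Finset.mem_range.1 hi))))))
    (by obtain ⟨j, hj⟩ := Nat.exists_eq_add_of_le' h.hR.one_le; rw [hj]; simp only [add_tsub_cancel_right]; nlinarith)
  obtain ⟨k1, k2, k3⟩ := hk
  have k4 : u = 2 := by
    obtain ⟨j, hj⟩ := Nat.exists_eq_add_of_le' h.hR.one_le
    rw [hj] at k2 k3
    simp only [add_tsub_cancel_right] at k3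
    nlinarith
  exact ⟨k4, kerG l, kerG_le l, fun e => hl (e hg), by rw [← k1, ← k4, k2, Nat.add_sub_cancel]⟩

end Cfsg.Agent.PG.Tu
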