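import Mathlib
import Cfsg.Agent.PG.Tu3

/-! Group theoretic forms of the representation theoretic facts. -/

set_option autoImplicit false
set_option linter.unusedVariables false

namespace Cfsg.Agent.PG.Tu

open Cfsg.Agent.BG Cfsg.Agent.BG.Amb Subgroup Cfsg.Agent.PG.HHS Cfsg.Agent.H23.HH Module
  Cfsg.Agent.BG.RepGlue Cfsg.Agent.BG.RepWeight Cfsg.Agent.BG.RepFrob
open scoped Pointwise commutatorElement

variable {X : Type*} [Group X] [Finite X] {p : ℕ} [hp : Fact p.Prime]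

omit [Finite X] in
theorem comm_sub {A B L : Subgroup X} (hA : A ≤ L) (hB : B ≤ L) :
    ⁅A.subgroupOf L, B.subgroupOf L⁆.map L.subtype = ⁅A, B⁆ := by
  rw [map_commutator, map_subgroupOf_eq_of_le hA, map_subgroupOf_eq_of_le hB]

omit [Finite X] in
theorem comm_sub' {A B L : Subgroup X} (hA : A ≤ L) (hB : B ≤ L) :
    ⁅A.subgroupOf L, B.subgroupOf L⁆ = ⁅A, B⁆.subgroupOf L := by
  rw [← comm_sub hA hB]
  exact (comap_map_eq_self_of_injective L.subtype_injective _).symm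

omit [Finite X] in
theorem cent_sub {B L : Subgroup X} (hB : B ≤ L) : 𝐂(B.subgroupOf L) = 𝐂(B).subgroupOf L := by
  ext g
  exact ⟨fun h => mem_cent.2 fun b hb => congrArg Subtype.val (mem_cent.1 h ⟨b, hB hb⟩ hb),
    fun h => mem_cent.2 fun b hb => Subtype.ext (mem_cent.1 h b hb)⟩

omit [Finite X] in
theorem zp_sub {L : Subgroup X} (x : L) : zpowers x = (zpowers (x : X)).subgroupOf L := by
  apply map_injective L.subtype_injective
  rw [map_subgroupOf_eq_of_le (zpowers_le.2 x.2), MonoidHom.map_zpowers]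
  rfl

theorem dict {U L : Subgroup X} (hU : IsElementaryAbelian p U) (hL : L ≤ 𝐍(U)) :
    ∃ (n : ℕ) (ρ : Representation (AlgebraicClosure (ZMod p)) L (Fin n → AlgebraicClosure (ZMod p))),
      (∀ A B : Subgroup L, U ⊓ 𝐂(A.map L.subtype) ≤ 𝐂(B.map L.subtype) ↔ fixSub ρ A ≤ fixSub ρ B) ∧
      (∀ A : Subgroup L, U ⊓ 𝐂(A.map L.subtype) = ⊥ → fixSub ρ A = ⊥) ∧
      ∀ g : L, ρ g = 1 ↔ (g : X) ∈ 𝐂(U) := by
  obtain ⟨n, ρ, h1, h2, -⟩ := exists_rep_frob hU L.subtype (fun g => hL g.2) (AlgebraicClosure (ZMod p))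
  have a1 : ∀ S T : Set L, U ⊓ centralizer (L.subtype '' S) ≤ centralizer (L.subtype '' T) ↔
      fixSub ρ S ≤ fixSub ρ T := fun S T => by
    have b1 : fixSub ρ (S ∪ T) = fixSub ρ S ⊓ fixSub ρ T := by
      ext v
      exact ⟨fun h => ⟨fun g hg => h g (Or.inl hg), fun g hg => h g (Or.inr hg)⟩,
        fun h g hg => hg.elim (h.1 g) (h.2 g)⟩
    have b2 : U ⊓ centralizer (L.subtype '' (S ∪ T)) =
        (U ⊓ centralizer (L.subtype '' S)) ⊓ centralizer (L.subtype '' T) := by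
      rw [Set.image_union, inf_assoc]
      congr 1
      ext g
      exact ⟨fun h => ⟨fun a ha => h a (Or.inl ha), fun a ha => h a (Or.inr ha)⟩,
        fun h a ha => ha.elim (h.1 a) (h.2 a)⟩
    have b3 := h2 (S ∪ T)
    rw [b1, b2] at b3
    constructor
    · intro h
      rw [inf_eq_left.2 h, h2 S] at b3
      exact inf_eq_left.1 (Submodule.eq_of_le_of_finrank_eq inf_le_left
        (Nat.pow_right_injective hp.out.two_le b3).symm)
    · intro h
      rw [inf_eq_left.2 h, ← h2 S] at b3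
      exact inf_eq_left.1 (eq_of_le_of_card_ge inf_le_left b3.ge)
  refine ⟨n, ρ, fun A B => a1 A B, fun A h => ?_, fun g => ?_⟩
  · have b := h2 A
    rw [← coe_map, h, card_bot] at b
    exact Submodule.finrank_eq_zero.1 (Nat.pow_right_injective hp.out.two_le (b.symm.trans (pow_zero p).symm))
  · have b := a1 ∅ {g}
    rw [fixSub_eq_top_iff.2 (by simp), top_le_iff, fixSub_eq_top_iff] at b
    simp only [Set.image_empty, Set.image_singleton, Set.mem_singleton_iff, forall_eq] at b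
    rw [← b]
    exact ⟨fun h => mem_cent.2 fun a ha => (h ⟨ha, fun _ e => e.elim⟩ _ rfl).symm,
      fun h a ha _ e => e ▸ (mem_cent.1 h a ha.1).symm⟩

theorem cast_ne {n : ℕ} (h : n.Coprime p) : (n : AlgebraicClosure (ZMod p)) ≠ 0 := fun e =>
  (Nat.Prime.coprime_iff_not_dvd hp.out).1 h.symm ((CharP.cast_eq_zero_iff _ p n).1 e)

theorem f1 {U G R : Subgroup X} (hU : IsElementaryAbelian p U) (hR : (Nat.card R).Prime)
    (hG : G ≤ 𝐍(U)) (hRU : R ≤ 𝐍(U)) (hRG : R ≤ 𝐍(G)) (hc : (Nat.card G).Coprime (Nat.card R))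
    (h : U ⊓ 𝐂(R) = ⊥) {g : X} (hg : g ∈ OO ⁅G, R⁆) (hp' : (orderOf g).Coprime p) : g ∈ 𝐂(U) := by
  by_cases h2 : Nat.card R = 2
  · refine (commutator_le.2 fun a ha σ hσ => ?_) (OO_le _ hg)
    by_cases σ1 : σ = 1
    · simp [σ1]
    have a0 : σ * σ = 1 := by
      have := congrArg Subtype.val (pow_card_eq_one' (x := (⟨σ, hσ⟩ : R)))
      rwa [h2, sq] at this
    have a1 : ∀ u ∈ U, σ * u * σ⁻¹ = u⁻¹ := fun u hu => by
      have b1 := conj_mem_of_le_norm hRU hσ hu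
      refine eq_inv_of_mul_eq_one_right (mem_bot.1 (h.le ⟨mul_mem hu b1,
        cent_anti (le_zpowers_of_prime hR σ hσ σ1) ?_⟩))
      rw [cent_zpowers]
      refine mem_cent1.2 (mul_inv_eq_iff_eq_mul.1 ?_).symm
      calc σ * (u * (σ * u * σ⁻¹)) * σ⁻¹ = σ * u * σ⁻¹ * ((σ * σ) * u * (σ * σ)⁻¹) := by group
        _ = σ * u * σ⁻¹ * u := by rw [a0]; group
        _ = _ := mem_cent_of_le_cent (comm_le_cent hU.1) b1 hu
    refine mem_cent.2 fun u hu => ?_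
    have b1 := a1 _ (inv_conj_mem_of_le_norm hG ha (inv_mem (inv_conj_mem_of_le_norm hRU hσ hu)))
    have b2 := a1 _ (inv_conj_mem_of_le_norm hRU hσ hu)
    rw [show σ * (σ⁻¹ * u * σ) * σ⁻¹ = u by group] at b2
    symm
    calc _ = a * (σ * (a⁻¹ * (σ⁻¹ * u * σ)⁻¹⁻¹ * a) * σ⁻¹) * a⁻¹ * ⁅a, σ⁆ := by
          simp only [commutatorElement_def]; group
      _ = _ := by
        rw [← b2, a1 _ (inv_conj_mem_of_le_norm hG ha (inv_mem hu))]
        simp only [commutatorElement_def]; group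
  obtain ⟨n, ρ, -, h1, h3⟩ := dict hU (sup_le hG hRU)
  have : (G.subgroupOf (G ⊔ R)).Normal := normal_subgroupOf_of_le_norm (sup_le le_normalizer hRG)
  have b : Bs (G.subgroupOf (G ⊔ R)) (Nat.card R) := ⟨hR, h2, this, by
    have a1 := Core.card_inf_mul_relIndex G R
    rw [(Core.disjoint_of_coprime hc).eq_bot, card_bot, one_mul] at a1
    rw [← a1, ← relIndex_subgroupOf (le_sup_right : R ≤ G ⊔ R), ← relIndex_sup_left, ← subgroupOf_sup
      le_sup_left le_sup_right, subgroupOf_self, relIndex_top_right], by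
    rw [Core.card_subgroupOf_of_le le_sup_left]
    exact (Nat.Prime.coprime_iff_not_dvd hR).1 hc.symm⟩
  rw [← comm_sub (L := G ⊔ R) le_sup_left le_sup_right] at hg
  obtain ⟨y, hy, rfl⟩ := OO_map (G ⊔ R).subtype_injective _ hg
  obtain ⟨m, hm⟩ := rep_main (p := p) _ _ (R.subgroupOf (G ⊔ R)) b (Core.card_subgroupOf_of_le le_sup_right)
    _ _ ρ rfl (h1 _ (by rwa [map_subgroupOf_eq_of_le le_sup_right])) y hy
  exact zpowers_le.2 ((h3 _).1 hm) (mem_zpowers_pow_iff.2 (hp'.symm.pow_left m))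

theorem f2 {U B R : Subgroup X} (hU : IsElementaryAbelian p U) (hR : (Nat.card R).Prime)
    (hB : B ≤ 𝐍(U)) (hRU : R ≤ 𝐍(U)) (hRB : R ≤ 𝐍(B)) (hc : (Nat.card B).Coprime p) (hBB : B ≤ 𝐂(B))
    (h : U ⊓ 𝐂(R) = ⊥) : ⁅B, R⁆ ≤ 𝐂(U) := by
  obtain ⟨n, ρ, -, h1, h3⟩ := dict hU (sup_le hB hRU)
  rw [← comm_sub (L := B ⊔ R) le_sup_left le_sup_right]
  rintro _ ⟨g, hg, rfl⟩
  refine (h3 g).1 (LinearMap.ext fun v => comm_trivial (U := ⊤) (B := R.subgroupOf (B ⊔ R))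
    (by rw [Core.card_subgroupOf_of_le le_sup_left]; exact cast_ne hc)
    (Core.subgroupOf_le_normalizer_subgroupOf hRB _)
    (le_zpowers_of_prime (by rwa [Core.card_subgroupOf_of_le le_sup_right])) (fun _ _ _ _ => trivial)
    (fun a ha b hb v _ => ?_) (fun v _ => nm_eq_zero (h1 _ (by rwa [map_subgroupOf_eq_of_le le_sup_right])) v)
    g hg v trivial)
  rw [← Module.End.mul_apply, ← Module.End.mul_apply, ← map_mul, ← map_mul,
    show a * b = b * a from Subtype.ext (mem_cent_of_le_cent hBB ha hb)]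

theorem hyp {U P : Subgroup X} (hU : IsElementaryAbelian p U) {q : ℕ} (hq : q.Prime)
    (hP : IsElementaryAbelian q P) (hc : (Nat.card P).Coprime p) (hn : P ≤ 𝐍(U)) {t : X} (ht : t ∈ P)
    (h : t ∉ 𝐂(U)) : ∃ K ≤ P, t ∉ K ∧ ¬ U ⊓ 𝐂(K) ≤ 𝐂(P) ∧ ∀ a ∈ P, a ∉ K → P ≤ K ⊔ zpowers a := by
  obtain ⟨n, ρ, h1, -, h3⟩ := dict hU hn
  obtain ⟨l, hl, hwt⟩ := exists_wt_of_comm (ρ := ρ) (D := ⊤) (by rw [card_top]; exact cast_ne hc)
    (fun a _ => mem_cent.2 fun b _ => Subtype.ext (mem_cent_of_le_cent (comm_le_cent hP.1) b.2 a.2))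
    (mem_top ⟨t, ht⟩) fun e => h ((h3 _).1 e)
  have a1 : ∀ a : P, (a : X) ∈ (kerG l).map P.subtype ↔ l ⟨a, mem_top _⟩ = 1 := fun a => by
    rw [← mem_kerG]
    exact mem_map_iff_mem P.subtype_injective
  refine ⟨(kerG l).map P.subtype, map_subtype_le _, fun e => hl ((mem_kerG _).2 ((a1 ⟨t, ht⟩).1 e)),
    fun e => ?_, fun a ha hk b hb => ?_⟩
  · obtain ⟨v, hv, v0⟩ := (Submodule.ne_bot_iff _).1 hwt
    refine hl (mem_kerG_of_apply_eq (mem_top _) hv v0 ((h1 (kerG l) ⊤).1 ?_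
      (fun g hg => apply_eq_of_mem_kerG hg hv) _ (mem_top _)))
    rwa [← MonoidHom.range_eq_map, range_subtype]
  · have := Fact.mk hq
    have : NeZero q := ⟨hq.ne_zero⟩
    have b1 : ∀ c : P, l ⟨c, mem_top _⟩ ^ q = 1 := fun c => by
      rw [← map_pow, show (⟨c, mem_top _⟩ : (⊤ : Subgroup P)) ^ q = 1 from
        Subtype.ext (Subtype.ext (hP.2 c c.2)), map_one]
    have b2 : IsPrimitiveRoot ((l ⟨⟨a, ha⟩, mem_top _⟩ : _ˣ) : AlgebraicClosure (ZMod p)) q := by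
      rw [IsPrimitiveRoot.coe_units_iff, IsPrimitiveRoot.iff_orderOf]
      exact orderOf_eq_prime (b1 _) fun e => hk ((a1 ⟨a, ha⟩).2 e)
    obtain ⟨i, -, hi⟩ := b2.eq_pow_of_pow_eq_one (ξ := ((l ⟨⟨b, hb⟩, mem_top _⟩ : _ˣ) : AlgebraicClosure (ZMod p)))
      (by rw [← Units.val_pow_eq_pow_val, b1, Units.val_one])
    rw [show b = b * (a ^ i)⁻¹ * a ^ i by group]
    refine mul_mem (mem_sup_left ((a1 (⟨b, hb⟩ * (⟨a, ha⟩ ^ i)⁻¹)).2 ?_))
      (mem_sup_right (pow_mem (mem_zpowers a) i))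
    rw [show (⟨⟨b, hb⟩ * (⟨a, ha⟩ ^ i)⁻¹, mem_top _⟩ : (⊤ : Subgroup P)) =
      ⟨⟨b, hb⟩, mem_top _⟩ * (⟨⟨a, ha⟩, mem_top _⟩ ^ i)⁻¹ from rfl, map_mul, map_inv, map_pow, mul_inv_eq_one]
    exact Units.ext (by rw [Units.val_pow_eq_pow_val, hi])

theorem f3 {U B D R : Subgroup X} {x : X} {u : ℕ} (h : H3 B D R x u) (hU : IsElementaryAbelian p U)
    (hB : B ≤ 𝐍(U)) (hx : x ∈ 𝐍(U)) (hRU : R ≤ 𝐍(U)) (hc : (Nat.card B).Coprime p)
    (h1 : U ⊓ 𝐂(R) ≤ 𝐂(zpowers x)) (h2 : ¬ ⁅B, R⁆ ≤ 𝐂(U)) :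
    u = 2 ∧ ∃ K ≤ D, ¬ ⁅B, B⁆ ≤ K ∧ (rad B K).relIndex B = (2 * Nat.card R - 1) ^ 2 := by
  set L := B ⊔ zpowers x ⊔ R with hL
  have l1 : B ≤ L := le_sup_of_le_left le_sup_left
  have l2 : zpowers x ≤ L := le_sup_of_le_left le_sup_right
  have l3 : R ≤ L := le_sup_right
  have l4 : D ≤ L := h.DB.trans l1
  obtain ⟨n, ρ, d1, -, d3⟩ := dict hU (sup_le (sup_le hB (zpowers_le.2 hx)) hRU : L ≤ _)
  let y : L := ⟨x, l2 (mem_zpowers x)⟩
  have hy : zpowers y = (zpowers x).subgroupOf L := zp_sub y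
  have c1 := Core.card_subgroupOf_of_le l1
  have c3 := Core.card_subgroupOf_of_le l3
  have h' : H3 (B.subgroupOf L) (D.subgroupOf L) (R.subgroupOf L) y u :=
    ⟨c3 ▸ h.hR, h.hu, c3 ▸ h.ur, subgroupOf_mono _ h.DB, by rw [comm_sub' l1 l1]; exact subgroupOf_mono _ h.BB,
      by rw [cent_sub l1]; exact subgroupOf_mono _ h.Dc, by rw [cent_sub l4]; exact h.Dx,
      by rw [cent_sub l4]; exact subgroupOf_mono _ h.DR,
      Core.subgroupOf_le_normalizer_subgroupOf (zpowers_le.2 h.xB) L (mem_zpowers x),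
      Core.subgroupOf_le_normalizer_subgroupOf h.RB L, by rw [cent_sub l3]; exact h.xR,
      by
        rw [hy, comm_sub' l1 l2, ← subgroupOf_sup ((comm_le_left (zpowers_le.2 h.xB)).trans l1) l4]
        exact subgroupOf_mono _ h.Bx,
      by rw [cent_sub l3]; exact fun g hg => h.fR hg, by rw [cent_sub l1]; exact h.xu,
      by rw [hy]; exact h.px.comap_subtype, c1 ▸ h.cx, c1 ▸ c3 ▸ h.cR, Core.solvable_subgroupOf h.sol⟩
  obtain ⟨e1, K, e2, e3, e4⟩ := h'.rep (ρ := ρ) (c1 ▸ cast_ne hc)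
    (by rw [hy, ← subgroupOf_sup l1 l2, ← subgroupOf_sup le_sup_left l3, subgroupOf_self])
    (fun v => (d1 _ (zpowers y)).1 (by
      rwa [hy, map_subgroupOf_eq_of_le l3, map_subgroupOf_eq_of_le l2]) (nm_mem_fixSub v) y (mem_zpowers y))
    (by
      by_contra e
      push Not at e
      refine h2 ?_
      rw [← comm_sub l1 l3]
      rintro _ ⟨g, hg, rfl⟩
      exact (d3 g).1 (e g hg))
  have k1 : K.map L.subtype ≤ D := (map_mono e2).trans (map_subgroupOf_eq_of_le l4).le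
  refine ⟨e1, K.map L.subtype, k1, fun e => e3 ?_, ?_⟩
  · rw [comm_sub' l1 l1]
    exact fun g hg => (mem_map_iff_mem L.subtype_injective).1 (e hg)
  · rw [← c3, ← e4, ← relIndex_subgroupOf l1]
    congr 1
    ext g
    exact and_congr_right fun hg => ⟨fun e b hb c hc => (mem_map_iff_mem L.subtype_injective).1 (e b hb c hc),
      fun e b hb c hc => mem_map_of_mem L.subtype (e ⟨b, l1 hb⟩ hb ⟨c, l1 hc⟩ hc)⟩

end Cfsg.Agent.PG.Tu
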