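import Mathlib
import Cfsg.Agent.PG.Tu4

/-! Images in sections and the half-Fermat configuration. -/

set_option autoImplicit false
set_option linter.unusedVariables false

namespace Cfsg.Agent.PG.Tu

open Cfsg.Agent.BG Cfsg.Agent.BG.Amb Subgroup Cfsg.Agent.PG.HHS Cfsg.Agent.H23.HH
open scoped Pointwise commutatorElement

variable {X : Type*} [Group X]

theorem mapc {Y : Type*} [Group Y] (f : X →* Y) {A B : Subgroup X} (e : A ≤ 𝐂(B)) :
    A.map f ≤ 𝐂(B.map f) := le_cent_of_forall (by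
  rintro _ ⟨a, ha, rfl⟩ _ ⟨c, hc, rfl⟩
  rw [← map_mul, ← map_mul, mem_cent_of_le_cent e ha hc])

section Im

variable {X' : Type*} [Group X'] {L : Subgroup X} (f : L →* X') {A B : Subgroup X}

/-- The image of a subgroup under a map defined on a subgroup. -/
def im (A : Subgroup X) : Subgroup X' := (A.subgroupOf L).map f

/-- The preimage. -/
def pre (A : Subgroup X') : Subgroup X := (A.comap f).map L.subtype

theorem mem_im {g : L} (h : (g : X) ∈ A) : f g ∈ im f A := mem_map_of_mem f h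

theorem mem_pre {A' : Subgroup X'} {g : L} : (g : X) ∈ pre f A' ↔ f g ∈ A' :=
  mem_map_iff_mem L.subtype_injective

theorem pre_le (A' : Subgroup X') : pre f A' ≤ L := map_subtype_le _

theorem le_pre {A' : Subgroup X'} (hA : A ≤ L) : A ≤ pre f A' ↔ im f A ≤ A' :=
  ⟨by rintro h _ ⟨g, hg, rfl⟩; exact (mem_pre f).1 (h hg),
    fun h g hg => (mem_pre f (g := ⟨g, hA hg⟩)).2 (h (mem_im f hg))⟩

theorem im_mono (h : A ≤ B) : im f A ≤ im f B := map_mono (subgroupOf_mono _ h)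

theorem im_comm (hA : A ≤ L) (hB : B ≤ L) : im f ⁅A, B⁆ = ⁅im f A, im f B⁆ := by
  rw [im, ← comm_sub' hA hB, map_commutator]; rfl

theorem im_sup (hA : A ≤ L) (hB : B ≤ L) : im f (A ⊔ B) = im f A ⊔ im f B := by
  rw [im, subgroupOf_sup hA hB, Subgroup.map_sup]; rfl

theorem im_norm (h : A ≤ 𝐍(B)) : im f A ≤ 𝐍(im f B) :=
  Core.map_le_normalizer_map (Core.subgroupOf_le_normalizer_subgroupOf h L) f

theorem im_cent (h : A ≤ 𝐂(B)) : im f A ≤ 𝐂(im f B) :=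
  mapc f (le_cent_of_forall fun a ha b hb => Subtype.ext (mem_cent_of_le_cent h ha hb))

theorem im_zp (g : L) : im f (zpowers (g : X)) = zpowers (f g) := by
  rw [im, ← zp_sub, MonoidHom.map_zpowers]

theorem im_pre_inf {A' : Subgroup X'} (h : A' ≤ im f A) : im f (pre f A' ⊓ A) = A' := by
  refine le_antisymm ((le_pre f (inf_le_left.trans (pre_le f _))).1 inf_le_left) fun y hy => ?_
  obtain ⟨g, hg, rfl⟩ := h hy
  exact mem_im f ⟨(mem_pre f).2 hy, hg⟩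

theorem norm_pre {A' : Subgroup X'} (hA : A ≤ L) (h : im f A ≤ 𝐍(A')) : A ≤ 𝐍(pre f A') := by
  intro g hg
  have h1 := h (mem_im f (g := ⟨g, hA hg⟩) hg)
  refine mem_normalizer_iff.2 fun a => ⟨fun ha => ?_, fun ha => ?_⟩
  · refine (mem_pre f (g := ⟨g, hA hg⟩ * ⟨a, pre_le f _ ha⟩ * ⟨g, hA hg⟩⁻¹)).2 ?_
    rw [map_mul, map_mul, map_inv]
    exact (mem_normalizer_iff.1 h1 _).1 ((mem_pre f).1 ha)
  · have h2 : a ∈ L := by simpa [mul_assoc] using mul_mem (mul_mem (inv_mem (hA hg)) (pre_le f _ ha)) (hA hg)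
    have h3 := (mem_pre f (g := ⟨g, hA hg⟩ * ⟨a, h2⟩ * ⟨g, hA hg⟩⁻¹)).1 ha
    rw [map_mul, map_mul, map_inv] at h3
    exact (mem_pre f (g := ⟨a, h2⟩)).2 ((mem_normalizer_iff.1 h1 _).2 h3)

theorem im_pg {p : ℕ} (h : IsPGroup p A) : IsPGroup p (im f A) := h.comap_subtype.map f

variable [Finite X]

theorem im_card (hA : A ≤ L) : Nat.card (im f A) ∣ Nat.card A :=
  Core.card_subgroupOf_of_le hA ▸ Core.card_map_dvd _ f

theorem im_nres (hA : A ≤ L) (n : ℕ) : im f (nres^[n] A) = nres^[n] (im f A) := by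
  rw [im, im, ← map_nres_iter]
  congr 1
  apply map_injective L.subtype_injective
  rw [map_nres_iter, map_subgroupOf_eq_of_le hA, map_subgroupOf_eq_of_le ((nres_iter_le A n).trans hA)]

theorem im_inf_cent [Finite X'] (hA : A ≤ L) (hB : B ≤ L) (h : B ≤ 𝐍(A))
    (hc : (Nat.card A).Coprime (Nat.card B)) (hs : Group.IsSolvable B) :
    im f A ⊓ 𝐂(im f B) = im f (A ⊓ 𝐂(B)) := by
  rw [im, im, map_inf_cent f (Core.subgroupOf_le_normalizer_subgroupOf h L) (by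
    rwa [Core.card_subgroupOf_of_le hA, Core.card_subgroupOf_of_le hB]) (Or.inl (Core.solvable_subgroupOf hs)),
    inf_cent_subgroupOf hB]
  rfl

theorem im_card_eq {K : Subgroup X} (hA : A ≤ L) (hK : ∀ g : L, f g = 1 ↔ (g : X) ∈ K) :
    Nat.card (im f A) = K.relIndex A := by
  rw [im, ← relIndex_ker, ← relIndex_subgroupOf hA]
  congr 1
  ext g
  exact hK g

end Im

variable [Finite X]

theorem exists_sec {L N : Subgroup X} (h : L ≤ 𝐍(N)) : ∃ (_ : (N.subgroupOf L).Normal)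
    (f : L →* L ⧸ N.subgroupOf L), ∀ g : L, f g = 1 ↔ (g : X) ∈ N :=
  have := normal_subgroupOf_of_le_norm h
  ⟨this, QuotientGroup.mk' _, fun g => QuotientGroup.eq_one_iff g⟩

theorem f2q {p : ℕ} [Fact p.Prime] {U W B R : Subgroup X} (hU : IsElementaryAbelian p U)
    (hR : (Nat.card R).Prime) (hB : B ≤ 𝐍(U)) (hRU : R ≤ 𝐍(U)) (hRB : R ≤ 𝐍(B))
    (hc : (Nat.card B).Coprime p) (hBB : B ≤ 𝐂(B)) (hWU : W ≤ U) (hBW : B ≤ 𝐍(W)) (hRW : R ≤ 𝐍(W))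
    (hc' : (Nat.card U).Coprime (Nat.card R)) (h : U ⊓ 𝐂(R) ≤ W) : ⁅U, ⁅B, R⁆⁆ ≤ W := by
  have l1 : U ≤ U ⊔ B ⊔ R := le_sup_of_le_left le_sup_left
  have l2 : B ≤ U ⊔ B ⊔ R := le_sup_of_le_left le_sup_right
  have l3 : R ≤ U ⊔ B ⊔ R := le_sup_right
  have l4 := (comm_le_left hRB).trans l2
  obtain ⟨_, f, hf⟩ := exists_sec (L := U ⊔ B ⊔ R) (N := W) (sup_le (sup_le
    (le_norm_of_le_cent ((comm_le_cent hU.1).trans (cent_anti hWU))) hBW) hRW)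
  have a1 : Nat.card (im f R) = Nat.card R := by
    rw [im_card_eq f l3 hf, ← Core.card_inf_mul_relIndex W R, (Core.disjoint_of_coprime
      (Core.coprime_of_le_left hc' hWU)).eq_bot, card_bot, one_mul]
  have a2 := f2 (p := p) (U := im f U) (B := im f B) (R := im f R) ⟨comm_of_le_cent (im_cent f (comm_le_cent hU.1)), by
    rintro _ ⟨g, hg, rfl⟩
    rw [← map_pow, show g ^ p = 1 from Subtype.ext (hU.2 g hg), map_one]⟩ (a1 ▸ hR) (im_norm f hB)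
    (im_norm f hRU) (im_norm f hRB) (hc.coprime_dvd_left (im_card f l2)) (im_cent f hBB) (by
      rw [im_inf_cent f l1 l3 hRU hc' (sol_prime hR), eq_bot_iff]
      rintro _ ⟨g, hg, rfl⟩
      exact (hf g).2 (h hg))
  rw [le_cent_iff_comm_eq_bot', ← im_comm f l2 l3, ← im_comm f l1 l4] at a2
  intro g hg
  have := (comm_le_left ((comm_le_left hRB).trans hB)).trans l1 hg
  exact (hf ⟨g, this⟩).1 (a2.le (mem_im f hg))

theorem le_cz {W M : Subgroup X} {τ : X} (hτ : τ ∈ 𝐍(M)) (h : ∀ w ∈ W, ⁅w, τ⁆ ∈ M) :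
    ⁅W, zpowers τ⁆ ≤ M := commutator_le.2 fun w hw => cm_zpowers hτ (h w hw)

theorem cen_elt {A C : Subgroup X} {u : ℕ} (hu : u.Prime) (hA : IsPGroup u A) (hn : A ≤ 𝐍(C))
    (h : ¬ A ≤ C) : ∃ x ∈ A, x ∉ C ∧ x ^ u ∈ C ∧ ∀ y ∈ A, ⁅x, y⁆ ∈ C := by
  have := Fact.mk hu
  obtain ⟨_, f, hf⟩ := exists_sec hn
  have a1 : im f A ≠ ⊥ := fun e => h fun g hg => (hf ⟨g, hg⟩).1 (e.le (mem_im f hg))
  have := (nontrivial_iff_ne_bot _).2 a1
  have a2 := (im_pg f hA).center_nontrivial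
  obtain ⟨z, hz⟩ := exists_prime_orderOf_dvd_card' (G := center (im f A)) u (by
    obtain ⟨n, hn, e⟩ := IsPGroup.nontrivial_iff_card ((im_pg f hA).to_subgroup (center _)) |>.1 a2
    rw [e]; exact dvd_pow_self u hn.ne')
  obtain ⟨g, -, e⟩ := z.1.2
  refine ⟨g, g.2, fun e1 => ?_, (hf (g ^ u)).1 ?_, fun y hy => (hf ⁅g, ⟨y, hy⟩⁆).1 ?_⟩
  · have : z = 1 := Subtype.ext (Subtype.ext (e.symm.trans ((hf g).2 e1)))
    rw [this, orderOf_one] at hz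
    exact hu.one_lt.ne hz
  · rw [map_pow, e]
    exact congrArg (fun t : center (im f A) => t.1.1) (hz ▸ pow_orderOf_eq_one z)
  · rw [map_commutatorElement, e, cm_one]
    exact (congrArg Subtype.val (mem_center_iff.1 z.2 ⟨f ⟨y, hy⟩, mem_im f hy⟩)).symm

theorem comm_irr {W R : Subgroup X} (hW : W ≤ 𝐂(W)) (hRW : R ≤ 𝐍(W)) (hRR : R ≤ 𝐂(R))
    (hirr : ∀ A ≤ W, R ≤ 𝐍(A) → A = ⊥ ∨ A = W) {e e' : X} (he : e ∈ 𝐍(W)) (he' : e' ∈ 𝐍(W))
    (hc : e ∈ 𝐂(R)) (hc' : e' ∈ 𝐂(R)) : ⁅e, e'⁆ ∈ 𝐂(W) := by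
  by_cases h0 : W = ⊥
  · rw [h0]; exact mem_cent.2 fun a ha => by rw [mem_bot.1 ha]; simp
  obtain ⟨w, hw, w1⟩ := exists_mem_ne_one h0
  letI : CommGroup W := { (inferInstance : Group W) with
    mul_comm := fun a b => Subtype.ext (mem_cent_of_le_cent hW a.2 b.2) }
  let cj : ∀ g ∈ 𝐍(W), W →* W := fun g hg => (W.normalizerMonoidHom ⟨g, hg⟩).toMonoidHom
  have hcj : ∀ g hg (a : W), (cj g hg a : X) = g * a * g⁻¹ := fun _ _ _ => rfl
  have cc : ∀ g hg g' hg' (a : W), g * g' = g' * g → cj g hg (cj g' hg' a) = cj g' hg' (cj g hg a) :=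
    fun g hg g' hg' a e => Subtype.ext (by
      rw [hcj, hcj, hcj, hcj]
      calc _ = (g * g') * a * (g * g')⁻¹ := by group
        _ = _ := by rw [e]; group)
  have all : ∀ A : Subgroup W, ⟨w, hw⟩ ∈ A → (∀ σ (hσ : σ ∈ R), ∀ a ∈ A, cj σ (hRW hσ) a ∈ A) →
      ∀ a, a ∈ A := fun A h1 h2 a => by
    have := (hirr (A.map W.subtype) (map_subtype_le _) (le_norm_of_conj_mem (by
      rintro σ hσ _ ⟨b, hb, rfl⟩
      exact ⟨_, h2 σ hσ b hb, rfl⟩))).resolve_left fun e => w1 (e.le ⟨_, h1, rfl⟩)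
    exact (mem_map_iff_mem W.subtype_injective).1 (this.ge a.2)
  let M : Subgroup W :=
    { carrier := {a | ∃ q : W →* W, (∀ σ (hσ : σ ∈ R) b, q (cj σ (hRW hσ) b) = cj σ (hRW hσ) (q b)) ∧
        (∀ b, q (cj e' he' b) = cj e' he' (q b)) ∧ q ⟨w, hw⟩ = a}
      one_mem' := ⟨1, by simp, by simp, rfl⟩
      mul_mem' := by
        rintro _ _ ⟨q, h1, h2, rfl⟩ ⟨q', h1', h2', rfl⟩
        exact ⟨q * q', fun σ hσ b => by simp only [MonoidHom.mul_apply, map_mul, h1 σ hσ, h1' σ hσ],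
          fun b => by simp only [MonoidHom.mul_apply, map_mul, h2, h2'], rfl⟩
      inv_mem' := by
        rintro _ ⟨q, h1, h2, rfl⟩
        exact ⟨q⁻¹, fun σ hσ b => by simp only [MonoidHom.inv_apply, map_inv, h1 σ hσ],
          fun b => by simp only [MonoidHom.inv_apply, map_inv, h2], rfl⟩ }
  obtain ⟨q, h1, h2, h3⟩ := all M ⟨MonoidHom.id _, fun _ _ _ => rfl, fun _ => rfl, rfl⟩ (by
    rintro σ hσ _ ⟨q, h1, h2, rfl⟩
    exact ⟨(cj σ (hRW hσ)).comp q, fun τ hτ b => by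
      rw [MonoidHom.comp_apply, MonoidHom.comp_apply, h1 τ hτ, cc _ _ _ _ _ (mem_cent_of_le_cent hRR hσ hτ)],
      fun b => by rw [MonoidHom.comp_apply, MonoidHom.comp_apply, h2, cc _ _ _ _ _ (mem_cent.1 hc' σ hσ)],
      rfl⟩) (cj e he ⟨w, hw⟩)
  have h4 := all (q.eqLocus (cj e he)) h3 fun σ hσ a ha => by
    show q _ = _
    rw [h1 σ hσ, show q a = _ from ha, cc _ _ _ _ _ (mem_cent.1 hc σ hσ)]
  refine mem_cent.2 fun a ha => ?_
  have h5 := inv_conj_mem_of_le_norm le_rfl (mul_mem he' he) ha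
  have h6 := h2 ⟨_, h5⟩
  rw [show q _ = _ from h4 _, show q _ = _ from h4 _] at h6
  have h7 := congrArg Subtype.val h6
  simp only [hcj] at h7
  calc a * ⁅e, e'⁆ = (e' * (e * ((e' * e)⁻¹ * a * (e' * e)) * e⁻¹) * e'⁻¹) * ⁅e, e'⁆ := by group
    _ = _ := by rw [← h7, commutatorElement_def]; group

/-- The inverted elements. -/
def Iv {W : Subgroup X} (hW : W ≤ 𝐂(W)) (x : X) : Subgroup X where
  carrier := {w | w ∈ W ∧ x * w * x⁻¹ = w⁻¹}
  one_mem' := ⟨one_mem _, by simp⟩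
  mul_mem' := by
    rintro a b ⟨ha, ha'⟩ ⟨hb, hb'⟩
    refine ⟨mul_mem ha hb, ?_⟩
    rw [show x * (a * b) * x⁻¹ = (x * a * x⁻¹) * (x * b * x⁻¹) by group, ha', hb',
      mem_cent_of_le_cent hW ha hb, mul_inv_rev]
  inv_mem' := by
    rintro a ⟨ha, ha'⟩
    exact ⟨inv_mem ha, by rw [show x * a⁻¹ * x⁻¹ = (x * a * x⁻¹)⁻¹ by group, ha']⟩

theorem endgame {W E R A : Subgroup X} (hR : (Nat.card R).Prime) (h2 : Nat.card R ≠ 2) (hW : W ≤ 𝐂(W))
    (ho : Odd (Nat.card W)) (hc : (Nat.card W).Coprime (Nat.card R)) (hE : E ≤ 𝐍(W)) (hRW : R ≤ 𝐍(W))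
    (hER : E ≤ 𝐂(R)) (hAE : A ≤ ⁅E, E⁆) (hEA : E ≤ 𝐍(A)) (hA : IsPGroup 2 A) (hf : W ⊓ 𝐂(R) = ⊥)
    (hmin : ∀ N < W, E ⊔ R ≤ 𝐍(N) → N = ⊥) (hn : ¬ A ≤ 𝐂(W))
    (h : ∀ x ∈ A, x ∉ 𝐂(W) → x ^ 2 ∈ 𝐂(W) →
      Nat.card (⁅W, zpowers x⁆ : Subgroup X) = (2 * Nat.card R - 1) ^ 2) : False := by
  have AE := hAE.trans (der_le E)
  have r2 := hR.two_le
  have IW : ∀ x, Iv hW x ≤ W := fun x w hw => hw.1
  have nI : ∀ x y, y ∈ 𝐍(W) → ⁅x, y⁆ ∈ 𝐂(W) → y ∈ 𝐍(Iv hW x) := fun x y hy hxy =>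
    zpowers_le.1 (le_norm_of_conj_mem fun z hz a ha => by
      have b1 := conj_mem_of_le_norm le_rfl (zpowers_le.2 hy hz) ha.1
      refine ⟨b1, ?_⟩
      have b2 := cm_zpowers (norm_le_norm_cent W hy) hxy z hz
      calc _ = ⁅x, z⁆ * (z * (x * a * x⁻¹) * z⁻¹) * ⁅x, z⁆⁻¹ := by simp only [commutatorElement_def]; group
        _ = ⁅x, z⁆ * (z * a * z⁻¹)⁻¹ * ⁅x, z⁆⁻¹ := by rw [ha.2]; group
        _ = _ := conj_eq_of_comm (mem_cent.1 b2 _ (inv_mem b1)).symm)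
  have cI : ∀ x ∈ A, x ^ 2 ∈ 𝐂(W) → ∀ w ∈ W, ⁅w, x⁆ ∈ Iv hW x := fun x hx h1 w hw => by
    have b1 := conj_mem_of_le_norm hE (AE hx) hw
    refine ⟨cm_mem hw (hE (AE hx)), ?_⟩
    calc _ = x * w * x⁻¹ * (x ^ 2 * w * (x ^ 2)⁻¹)⁻¹ := by simp only [commutatorElement_def, sq]; group
      _ = _ := by rw [conj_eq_of_comm (mem_cent.1 h1 w hw).symm, commutatorElement_def]; group
  have sq1 : ∀ a ∈ W, a ∈ zpowers (a ^ 2) := fun a ha => mem_zpowers_pow_iff.2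
    (Nat.coprime_two_left.2 (ho.of_dvd_nat (W.orderOf_dvd_natCard ha)))
  have cd : ∀ x ∈ A, x ∉ 𝐂(W) → x ^ 2 ∈ 𝐂(W) → Nat.card (Iv hW x) = (2 * Nat.card R - 1) ^ 2 :=
    fun x hx h1 h3 => by
      rw [← h x hx h1 h3]
      congr 2
      refine le_antisymm (fun a ha => zpowers_le.2 ?_ (sq1 a ha.1))
        (le_cz (nI x x (hE (AE hx)) (by simp)) (cI x hx h3))
      rw [show a ^ 2 = ⁅a, x⁆ by
        rw [show ⁅a, x⁆ = a * (x * a * x⁻¹)⁻¹ by rw [commutatorElement_def]; group, ha.2, inv_inv, sq]]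
      exact commutator_mem_commutator ha.1 (mem_zpowers x)
  have nR : ∀ x ∈ A, R ≤ 𝐍(Iv hW x) := fun x hx σ hσ => nI x σ (hRW hσ) (by
    rw [cm_one.2 (mem_cent.1 (hER (AE hx)) σ hσ).symm]; exact one_mem _)
  have irr : ∀ x ∈ A, x ∉ 𝐂(W) → x ^ 2 ∈ 𝐂(W) → ∀ N ≤ Iv hW x, R ≤ 𝐍(N) → N = ⊥ ∨ N = Iv hW x :=
    fun x hx h1 h3 N h4 h5 => by
      by_contra e
      push Not at e
      have b1 := Core.card_mul_relIndex h4
      have b2 := card_mod hR h5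
      rw [show N ⊓ 𝐂(R) = ⊥ from le_bot_iff.1 (hf ▸ inf_le_inf_right _ (h4.trans (IW x))), card_bot] at b2
      have b3 := idx_mod hR (nR x hx) h5 h4 (Core.coprime_of_le_left hc (IW x))
        ((inf_le_inf_right _ (IW x)).trans (hf.le.trans bot_le))
      have b4 : Nat.card N ≠ 1 := fun e1 => e.1 (card_eq_one.1 e1)
      have b5 : N.relIndex (Iv hW x) ≠ 1 := fun e1 => e.2 (le_antisymm h4 (relIndex_eq_one.1 e1))
      have b6 : Odd (Nat.card N * N.relIndex (Iv hW x)) := b1 ▸ ho.of_dvd_nat (card_dvd_of_le (IW x))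
      rw [cd x hx h1 h3] at b1
      have b7 : ∀ m, m ≡ 1 [MOD Nat.card R] → m ≠ 1 → Odd m → 2 * Nat.card R + 1 ≤ m := fun m c1 c2 c3 => by
        obtain ⟨j, hj⟩ := (Nat.modEq_iff_dvd' c3.pos).1 c1.symm
        have c4 := c3.pos
        obtain ⟨i, hi⟩ := hR.odd_of_ne_two h2
        obtain ⟨l, hl⟩ := c3
        rcases j with _ | _ | j
        · omega
        · omega
        · have : m = Nat.card R * (j + 1 + 1) + 1 := by omega
          nlinarith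
      have b8 := Nat.mul_le_mul (b7 _ b2 b4 (Nat.odd_mul.1 b6).1) (b7 _ b3 b5 (Nat.odd_mul.1 b6).2)
      rw [b1] at b8
      obtain ⟨j, hj⟩ := Nat.exists_eq_add_of_le' hR.one_le
      rw [hj, show 2 * (j + 1) - 1 = 2 * j + 1 by omega] at b8
      nlinarith
  have ne : ∀ x ∈ A, x ∉ 𝐂(W) → x ^ 2 ∈ 𝐂(W) → Iv hW x ≠ ⊥ := fun x hx h1 h3 e => by
    have := cd x hx h1 h3
    rw [e, card_bot, eq_comm, Nat.pow_eq_one] at this
    omega
  obtain ⟨x, hx, x1, x2, x3⟩ := cen_elt Nat.prime_two hA (AE.trans (hE.trans (norm_le_norm_cent W))) hn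
  have key : E ≤ 𝐍(Iv hW x) := le_norm_of_conj_mem fun e he a ha => by
    have c1 := conj_mem_of_le_norm hEA he hx
    have nC := hE.trans (norm_le_norm_cent W)
    have c2 : e * x * e⁻¹ ∉ 𝐂(W) := fun h => x1 (by
      simpa [mul_assoc] using inv_conj_mem_of_le_norm nC he h)
    have c3 : (e * x * e⁻¹) ^ 2 ∈ 𝐂(W) := by
      rw [conj_pow]; exact conj_mem_of_le_norm nC he x2
    have c4 : e * a * e⁻¹ ∈ Iv hW (e * x * e⁻¹) := ⟨conj_mem_of_le_norm hE he ha.1, by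
      rw [show e * x * e⁻¹ * (e * a * e⁻¹) * (e * x * e⁻¹)⁻¹ = e * (x * a * x⁻¹) * e⁻¹ by group, ha.2]; group⟩
    generalize e * x * e⁻¹ = y at c1 c2 c3 c4
    rcases irr y c1 c2 c3 (Iv hW x ⊓ Iv hW y) inf_le_right (le_norm_inf (nR x hx) (nR y c1)) with d | d
    swap
    · exact (d.ge c4).1
    exfalso
    have d1 := x3 y c1
    have d2 : Iv hW x ≤ Iv hW (x * y) := fun b hb => ⟨hb.1, by
      have := cm_one.1 (d.le ⟨cm_mem hb (nI x y (hE (AE c1)) d1), cI y c1 c3 b hb.1⟩)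
      rw [show x * y * b * (x * y)⁻¹ = x * (y * b * y⁻¹) * x⁻¹ by group, conj_eq_of_comm this.symm, hb.2]⟩
    have d3 : Iv hW y ≤ Iv hW (x * y) := fun b hb => ⟨hb.1, by
      have := cm_one.1 (d.le ⟨cI x hx x2 b hb.1, cm_mem hb (nI y x (hE (AE hx))
        (by rw [cm_swap]; exact inv_mem d1))⟩)
      rw [show x * y * b * (x * y)⁻¹ = x * (y * b * y⁻¹) * x⁻¹ by group, hb.2,
        show x * b⁻¹ * x⁻¹ = (x * b * x⁻¹)⁻¹ by group, conj_eq_of_comm this.symm]⟩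
    have d4 : x * y ∉ 𝐂(W) := fun e1 => ne x hx x1 x2 (le_bot_iff.1 fun b hb => by
      have d5 := (d2 hb).2
      rw [conj_eq_of_comm (mem_cent.1 e1 b hb.1).symm] at d5
      have := sq1 b hb.1
      rwa [show b ^ 2 = 1 by rw [sq]; nth_rewrite 2 [d5]; exact mul_inv_cancel b, zpowers_one_eq_bot] at this)
    have d5 : (x * y) ^ 2 ∈ 𝐂(W) := by
      rw [show (x * y) ^ 2 = x * ⁅x, y⁆⁻¹ * x⁻¹ * (x ^ 2 * y ^ 2) by simp only [commutatorElement_def, sq]; group]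
      exact mul_mem (conj_mem_of_le_norm nC (AE hx) (inv_mem d1)) (mul_mem x2 c3)
    have d6 := eq_of_le_of_card_ge d2 ((cd _ (mul_mem hx c1) d4 d5).trans (cd x hx x1 x2).symm).le
    exact ne y c1 c2 c3 (d ▸ (inf_eq_right.2 (d6 ▸ d3)).symm)
  have all : Iv hW x = W := (IW x).eq_or_lt.resolve_right fun e =>
    ne x hx x1 x2 (hmin _ e (sup_le key (nR x hx)))
  have := Fact.mk hR
  have := isCyclic_of_prime_card (α := R) rfl
  exact hn (hAE.trans (commutator_le.2 fun e he e' he' => comm_irr hW hRW (comm_le_cent inferInstance)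
    (fun N h1 h3 => all ▸ irr x hx x1 x2 N (all.symm ▸ h1) h3) (hE he) (hE he') (hER he) (hER he')))

end Cfsg.Agent.PG.Tu
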