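import Mathlib
import Cfsg.Agent.PG.Tu5

/-! The states of the descent along a tower. -/

set_option autoImplicit false
set_option linter.unusedVariables false

namespace Cfsg.Agent.PG.Tu

open Cfsg.Agent.BG Cfsg.Agent.BG.Amb Subgroup Cfsg.Agent.PG.HHS Cfsg.Agent.H23.HH
open scoped Pointwise commutatorElement

variable {X : Type*} [Group X]

/-- The lower nilpotent series of the fixed points. -/
def Dn (G R : Subgroup X) (n : ℕ) : Subgroup X := nres^[n] (G ⊓ 𝐂(R))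

/-- The acting data. -/
structure Bd (R Y V B U : Subgroup X) : Prop where
  BY : B ≤ Y
  RB : R ≤ 𝐍(B)
  BR : ⁅B, R⁆ = B
  UV : U ≤ V
  RU : R ≤ 𝐍(U)
  UB : ⁅U, B⁆ = U
  b3 : ⁅⁅B, B⁆, R⁆ ≤ 𝐂(U)

/-- The main state. -/
def SU (n : ℕ) (G R Y V : Subgroup X) : Prop := ∃ (x : X) (B U : Subgroup X) (c : X),
  (x ∈ Dn G R (n - 1) ∨ (x ∈ Dn G R (n - 2) ∧ x ∈ Y)) ∧ Bd R Y V B U ∧ x ∈ 𝐍(B) ∧ x ∈ 𝐍(U) ∧
  (⁅B, zpowers x⁆ ≤ 𝐂(U) ∨ B ≤ ⁅B, zpowers x⁆ ⊔ (B ⊓ 𝐂(V))) ∧ c ∈ U ⊓ 𝐂(R) ∧ ⁅c, x⁆ ∉ 𝐂(Y)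

/-- The initial state. -/
def SW (R Y V : Subgroup X) : Prop := ∃ (B U : Subgroup X) (c : X), Bd R Y V B U ∧ c ∈ U ⊓ 𝐂(R) ∧ c ∉ 𝐂(Y)

/-- All states. -/
def St (n s : ℕ) (G R Y V : Subgroup X) : Prop := ¬ Y ⊓ Dn G R n ≤ 𝐂(V) ∨ SU n G R Y V ∨
  (n ≤ 1 ∧ SW R Y V) ∨ (n = 0 ∧ s = 2 ∧ ¬ ⁅Y, R⁆ ≤ 𝐂(V))

/-- The standing hypotheses. -/
structure Cx (G R Y V : Subgroup X) (s p : ℕ) : Prop where
  hR : (Nat.card R).Prime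
  cop : (Nat.card G).Coprime (Nat.card R)
  RG : R ≤ 𝐍(G)
  YG : Y ≤ G
  GY : G ≤ 𝐍(Y)
  RY : R ≤ 𝐍(Y)
  hs : s.Prime
  Ys : IsPGroup s Y
  hp : p.Prime
  Vp : IsPGroup p V
  sp : s ≠ p
  cV : (Nat.card V).Coprime (Nat.card R)
  GV : G ≤ 𝐍(V)
  RV : R ≤ 𝐍(V)

/-- The reduced hypotheses. -/
structure Cr (G R Y V : Subgroup X) (s p : ℕ) : Prop extends Cx G R Y V s p where
  el : IsElementaryAbelian p V
  fa : Y ⊓ 𝐂(V) = ⊥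

variable [Finite X] {G R Y V : Subgroup X} {s p n : ℕ}

theorem pcop {A B : Subgroup X} {s p : ℕ} (hs : s.Prime) (hp : p.Prime) (h : s ≠ p) (hA : IsPGroup s A)
    (hB : IsPGroup p B) : (Nat.card A).Coprime (Nat.card B) :=
  have := Fact.mk hs
  have := Fact.mk hp
  IsPGroup.coprime_card_of_ne s p h A B hA hB

theorem pcop' {A : Subgroup X} {s p : ℕ} (hs : s.Prime) (hp : p.Prime) (h : s ≠ p) (hA : IsPGroup s A) :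
    (Nat.card A).Coprime p := by
  have := Fact.mk hs
  obtain ⟨n, e⟩ := IsPGroup.iff_card.1 hA
  exact e ▸ ((Nat.coprime_primes hs hp).2 h).pow_left n

omit [Finite X] in
theorem Dn_le (G R : Subgroup X) (n : ℕ) : Dn G R n ≤ G ⊓ 𝐂(R) := nres_iter_le _ n

omit [Finite X] in
theorem Dn_mono {G G' : Subgroup X} (h : G ≤ G') (n : ℕ) : Dn G R n ≤ Dn G' R n :=
  nres_iter_mono (inf_le_inf_right _ h) n

omit [Finite X] in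
theorem Dn_anti {m n : ℕ} (h : m ≤ n) : Dn G R n ≤ Dn G R m := nres_iter_anti _ h

theorem Dn_norm (n : ℕ) : G ⊓ 𝐂(R) ≤ 𝐍(Dn G R n) := le_norm_nres_iter le_normalizer n

theorem up {Q A : Subgroup X} (hQ : Q ≤ G ⊓ 𝐂(R)) (hA : A ≤ Dn G R n) (hn : A ≤ 𝐍(Q))
    (hc : (Nat.card Q).Coprime (Nat.card A)) (hs : Group.IsSolvable Q) : ⁅Q, A⁆ ≤ Dn G R (n + 1) := by
  rw [Dn, Function.iterate_succ_apply']
  exact le_nres_of_comm ((commutator_mono le_rfl hA).trans (comm_le_right (hQ.trans (Dn_norm n))))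
    ((coprime_comm_comm hn hc (Or.inr hs)).ge.trans (commutator_mono le_rfl hA))

omit [Finite X] in
theorem elem_le {U V : Subgroup X} (h : IsElementaryAbelian p V) (hU : U ≤ V) : IsElementaryAbelian p U :=
  ⟨comm_of_le_cent (le_cent_of_comm h.1 hU hU), fun a ha => h.2 a (hU ha)⟩

namespace Cr

variable (h : Cr G R Y V s p)
include h

theorem cYV {A U : Subgroup X} (hA : A ≤ Y) (hU : U ≤ V) : (Nat.card U).Coprime (Nat.card A) :=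
  pcop h.hp h.hs h.sp.symm (h.Vp.to_le hU) (h.Ys.to_le hA)

theorem YV : Y ≤ 𝐍(V) := h.YG.trans h.GV

theorem inf {A U : Subgroup X} (hA : A ≤ Y) (hU : U ≤ V) (hn : A ≤ 𝐍(U)) : ⁅U, A⁆ ⊓ 𝐂(A) = ⊥ :=
  coprime_abelian_comm_inf_cent (elem_le h.el hU).1 hn (h.cYV hA hU)

theorem ncY {B U : Subgroup X} (b : Bd R Y V B U) {c : X} (hc : c ∈ U) (c1 : c ≠ 1) : c ∉ 𝐂(Y) := fun e =>
  c1 ((h.inf b.BY b.UV (le_norm_of_comm_le_left b.UB.le)).le ⟨b.UB.ge hc, cent_anti b.BY e⟩)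

theorem good {t : X} {B U : Subgroup X} (ht : t ∈ Dn G R (n - 2)) (hY : t ∈ Y) (hB : B ≤ Y)
    (RB : R ≤ 𝐍(B)) (BR : ⁅B, R⁆ = B) (Bt : B ≤ 𝐂(zpowers t)) (UV : U ≤ V) (RU : R ≤ 𝐍(U))
    (BU : B ≤ 𝐍(U)) (tU : t ∈ 𝐍(U)) (h1 : U ⊓ 𝐂(B) = ⊥) (h2 : U ⊓ 𝐂(zpowers t) = ⊥)
    (h3 : ⁅⁅B, B⁆, R⁆ ≤ 𝐂(U)) (h4 : U ⊓ 𝐂(R) ≠ ⊥) : SU n G R Y V := by
  have := Fact.mk h.hs
  obtain ⟨c, hc, c1⟩ := exists_mem_ne_one h4
  have a1 := coprime_comm_sup_cent BU (h.cYV hB UV) (Or.inl (solvable_of_isPGroup (h.Ys.to_le hB)))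
  rw [h1, sup_bot_eq] at a1
  have b : Bd R Y V B U := ⟨hB, RB, BR, UV, RU, a1, h3⟩
  refine ⟨t, B, U, c, Or.inr ⟨ht, hY⟩, b, cent_le_norm B (le_cent_symm Bt (mem_zpowers t)), tU,
    Or.inl ((le_cent_iff_comm_eq_bot.1 Bt).le.trans bot_le), hc, h.ncY b (cm_mem hc.1 tU) fun e => c1 ?_⟩
  exact h2.le ⟨hc.1, by rw [cent_zpowers]; exact mem_cent1.2 (cm_one.1 e)⟩

theorem ga {t : X} {B : Subgroup X} (ht : t ∈ Dn G R (n - 2)) (hY : t ∈ Y) (hB : B ≤ Y)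
    (RB : R ≤ 𝐍(B)) (BR : ⁅B, R⁆ = B) (Bt : B ≤ 𝐂(zpowers t)) (BB : B ≤ 𝐂(B))
    (hn : ¬ B ≤ 𝐂(⁅V, zpowers t⁆)) : SU n G R Y V := by
  have := Fact.mk h.hp
  have a0 : zpowers t ≤ Y := zpowers_le.2 hY
  have a1 : ⁅V, zpowers t⁆ ≤ V := comm_le_left (a0.trans h.YV)
  have a2 : B ≤ 𝐍(⁅V, zpowers t⁆) := le_norm_comm (hB.trans h.YV) (le_norm_of_le_cent Bt)
  have a3 : R ≤ 𝐍(⁅V, zpowers t⁆) := le_norm_comm h.RV
    (le_norm_of_le_cent (le_cent_symm (zpowers_le.2 (Dn_le _ _ _ ht).2)))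
  have a4 := comm_le_left a2
  have a5 := h.inf hB a1 a2
  have a6 := le_norm_comm a2 (le_normalizer (H := B))
  have a7 := le_norm_comm a3 RB
  refine h.good ht hY hB RB BR Bt (a4.trans a1) a7 a6 (zpowers_le.1 (le_norm_comm
    (le_norm_comm (a0.trans h.YV) le_normalizer) (le_norm_of_le_cent (le_cent_symm Bt)))) a5
    (le_bot_iff.1 ((inf_le_inf_right _ a4).trans (h.inf a0 le_rfl (a0.trans h.YV)).le))
    (by rw [le_cent_iff_comm_eq_bot.1 BB, commutator_bot_left]; exact bot_le) fun e => hn ?_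
  have a8 := f2 (elem_le h.el (a4.trans a1)) h.hR a6 a7 RB (pcop' h.hs h.hp h.sp (h.Ys.to_le hB)) BB e
  rw [BR] at a8
  rw [le_cent_iff_comm_eq_bot', ← a5, inf_eq_left.2 (le_cent_symm a8)]

theorem na {Q B : Subgroup X} {u : ℕ} (hu : u.Prime) (us : u ≠ s) (hBu : IsPGroup u B) (QY : Q ≤ Y)
    (RQ : R ≤ 𝐍(Q)) (BG : B ≤ G) (RB : R ≤ 𝐍(B)) (BR : ⁅B, R⁆ = B) (BQ : B ≤ 𝐍(Q))
    (h1 : ⁅Q, Q⁆ ≤ 𝐂(Q)) (h2 : ⁅Q, Q⁆ ≤ 𝐂(B)) {t : X} (ht : t ∈ Dn G R (n - 2)) (htQ : t ∈ ⁅Q, B⁆)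
    (hn : t ∉ 𝐂(Q)) : SU n G R Y V := by
  have := Fact.mk h.hp
  have := Fact.mk h.hs
  have tQ := comm_le_left BQ htQ
  have tR := (Dn_le _ _ _ ht).2
  have cQ := Core.coprime_of_le_left h.cop (QY.trans h.YG)
  have sR := sol_prime h.hR
  have ZQ := der_le Q
  have RZ := le_norm_comm RQ RQ
  have Z1 : ⁅⁅Q, Q⁆, R⁆ ≤ ⁅Q, Q⁆ := comm_le_left RZ
  have QV := QY.trans h.YV
  have gab : ∀ z ∈ Dn G R (n - 2), z ∈ Q → ¬ ⁅⁅Q, Q⁆, R⁆ ≤ 𝐂(⁅V, zpowers z⁆) → SU n G R Y V :=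
    fun z h3 h4 h5 => h.ga h3 (QY h4) ((Z1.trans ZQ).trans QY) (norm_comm_R RZ)
      (coprime_comm_comm RZ (Core.coprime_of_le_left cQ ZQ) (Or.inl sR))
      ((Z1.trans h1).trans (cent_anti (zpowers_le.2 h4))) ((Z1.trans h1).trans (cent_anti (Z1.trans ZQ))) h5
  have nZ : Q ≤ 𝐍(⁅⁅Q, Q⁆, R⁆) := le_norm_of_le_cent (le_cent_symm (Z1.trans h1))
  have three : ∀ c ∈ Q ⊓ 𝐂(R), ∀ b ∈ ⁅Q, R⁆, ⁅c, b⁆ ∈ ⁅⁅Q, Q⁆, R⁆ := fun c hc b hb => by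
    refine (show ⁅Q, R⁆ ≤ Rd Q {c} ⁅⁅Q, Q⁆, R⁆ from commutator_le.2 fun a ha σ hσ => (mem_Rd1 nZ).2
      ⟨cm_mem ha (RQ hσ), ?_⟩) hb |> (mem_Rd1 nZ).1 |>.2 |> inv_mem |> (cm_swap c b ▸ ·)
    have a1 := commutator_mem_commutator (inv_mem ha) hc.1
    have a2 := conj_mem_of_le_norm RQ hσ (inv_mem ha)
    rw [show ⁅a, σ⁆ = a * (σ * a⁻¹ * σ⁻¹) by rw [commutatorElement_def]; group, cm_mul_left,
      show ⁅σ * a⁻¹ * σ⁻¹, c⁆ = σ * ⁅a⁻¹, c⁆ * σ⁻¹ by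
        rw [← cm_conj, conj_eq_of_comm (mem_cent.1 hc.2 σ hσ)],
      conj_eq_of_comm (mem_cent.1 (h1 (conj_mem_of_le_norm RZ hσ a1)) a ha),
      show ⁅a, c⁆ = ⁅a⁻¹, c⁆⁻¹ by
        rw [cm_inv_left, show a⁻¹ * ⁅a, c⁆⁻¹ * a = a⁻¹ * ⁅a, c⁆⁻¹ * a⁻¹⁻¹ by group, conj_eq_of_comm
          (mem_cent.1 (h1 (inv_mem (commutator_mem_commutator ha hc.1))) _ (inv_mem ha)), inv_inv],
      show σ * ⁅a⁻¹, c⁆ * σ⁻¹ * ⁅a⁻¹, c⁆⁻¹ = ⁅⁅a⁻¹, c⁆, σ⁆⁻¹ by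
        generalize ⁅a⁻¹, c⁆ = w; simp only [commutatorElement_def]; group]
    exact inv_mem (commutator_mem_commutator a1 hσ)
  have dec := coprime_comm_sup_cent RQ cQ (Or.inl sR)
  have dec' : ∀ a ∈ Q, ∃ b ∈ ⁅Q, R⁆, ∃ c ∈ Q ⊓ 𝐂(R), a = b * c := fun a ha =>
    (Core.mem_sup_of_le_normalizer (inf_le_left.trans (norm_comm_left Q R))).1 (dec.ge ha)
  by_cases e : ∀ c ∈ Q ⊓ 𝐂(R), ⁅t, c⁆ = 1
  · refine gab t ht tQ fun e1 => hn (mem_cent.2 fun a ha => (cm_one.1 ?_).symm)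
    obtain ⟨b, hb, c, hc, rfl⟩ := dec' a ha
    rw [cm_mul_right, e c hc, mul_one, mul_inv_cancel, mul_one]
    have a1 := three t ⟨tQ, tR⟩ b hb
    have a2 : zpowers ⁅t, b⁆ ≤ 𝐂(Q) := zpowers_le.2 (h1 (Z1 a1))
    have a3 : zpowers ⁅t, b⁆ ≤ Y := zpowers_le.2 (QY (ZQ (Z1 a1)))
    have a4 : Q ≤ 𝐍(⁅V, zpowers ⁅t, b⁆⁆) := le_norm_comm QV (le_norm_of_le_cent (le_cent_symm a2))
    have a5 := comm_le_left (a3.trans h.YV)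
    have a6 := h.inf a3 le_rfl (a3.trans h.YV)
    have a7 : ⁅⁅V, zpowers ⁅t, b⁆⁆, zpowers t⁆ ≤ ⊥ := a6 ▸ le_inf (comm_le_left ((zpowers_le.2 tQ).trans a4))
      ((commutator_mono a5 le_rfl).trans (le_cent_symm (zpowers_le.2 (e1 a1))))
    have a8 : t ∈ 𝐂(⁅V, zpowers ⁅t, b⁆⁆) := le_cent_iff_comm_eq_bot'.2 (le_bot_iff.1 a7) (mem_zpowers t)
    have a9 : ⁅t, b⁆ ∈ 𝐂(⁅V, zpowers ⁅t, b⁆⁆) := cm_mem a8 (norm_le_norm_cent _ (a4 (comm_le_left RQ hb)))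
    rw [inf_eq_left.2 (le_cent_symm (zpowers_le.2 a9))] at a6
    exact h.fa.le ⟨a3 (mem_zpowers _), le_cent_iff_comm_eq_bot'.2 a6 (mem_zpowers _)⟩
  push Not at e
  obtain ⟨c, hc, z1⟩ := e
  have zZ := commutator_mem_commutator tQ hc.1
  have zD : ⁅t, c⁆ ∈ Dn G R (n - 2) := cm_mem ht (Dn_norm _ ⟨h.YG (QY hc.1), hc.2⟩)
  have zB : ⁅t, c⁆ ∈ ⁅Q, B⁆ := cm_mem htQ (norm_comm_left Q B hc.1)
  generalize hz : ⁅t, c⁆ = z at z1 zZ zD zB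
  by_cases e : ⁅⁅Q, Q⁆, R⁆ ≤ 𝐂(⁅V, zpowers z⁆)
  swap
  · exact gab z zD (ZQ zZ) e
  have a2 : zpowers z ≤ 𝐂(Q) := zpowers_le.2 (h1 zZ)
  have a3 : zpowers z ≤ Y := zpowers_le.2 (QY (ZQ zZ))
  have a4 : Q ≤ 𝐍(⁅V, zpowers z⁆) := le_norm_comm QV (le_norm_of_le_cent (le_cent_symm a2))
  have a5 := comm_le_left (a3.trans h.YV)
  have a6 := h.inf a3 le_rfl (a3.trans h.YV)
  have a7 : R ≤ 𝐍(⁅V, zpowers z⁆) := le_norm_comm h.RV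
    (le_norm_of_le_cent (le_cent_symm (zpowers_le.2 (Dn_le _ _ _ zD).2)))
  have a8 : B ≤ 𝐍(⁅V, zpowers z⁆) := le_norm_comm (BG.trans h.GV)
    (le_norm_of_le_cent (le_cent_symm (zpowers_le.2 (h2 zZ))))
  have a9 : z ∉ 𝐂(⁅V, zpowers z⁆) := fun e1 => by
    rw [inf_eq_left.2 (le_cent_symm (zpowers_le.2 e1))] at a6
    exact z1 (h.fa.le ⟨a3 (mem_zpowers _), le_cent_iff_comm_eq_bot'.2 a6 (mem_zpowers _)⟩)
  have QR := comm_le_left RQ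
  have b0 : ⁅⁅Q, R⁆, ⁅Q, R⁆⁆ ≤ ⁅Q, Q⁆ := commutator_mono QR QR
  refine h.good zD (QY (ZQ zZ)) (QR.trans QY) (norm_comm_R RQ) (coprime_comm_comm RQ cQ (Or.inl sR))
    (QR.trans (le_cent_symm a2)) a5 a7 (QR.trans a4) (a4 (ZQ zZ)) ?_ a6
    ((commutator_mono b0 le_rfl).trans e) fun e1 => a9 ?_
  · set U := ⁅V, zpowers z⁆ ⊓ 𝐂(⁅⁅Q, R⁆, ⁅Q, R⁆⁆) with hU
    have b1 : Q ≤ 𝐍(𝐂(U)) := (le_norm_inf_cent a4 (le_norm_of_le_cent (le_cent_symm (b0.trans h1)))).trans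
      (norm_le_norm_cent U)
    have b2 : B ≤ 𝐍(𝐂(U)) := (le_norm_inf_cent a8 (le_norm_of_le_cent (le_cent_symm (b0.trans h2)))).trans
      (norm_le_norm_cent U)
    have b3 : ⁅Q, R⁆ ≤ Rd Q Q 𝐂(U) := fun b hb => (mem_Rd b1).2 ⟨QR hb, fun a ha => by
      obtain ⟨b', hb', c, hc, rfl⟩ := dec' a ha
      rw [cm_mul_right]
      refine mul_mem (le_cent_symm inf_le_right (commutator_mem_commutator hb hb'))
        (conj_mem_of_le_norm b1 (QR hb') ?_)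
      rw [cm_swap]
      exact inv_mem (cent_anti inf_le_left (e (three c hc b hb)))⟩
    have b4 : B ≤ 𝐍(Rd Q Q 𝐂(U)) := le_norm_Rd b1 BQ (fun s hs b hb => conj_mem_of_le_norm BQ hs hb) b2
    have b5 : R ≤ Sk Q (Rd Q Q 𝐂(U)) := fun σ hσ => ⟨RQ hσ, fun a ha => by
      rw [cm_swap]; exact inv_mem (b3 (commutator_mem_commutator ha hσ))⟩
    have b6 : B ≤ Sk Q (Rd Q Q 𝐂(U)) := BR.ge.trans (commutator_le.2 fun g hg σ hσ => by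
      refine (Sk _ _).mul_mem (show g * σ * g⁻¹ ∈ Sk Q _ from ⟨mul_mem (mul_mem (BQ hg) (RQ hσ))
        (inv_mem (BQ hg)), fun a ha => ?_⟩) ((Sk _ _).inv_mem (b5 hσ))
      rw [show ⁅g * σ * g⁻¹, a⁆ = g * ⁅σ, g⁻¹ * a * g⁆ * g⁻¹ by simp only [commutatorElement_def]; group]
      exact conj_mem_of_le_norm b4 hg ((b5 hσ).2 _ (inv_conj_mem_of_le_norm BQ hg ha)))
    have b7 : ⁅Q, B⁆ ≤ Rd Q Q 𝐂(U) := commutator_le.2 fun a ha g hg => by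
      rw [cm_swap]; exact inv_mem ((b6 hg).2 a ha)
    have b8 := ((mem_Rd b1).1 (b7 htQ)).2 c hc.1
    rw [hz] at b8
    refine le_bot_iff.1 (a6 ▸ le_inf inf_le_left ((inf_le_inf_left _ (cent_anti (der_le _))).trans ?_))
    exact le_cent_symm (zpowers_le.2 b8)
  · have b1 : R ≤ 𝐍(Q ⊔ B) := le_norm_sup RQ RB
    have b2 : B ≤ ⁅Q ⊔ B, R⁆ := BR.ge.trans (commutator_mono le_sup_right le_rfl)
    have b3 : Q ≤ 𝐍(⁅Q ⊔ B, R⁆) := le_sup_left.trans (norm_comm_left _ R)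
    refine f1 (G := Q ⊔ B) (elem_le h.el a5) h.hR (sup_le a4 a8) a7 b1
      (Core.coprime_of_le_left h.cop (sup_le (QY.trans h.YG) BG)) e1 ?_
      ((pcop' h.hs h.hp h.sp h.Ys).coprime_dvd_left (Y.orderOf_dvd_natCard (QY (ZQ zZ))))
    by_cases s2 : s = 2
    · exact ((commutator_mono le_rfl (le_OO (odd_of_pg hu (s2 ▸ us) hBu) b2)).trans
        (comm_le_right (b3.trans (norm_OO _)))) zB
    · exact le_OO (odd_of_pg h.hs s2 (h.Ys.to_le ((comm_le_left BQ).trans QY)))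
        ((commutator_mono le_rfl b2).trans (comm_le_right b3)) zB

theorem ab {P B : Subgroup X} {T : Set X} (hP : IsElementaryAbelian s P) (PY : P ≤ Y)
    (hRP : R ≤ 𝐍(P)) (BG : B ≤ G) (hBP : B ≤ 𝐍(P)) (hRB : R ≤ 𝐍(B)) (hBR : ⁅B, R⁆ = B) (hPB : ⁅P, B⁆ = P)
    (h3 : ⁅⁅B, B⁆, R⁆ ≤ 𝐂(P)) (hT : T ⊆ (P ⊓ 𝐂(R) : Subgroup X)) (hD : T ⊆ Dn G R (n - 2))
    (h4 : (∀ c ∈ P ⊓ 𝐂(R), c ∈ T) ∨ ∃ x ∈ 𝐂(R), x ∈ 𝐍(P) ∧ x ∈ 𝐍(B) ∧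
      (orderOf x).Coprime (Nat.card R) ∧ (∀ t, t ∈ T ↔ ∃ c ∈ P ⊓ 𝐂(R), t = ⁅c, x⁆) ∧
      (⁅B, zpowers x⁆ ≤ 𝐂(P) ∨ B ≤ ⁅B, zpowers x⁆ ⊔ (B ⊓ 𝐂(P)))) {t : X} (ht : t ∈ T) (t1 : t ≠ 1) :
    SU n G R Y V := by
  have := Fact.mk h.hp
  have PP := comm_le_cent hP.1
  have PR := comm_le_left hRP
  have PV := PY.trans h.YV
  by_contra hn
  have a1 : ∀ t ∈ T, ⁅P, R⁆ ≤ 𝐂(⁅V, zpowers t⁆) := fun t ht => by_contra fun e => hn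
    (h.ga (hD ht) (PY (hT ht).1) (PR.trans PY) (norm_comm_R hRP)
      (coprime_comm_comm hRP (Core.coprime_of_le_left h.cop (PY.trans h.YG)) (Or.inl (sol_prime h.hR)))
      (le_cent_of_comm hP.1 PR (zpowers_le.2 (hT ht).1)) (le_cent_of_comm hP.1 PR PR) e)
  obtain ⟨K, k1, k2, k3, k4⟩ := hyp h.el h.hs hP (pcop' h.hs h.hp h.sp (h.Ys.to_le PY)) PV (hT ht).1
    fun e => t1 (h.fa.le ⟨PY (hT ht).1, e⟩)
  refine k2 (ab_core h.hR PP hRP hBP hRB hBR hPB h3 (Core.coprime_of_le_left h.cop BG) hT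
    (fun g hg => ?_) h4 ht)
  by_contra e
  push Not at e
  obtain ⟨⟨a, ha, e1⟩, t, ht, e2⟩ := e
  have b1 := conj_mem_of_le_norm hBP hg (PR ha)
  have b2 := conj_mem_of_le_norm hBP hg (hT ht).1
  have b3 : P ≤ 𝐍(V ⊓ 𝐂(K)) := le_norm_inf_cent PV (le_norm_of_le_cent (PP.trans (cent_anti k1)))
  have b4 := mapc (MulAut.conj g).toMonoidHom (a1 t ht) (mem_map_of_mem _ ha)
  rw [map_commutator, MonoidHom.map_zpowers] at b4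
  have b5 : V ⊓ 𝐂(K) ≤ V.map (MulAut.conj g).toMonoidHom := fun v hv =>
    ⟨_, inv_conj_mem_of_le_norm h.GV (BG hg) hv.1, by simp [mul_assoc]⟩
  have b6 := zpowers_le.2 b2
  have b7 := comm_le_left (b6.trans b3)
  have b8 := h.inf (b6.trans PY) inf_le_left (b6.trans b3)
  rw [inf_eq_left.2 ((le_cent_sup (b7.trans inf_le_right) (le_cent_symm (zpowers_le.2
    (cent_anti (commutator_mono b5 le_rfl) b4)))).trans (cent_anti (b6.trans (k4 _ b1 e1))))] at b8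
  exact k3 ((le_cent_sup inf_le_right (le_cent_iff_comm_eq_bot.2 b8)).trans (cent_anti (k4 _ b2 e2)))

theorem odd_w (s2 : s ≠ 2) (hn : ¬ Y ≤ 𝐂(R)) : SW R Y V := by
  have := Fact.mk h.hp
  have := Fact.mk h.hs
  obtain ⟨B, hB, m⟩ := exists_minAct h.RY le_rfl le_normalizer (Core.coprime_of_le_left h.cop h.YG)
    (solvable_of_isPGroup h.Ys) hn
  have BV := hB.trans h.YV
  have a1 := comm_le_left BV
  have a2 := le_norm_comm h.RV m.norm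
  have b : Bd R Y V B ⁅V, B⁆ := ⟨hB, m.norm, m.comm_eq, a1, a2,
    coprime_comm_comm BV (h.cYV hB le_rfl) (Or.inl m.sol),
    (le_cent_iff_comm_eq_bot.1 (m.der_le.trans inf_le_right)).le.trans bot_le⟩
  obtain ⟨c, hc, c1⟩ := exists_mem_ne_one (H := ⁅V, B⁆ ⊓ 𝐂(R)) fun e => by
    have a3 : B ≤ 𝐂(⁅V, B⁆) := fun g hg => f1 (elem_le h.el a1) h.hR (norm_comm_R BV) a2 m.norm m.cop e
      (le_OO (odd_of_pg h.hs s2 (h.Ys.to_le hB)) m.comm_eq.ge hg)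
      ((pcop' h.hs h.hp h.sp h.Ys).coprime_dvd_left (Y.orderOf_dvd_natCard (hB hg)))
    have a4 := h.inf hB le_rfl BV
    rw [inf_eq_left.2 (le_cent_symm a3), ← le_cent_iff_comm_eq_bot'] at a4
    exact m.ne_bot (le_bot_iff.1 (h.fa ▸ le_inf hB a4))
  exact ⟨B, _, c, b, hc, h.ncY b hc.1 c1⟩

end Cr

end Cfsg.Agent.PG.Tu
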