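import Mathlib
import Cfsg.Agent.PG.Tu6

/-! The transitions of the descent along a tower. -/

set_option autoImplicit false
set_option linter.unusedVariables false

namespace Cfsg.Agent.PG.Tu

open Cfsg.Agent.BG Cfsg.Agent.BG.Amb Subgroup Cfsg.Agent.PG.HHS Cfsg.Agent.H23.HH
open scoped Pointwise commutatorElement

variable {X : Type*} [Group X] [Finite X]

theorem mpow {Q T S : Subgroup X} {s : ℕ} (m : MinAct Q T S) (hs : s.Prime) (hQ : IsPGroup s Q) {a : X}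
    (ha : a ∈ Q) : a ^ s ∈ Q ⊓ 𝐂(S) := by
  have := Fact.mk hs
  refine m.le_D (N := (frattini Q).map Q.subtype) (lt_of_le_of_ne (map_subtype_le _) fun e => ?_)
    (Core.le_normalizer_map_subtype m.norm _) (PGrp.pow_mem_map_frattini hQ ha)
  have : Nontrivial Q := (nontrivial_iff_ne_bot Q).2 m.ne_bot
  refine PGrp.frattini_ne_top (G := Q) (map_injective Q.subtype_injective ?_)
  rw [e, ← MonoidHom.range_eq_map, range_subtype]

omit [Finite X] in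
theorem im_bot {X' : Type*} [Group X'] {L D B : Subgroup X} (f : L →* X')
    (hf : ∀ g : L, f g = 1 ↔ (g : X) ∈ D) (hB : B ≤ L) : im f B = ⊥ ↔ B ≤ D := by
  refine ⟨fun e g hg => (hf ⟨g, hB hg⟩).1 (e.le (mem_im f hg)), fun e => le_bot_iff.1 ?_⟩
  rintro _ ⟨g, hg, rfl⟩
  exact (hf g).2 (e hg)

theorem im_card_R {X' : Type*} [Group X'] {L D R : Subgroup X} (f : L →* X')
    (hf : ∀ g : L, f g = 1 ↔ (g : X) ∈ D) (hR : R ≤ L) (hc : (Nat.card D).Coprime (Nat.card R)) :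
    Nat.card (im f R) = Nat.card R := by
  rw [im_card_eq f hR hf, ← inf_relIndex_right, (disjoint_iff.1 (disjoint_of_coprime_natCard hc) :),
    relIndex_bot_left]

variable {G G' R Y V S Q : Subgroup X} {s p u n : ℕ}

theorem Cr.base (h : Cr G R Y V s p) (hY : Y ≠ ⊥) : St 0 s G R Y V := by
  by_cases e : Y ≤ 𝐂(R)
  · exact Or.inl fun e1 => hY (le_bot_iff.1 (h.fa ▸ le_inf le_rfl ((le_inf le_rfl (le_inf h.YG e)).trans e1)))
  by_cases s2 : s = 2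
  · refine Or.inr (Or.inr (Or.inr ⟨rfl, s2, fun e1 => e (le_cent_iff_comm_eq_bot.2 ?_)⟩))
    exact le_bot_iff.1 (h.fa ▸ le_inf (comm_le_left h.RY) e1)
  · exact Or.inr (Or.inr (Or.inl ⟨Nat.zero_le _, h.odd_w s2 e⟩))

namespace Cr

variable (h : Cr G R Y V s p)
include h

theorem nc {B : Subgroup X} (hB : B ≤ Y) (e : B ≤ 𝐂(⁅V, B⁆)) : B = ⊥ := by
  have a4 := h.inf hB le_rfl (hB.trans h.YV)
  rw [inf_eq_left.2 (le_cent_symm e), ← le_cent_iff_comm_eq_bot'] at a4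
  exact le_bot_iff.1 (h.fa ▸ le_inf hB a4)

theorem bd {B : Subgroup X} (hB : B ≤ Y) (RB : R ≤ 𝐍(B)) (BR : ⁅B, R⁆ = B) (h3 : ⁅B, B⁆ ≤ 𝐂(R)) :
    Bd R Y V B ⁅V, B⁆ :=
  have := Fact.mk h.hs
  ⟨hB, RB, BR, comm_le_left (hB.trans h.YV), le_norm_comm h.RV RB, coprime_comm_comm (hB.trans h.YV)
    (h.cYV hB le_rfl) (Or.inl (solvable_of_isPGroup (h.Ys.to_le hB))),
    (le_cent_iff_comm_eq_bot.1 h3).le.trans bot_le⟩

theorem su {B : Subgroup X} {x : X} (b : Bd R Y V B ⁅V, B⁆) (hx : x ∈ Dn G R n) (xB : x ∈ 𝐍(B))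
    (h3 : ⁅B, zpowers x⁆ = ⊥ ∨ ⁅B, zpowers x⁆ = B) (hn : ¬ SU (n + 1) G R Y V) :
    ⁅V, B⁆ ⊓ 𝐂(R) ≤ 𝐂(zpowers x) := fun c hc => by
  have xU : x ∈ 𝐍(⁅V, B⁆) := zpowers_le.1 (le_norm_comm (zpowers_le.2 (h.GV (Dn_le _ _ _ hx).1))
    (zpowers_le.2 xB))
  rw [cent_zpowers]
  by_contra e
  exact hn ⟨x, B, _, c, Or.inl hx, b, xB, xU, h3.imp (fun e => e.le.trans bot_le)
    (fun e => e.ge.trans le_sup_left), hc, h.ncY b (cm_mem hc.1 xU) fun e1 => e (mem_cent1.2 (cm_one.1 e1))⟩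

theorem t0 {A E P : Subgroup X} (hu : u.Prime) (us : u ≠ s) (hA : IsPGroup u A) (AD : A ≤ Dn G R n)
    (ED : E ≤ Dn G R (n - 1)) (AEE : 1 ≤ n → A ≤ ⁅E, E⁆) (AE : A ≤ E) (PY : P ≤ Y)
    (m : MinAct P (E ⊔ R) A) : St (n + 1) s G R Y V := by
  have := Fact.mk h.hp
  have := Fact.mk h.hs
  have := Fact.mk hu
  have PG := PY.trans h.YG
  have PV := PY.trans h.YV
  have EG : E ≤ G := (ED.trans (Dn_le _ _ _)).trans inf_le_left
  have ER : E ≤ 𝐂(R) := (ED.trans (Dn_le _ _ _)).trans inf_le_right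
  have AR := AE.trans ER
  have AP := m.normQ
  have RP : R ≤ 𝐍(P) := le_sup_right.trans m.norm
  have EP : E ≤ 𝐍(P) := le_sup_left.trans m.norm
  have sR := sol_prime h.hR
  have cP := Core.coprime_of_le_left h.cop PG
  have nR : E ⊔ R ≤ 𝐍(R) := sup_le (le_norm_of_le_cent ER) le_normalizer
  by_cases e : P ≤ 𝐂(R)
  · refine Or.inl fun e1 => m.ne_bot (le_bot_iff.1 (h.fa ▸ le_inf PY ((le_inf PY ?_).trans e1)))
    exact m.comm_eq.ge.trans (up (le_inf PG e) AD AP m.cop m.sol)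
  refine Or.inr (Or.inl (by_contra fun hn => ?_))
  have fR : P ⊓ 𝐂(R) ≤ P ⊓ 𝐂(A) := m.le_D (lt_of_le_of_ne inf_le_left fun e1 => e (e1.ge.trans inf_le_right))
    (le_norm_inf_cent m.norm nR)
  have PR : ⁅P, R⁆ = P := (m.eq_or_le (comm_le_left RP) (le_norm_comm m.norm nR)).resolve_right fun e1 =>
    m.D_lt.not_ge ((coprime_comm_sup_cent RP cP (Or.inl sR)).ge.trans (sup_le e1 fR))
  have nD := m.normD
  have Dc := m.D_le_cent
  have PD := m.der_le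
  have DA : P ⊓ 𝐂(A) ≤ 𝐂(A) := inf_le_right
  have DP : P ⊓ 𝐂(A) ≤ P := inf_le_left
  have Dlt := m.D_lt
  have Dmin := fun N => m.le_D (N := N)
  generalize P ⊓ 𝐂(A) = D at fR nD Dc PD DA DP Dlt Dmin
  have RD : R ≤ 𝐍(D) := le_sup_right.trans nD
  by_cases DR : D ≤ 𝐂(R)
  swap
  · have a1 := comm_le_left RD
    have a2 := (a1.trans DP).trans PY
    have a3 := a1.trans Dc
    have a4 := a3.trans (cent_anti (a1.trans DP))
    have b := h.bd a2 (norm_comm_R RD) (coprime_comm_comm RD (Core.coprime_of_le_left cP DP) (Or.inl sR))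
      ((le_cent_iff_comm_eq_bot.1 a4).le.trans bot_le)
    have a5 : ⁅V, ⁅D, R⁆⁆ ⊓ 𝐂(R) ≤ 𝐂(A) := le_cent_symm fun x hx => zpowers_le.1 (le_cent_symm
      (h.su b (AD hx) (cent_le_norm _ (le_cent_symm (a1.trans DA) hx)) (Or.inl (le_cent_iff_comm_eq_bot.1
        ((a1.trans DA).trans (cent_anti (zpowers_le.2 hx))))) hn))
    have a6 := le_norm_of_comm_le_left b.UB.le
    have a7 := f2q (W := ⁅V, ⁅D, R⁆⁆ ⊓ 𝐂(A)) (elem_le h.el b.UV) h.hR a6 b.RU b.RB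
      (pcop' h.hs h.hp h.sp (h.Ys.to_le a2)) a4 inf_le_left
      (le_norm_inf_cent a6 (le_norm_of_le_cent (a1.trans DA)))
      (le_norm_inf_cent b.RU (le_norm_of_le_cent (le_cent_symm AR)))
      (Core.coprime_of_le_left h.cV b.UV) (le_inf inf_le_left a5)
    rw [b.BR, b.UB] at a7
    have a8 : P ≤ 𝐍(⁅V, ⁅D, R⁆⁆) := le_norm_comm PV (le_norm_of_le_cent (le_cent_symm a3))
    exact DR (le_cent_iff_comm_eq_bot.2 (h.nc a2 ((a1.trans DP).trans (m.comm_eq.ge.trans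
      ((commutator_mono le_rfl (le_cent_symm (a7.trans inf_le_right))).trans
      (comm_le_right (a8.trans (norm_le_norm_cent _))))))))
  have ur : u ≠ Nat.card R := fun e1 => m.nle (by
    obtain ⟨k, hk⟩ := IsPGroup.iff_card.1 hA
    have a8 := Core.coprime_of_le_left h.cop (AE.trans EG)
    rw [hk, ← e1] at a8
    have a9 : k = 0 := by_contra fun e2 => hu.one_lt.ne' (Nat.Coprime.eq_one_of_dvd
      (a8.coprime_dvd_left (dvd_pow_self u e2)) dvd_rfl)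
    rw [a9, pow_zero, card_eq_one] at hk
    exact le_cent_symm (hk.le.trans bot_le))
  have key : ∀ x ∈ A, x ∉ 𝐂(P) → x ^ u ∈ 𝐂(P) → u = 2 ∧ ∃ K ≤ D, ¬ ⁅⁅P, zpowers x⁆ ⊔ D, ⁅P, zpowers x⁆ ⊔ D⁆ ≤ K ∧
      (rad (⁅P, zpowers x⁆ ⊔ D) K).relIndex (⁅P, zpowers x⁆ ⊔ D) = (2 * Nat.card R - 1) ^ 2 := by
    intro x hx x1 xu
    have z1 := zpowers_le.2 hx
    have zP := z1.trans AP
    have zR := le_norm_of_le_cent (le_cent_symm (z1.trans AR))
    have a1 := comm_le_left zP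
    have a2 := le_norm_comm RP zR
    have a3 := coprime_comm_comm zP (Core.coprime_of_le_right m.cop z1) (Or.inr m.sol)
    have a4 := norm_comm_R zP
    have a5 : ⁅P, zpowers x⁆ ≠ ⊥ := fun e1 => x1 (le_cent_iff_comm_eq_bot'.2 e1 (mem_zpowers x))
    generalize ⁅P, zpowers x⁆ = B at a1 a2 a3 a4 a5 ⊢
    have a6 : ⁅B, R⁆ = B := by
      refine le_antisymm (comm_le_left a2) (a3.ge.trans (commutator_le.2 fun a ha y hy => ?_))
      obtain ⟨b, hb, c, hc, rfl⟩ := (Core.mem_sup_of_le_normalizer (inf_le_left.trans (norm_comm_left B R))).1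
        ((coprime_comm_sup_cent a2 (Core.coprime_of_le_left cP a1) (Or.inl sR)).ge ha)
      rw [cm_mul_left, cm_one.2 (mem_cent.1 (DA (fR ⟨a1 hc.1, hc.2⟩)) y (z1 hy)).symm, mul_one,
        mul_inv_cancel, one_mul]
      exact cm_mem hb (le_norm_comm a4 (le_norm_of_le_cent (z1.trans AR)) hy)
    have a7 := sup_le a1 DP
    have b := h.bd (a1.trans PY) a2 a6 (((commutator_mono a1 a1).trans PD).trans DR)
    have xD : x ∈ 𝐂(D) := le_cent_symm DA hx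
    have H : H3 (B ⊔ D) D R x u := ⟨h.hR, hu, ur, le_sup_right, (commutator_mono a7 a7).trans PD,
      Dc.trans (cent_anti a7), xD, le_cent_symm DR,
      zpowers_le.1 (le_norm_sup a4 (zpowers_le.2 (cent_le_norm _ xD))), le_norm_sup a2 RD, AR hx,
      sup_le_sup_right (a3.ge.trans (commutator_mono le_sup_left le_rfl)) _,
      (inf_le_inf_right _ a7).trans fR, cent_anti a7 xu, hA.to_le z1,
      pcop' h.hs hu us.symm (h.Ys.to_le (a7.trans PY)), Core.coprime_of_le_left cP a7, solvable_mono m.sol a7⟩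
    exact f3 H (elem_le h.el b.UV) (sup_le (le_norm_of_comm_le_left b.UB.le) (le_norm_comm (DP.trans PV)
        (le_norm_of_le_cent (Dc.trans (cent_anti a1))))) (zpowers_le.1 (le_norm_comm
        ((z1.trans (AE.trans EG)).trans h.GV) a4)) b.RU (pcop' h.hs h.hp h.sp (h.Ys.to_le (a7.trans PY)))
        (h.su b (AD hx) (zpowers_le.1 a4) (Or.inr a3) hn) fun e1 => a5 (h.nc (a1.trans PY)
        ((a6.ge.trans (commutator_mono le_sup_left le_rfl)).trans e1))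
  have nA : ¬ A ≤ 𝐂(P) := fun e1 => m.nle (le_cent_symm e1)
  obtain ⟨x₀, hx₀, x1, xu, -⟩ := cen_elt hu hA (AP.trans (norm_le_norm_cent P)) nA
  obtain ⟨u2, K₀, hK₀, hK1, -⟩ := key x₀ hx₀ x1 xu
  subst u2
  have oP := odd_of_pg h.hs us.symm (h.Ys.to_le PY)
  have D1 : D ≠ ⊥ := fun e1 => hK1 (((commutator_mono (sup_le (comm_le_left ((zpowers_le.2 hx₀).trans AP)) DP)
    (sup_le (comm_le_left ((zpowers_le.2 hx₀).trans AP)) DP)).trans PD).trans (e1.le.trans bot_le))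
  have DD : D ⊓ Dn G R (n - 1) = ⊥ := by_contra fun e1 => by
    obtain ⟨t, ht, t1⟩ := exists_mem_ne_one e1
    have a0 := zpowers_le.2 (DP ht.1)
    have a1 := (a0.trans PY).trans h.YV
    have a2 := le_cent_symm (zpowers_le.2 (Dc ht.1))
    have a3 := le_norm_comm h.RV (le_norm_of_le_cent (le_cent_symm (zpowers_le.2 (DR ht.1))))
    have a4 := le_norm_comm PV (le_norm_of_le_cent a2)
    have a5 := h.inf (a0.trans PY) le_rfl a1
    refine hn (h.good (n := n + 1) ht.2 (PY (DP ht.1)) PY RP PR a2 (comm_le_left a1) a3 a4 (a4 (DP ht.1))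
      (le_bot_iff.1 ((inf_le_inf_left _ (cent_anti a0)).trans a5.le)) a5
      ((le_cent_iff_comm_eq_bot.1 (PD.trans DR)).le.trans bot_le) fun e2 => t1 ?_)
    exact zpowers_eq_bot.1 (h.nc (a0.trans PY) (zpowers_le.2 (f1 (elem_le h.el (comm_le_left a1)) h.hR a4 a3 RP
      cP e2 (le_OO oP PR.ge (DP ht.1))
      ((pcop' h.hs h.hp h.sp h.Ys).coprime_dvd_left (Y.orderOf_dvd_natCard (PY (DP ht.1)))))))
  have DG : D ≤ G ⊓ 𝐂(R) := le_inf (DP.trans PG) DR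
  have n1 : 1 ≤ n := by_contra fun e1 => D1 (by
    rw [show n - 1 = 0 by omega] at DD
    exact le_bot_iff.1 (DD ▸ le_inf le_rfl DG))
  have EC : E ≤ 𝐂(D) := le_cent_iff_comm_eq_bot'.2 (le_bot_iff.1 (DD ▸ le_inf
    (comm_le_left (le_sup_left.trans nD))
    ((commutator_mono le_rfl ED).trans (comm_le_right (DG.trans (Dn_norm _))))))
  have TD : E ⊔ R ≤ 𝐂(D) := sup_le EC (le_cent_symm DR)
  have key2 : ∀ x ∈ A, x ∉ 𝐂(P) → x ^ 2 ∈ 𝐂(P) →
      D.relIndex (⁅P, zpowers x⁆ ⊔ D) = (2 * Nat.card R - 1) ^ 2 := by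
    intro x hx x1 xu
    obtain ⟨-, K, hK, k1, k2⟩ := key x hx x1 xu
    have z1 := zpowers_le.2 hx
    have zP := z1.trans AP
    have a1 := comm_le_left zP
    have a7 := sup_le a1 DP
    have PK : P ≤ 𝐍(K) := le_norm_of_le_cent (le_cent_symm (hK.trans Dc))
    have a2 : rad P K ≤ D := Dmin _ (lt_of_le_of_ne (rad_le _ _) fun e1 =>
      k1 ((commutator_mono a7 a7).trans ((le_rad_iff PK).1 e1.ge).2))
      (le_norm_rad m.norm (le_norm_of_le_cent (TD.trans (cent_anti hK))))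
    have a3 : ⁅P, zpowers x⁆ ≤ 𝐂(P ⊓ 𝐂(zpowers x)) := Core.three_subgroups
      (((commutator_mono le_rfl inf_le_left).trans PD).trans (DA.trans (cent_anti z1)))
      ((le_cent_iff_comm_eq_bot'.1 inf_le_right).le.trans bot_le)
    have a4 := sup_le a3 (Dc.trans (cent_anti inf_le_left))
    rw [← k2]
    congr 1
    refine le_antisymm ((le_rad_iff (a7.trans PK)).2 ⟨le_sup_right, (le_cent_iff_comm_eq_bot.1
      (Dc.trans (cent_anti a7))).le.trans bot_le⟩) fun g hg => a2 ((mem_rad PK).2 ⟨a7 hg.1, fun a ha => ?_⟩)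
    obtain ⟨b, hb, c, hc, rfl⟩ := (Core.mem_sup_of_le_normalizer (inf_le_left.trans (norm_comm_left P _))).1
      ((coprime_comm_sup_cent zP (Core.coprime_of_le_right m.cop z1) (Or.inr m.sol)).ge ha)
    rw [cm_mul_right, cm_one.2 (mem_cent.1 (a4 hg.1) c hc).symm, mul_one, mul_inv_cancel, mul_one]
    exact ((mem_rad (a7.trans PK)).1 hg).2 b (mem_sup_left hb)
  obtain ⟨_, f, hf⟩ := exists_sec (L := P ⊔ (E ⊔ R)) (N := D) (sup_le (le_norm_of_le_cent (le_cent_symm Dc)) nD)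
  have PL : P ≤ P ⊔ (E ⊔ R) := le_sup_left
  have TL : E ⊔ R ≤ P ⊔ (E ⊔ R) := le_sup_right
  have EL := le_sup_left.trans TL
  have RL := le_sup_right.trans TL
  have ib : ∀ B ≤ P ⊔ (E ⊔ R), im f B = ⊥ ↔ B ≤ D := fun B hB => im_bot f hf hB
  have cR : Nat.card (im f R) = Nat.card R := im_card_R f hf RL (Core.coprime_of_le_left cP DP)
  have cc : ∀ B ≤ A, im f B ≤ 𝐂(im f P) → B ≤ 𝐂(P) := fun B hB e1 => coprime_le_cent_of_comm_le_cent
    (hB.trans AP) (Core.coprime_of_le_right m.cop hB) (((ib _ ((comm_le_left (hB.trans AP)).trans PL)).1 (by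
      rw [im_comm f PL (hB.trans (AE.trans EL))]; exact le_cent_iff_comm_eq_bot'.1 e1)).trans
      (DA.trans (cent_anti hB)))
  refine endgame (W := im f P) (E := im f E) (R := im f R) (A := im f A) (cR ▸ h.hR) (cR ▸ ur.symm)
    (le_cent_iff_comm_eq_bot.2 (by rw [← im_comm f PL PL, ib _ ((der_le P).trans PL)]; exact PD))
    (Odd.of_dvd_nat oP (im_card f PL)) (cR ▸ cP.coprime_dvd_left (im_card f PL)) (im_norm f EP) (im_norm f RP)
    (im_cent f ER) (by rw [← im_comm f EL EL]; exact im_mono f (AEE n1))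
    (im_norm f (le_sup_left.trans m.normY)) (im_pg f hA)
    (by rw [im_inf_cent f PL RL RP cP sR, ib _ (inf_le_left.trans PL)]; exact fR) (fun N hN nN => ?_)
    (fun e1 => nA (cc A le_rfl e1)) ?_
  · rw [← im_pre_inf f hN.le, ib _ (inf_le_right.trans PL)]
    refine Dmin _ (lt_of_le_of_ne inf_le_right fun e1 => hN.ne ?_)
      (le_norm_inf (norm_pre f TL (by rw [im_sup f EL RL]; exact nN)) m.norm)
    rw [← im_pre_inf f hN.le, e1]
  · rintro _ ⟨x, hx, rfl⟩ x1 x2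
    replace hx : (x : X) ∈ A := hx
    have a1 := key2 x hx (fun e1 => x1 (zpowers_le.1 (im_zp f x ▸ im_cent f (zpowers_le.2 e1))))
      (zpowers_le.1 (cc _ (zpowers_le.2 (pow_mem hx 2)) (by
        rw [← coe_pow, im_zp, map_pow]; exact zpowers_le.2 x2)))
    have a2 := (comm_le_left ((zpowers_le.2 hx).trans AP)).trans PL
    rw [← im_card_eq f (sup_le a2 (DP.trans PL)) hf, im_sup f a2 (DP.trans PL), (ib D (DP.trans PL)).2 le_rfl,
      sup_bot_eq, im_comm f PL (zpowers_le.2 x.2), im_zp] at a1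
    rw [cR]
    exact a1

end Cr

/-- The hypotheses of a step. -/
structure Sp (G G' R Y V S Q : Subgroup X) (s p u : ℕ) : Prop where
  h : Cr G R Y V s p
  h' : Cx G' R S Q u s
  GG : G' ≤ G
  QY : Q ≤ Y
  m : MinAct Q (G' ⊔ R) S

namespace Sp

variable (h : Sp G G' R Y V S Q s p u)
include h

theorem tU0 {B U : Subgroup X} (b : Bd R S Q B U) {T : Set X} (hT : T ⊆ (U ⊓ 𝐂(R) : Subgroup X))
    (hD : T ⊆ Dn G R (n + 1 - 2))
    (h4 : (∀ c ∈ U ⊓ 𝐂(R), c ∈ T) ∨ ∃ x ∈ 𝐂(R), x ∈ 𝐍(U) ∧ x ∈ 𝐍(B) ∧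
      (orderOf x).Coprime (Nat.card R) ∧ (∀ t, t ∈ T ↔ ∃ c ∈ U ⊓ 𝐂(R), t = ⁅c, x⁆) ∧
      (⁅B, zpowers x⁆ ≤ 𝐂(U) ∨ B ≤ ⁅B, zpowers x⁆ ⊔ (B ⊓ 𝐂(U)))) {t : X} (ht : t ∈ T) (t1 : t ∉ 𝐂(S)) :
    SU (n + 1) G R Y V := by
  have m := h.m
  have BG := (b.BY.trans h.h'.YG).trans h.GG
  by_cases e : Q ≤ 𝐂(Q)
  · have a1 : Q ⊓ 𝐂(S) = ⊥ := by
      have := coprime_abelian_comm_inf_cent (comm_of_le_cent e) m.normQ m.cop
      rwa [m.comm_eq] at this
    have a2 : IsElementaryAbelian s Q := ⟨comm_of_le_cent e, fun a ha => a1.le (mpow m h.h'.hp h.h'.Vp ha)⟩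
    exact h.h.ab (elem_le a2 b.UV) (b.UV.trans h.QY) b.RU BG (le_norm_of_comm_le_left b.UB.le) b.RB b.BR
      b.UB b.b3 hT hD h4 ht fun e1 => t1 (e1 ▸ one_mem _)
  · have a1 : Q ⊓ 𝐂(Q) ≤ 𝐂(S) := m.min _ (lt_of_le_of_ne inf_le_left fun e1 => e (e1.ge.trans inf_le_right))
      (le_norm_inf_cent m.norm m.norm)
    exact h.h.na h.h'.hs h.h'.sp (h.h'.Ys.to_le b.BY) h.QY h.h'.RV BG b.RB b.BR (b.BY.trans m.normQ)
      (m.der_le.trans m.D_le_cent) ((m.der_le.trans inf_le_right).trans (cent_anti b.BY)) (hD ht)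
      (commutator_mono b.UV le_rfl (b.UB.ge (hT ht).1)) fun e1 => t1 (a1 ⟨b.UV (hT ht).1, e1⟩)

theorem tU (hs : SU n G' R S Q) : SU (n + 1) G R Y V := by
  have := Fact.mk h.h.hs
  obtain ⟨x, B, U, c, hx, b, xB, xU, h3, hc, h4⟩ := hs
  have xG : x ∈ G' ⊓ 𝐂(R) := hx.elim (fun e => Dn_le _ _ _ e) fun e => Dn_le _ _ _ e.1
  have QG := h.QY.trans h.h.YG
  refine h.tU0 b (T := {t | ∃ c ∈ U ⊓ 𝐂(R), t = ⁅c, x⁆}) ?_ ?_ (Or.inr ⟨x, xG.2, xU, xB,
    h.h'.cop.coprime_dvd_left (G'.orderOf_dvd_natCard xG.1), fun t => Iff.rfl,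
    h3.imp id fun e => e.trans (sup_le_sup_left (inf_le_inf_left _ (cent_anti b.UV)) _)⟩) ⟨c, hc, rfl⟩ h4
  · rintro _ ⟨c, hc, rfl⟩
    exact ⟨cm_mem hc.1 xU, cm_mem hc.2 (le_normalizer xG.2)⟩
  · rintro _ ⟨c, hc, rfl⟩
    have a1 : c ∈ G ⊓ 𝐂(R) := ⟨QG (b.UV hc.1), hc.2⟩
    rcases hx with e | e
    · rw [cm_swap]
      exact inv_mem (cm_mem (Dn_mono h.GG _ e) (Dn_norm _ a1))
    · refine Dn_anti (m := n + 1 - 2) (n := n - 2 + 1) (by omega)
        (up (Q := Q ⊓ 𝐂(R)) (A := zpowers x) (inf_le_inf_right _ QG) (zpowers_le.2 (Dn_mono h.GG _ e.1))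
        (le_norm_inf (zpowers_le.2 (h.h'.GV xG.1)) (zpowers_le.2 (le_normalizer xG.2)))
        (pcop h.h.hs h.h'.hs h.h'.sp.symm (h.h'.Vp.to_le inf_le_left) (h.h'.Ys.to_le (zpowers_le.2 e.2)))
        (solvable_of_isPGroup (h.h'.Vp.to_le inf_le_left))
        (commutator_mem_commutator ⟨b.UV hc.1, hc.2⟩ (mem_zpowers x)))

theorem tW (hn : n ≤ 1) (hs : SW R S Q) : SU (n + 1) G R Y V := by
  obtain ⟨B, U, c, b, hc, h4⟩ := hs
  refine h.tU0 b (T := (U ⊓ 𝐂(R) : Subgroup X)) le_rfl ?_ (Or.inl fun c hc => hc) hc h4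
  rw [show n + 1 - 2 = 0 by omega]
  exact inf_le_inf_right _ ((b.UV.trans h.QY).trans h.h.YG)

theorem tX (u2 : u = 2) (hs : ¬ ⁅S, R⁆ ≤ 𝐂(Q)) : SW R Y V :=
  h.h.odd_w (u2 ▸ h.h'.sp.symm) fun e => hs ((commutator_mono le_rfl (le_cent_symm (h.QY.trans e))).trans
    (comm_le_right (h.m.normQ.trans (norm_le_norm_cent Q))))

theorem step (hs : St n u G' R S Q) : St (n + 1) s G R Y V := by
  have := Fact.mk h.h.hs
  rcases hs with e | e | e | e
  · have a1 : S ⊓ Dn G' R n ≤ Dn G' R (n - 1) := inf_le_right.trans (Dn_anti (Nat.sub_le n 1))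
    have a2 := Dn_le G' R (n - 1)
    have a3 : Dn G' R (n - 1) ⊔ R ≤ G' ⊔ R := sup_le_sup_right (a2.trans inf_le_left) _
    obtain ⟨P, hP, m⟩ := exists_minAct (Q₀ := Q) (T := Dn G' R (n - 1) ⊔ R) (Y := S ⊓ Dn G' R n)
      (a3.trans h.m.norm) (a1.trans le_sup_left) (le_norm_inf (a3.trans h.m.normY) (sup_le
      (a2.trans (Dn_norm n)) (le_norm_of_le_cent (le_cent_symm ((Dn_le _ _ _).trans inf_le_right)))))
      (Core.coprime_of_le_right h.m.cop inf_le_left) h.m.sol fun e1 => e (le_cent_symm e1)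
    refine h.h.t0 h.h'.hs h.h'.sp (h.h'.Ys.to_le inf_le_left) (inf_le_right.trans (Dn_mono h.GG n))
      (Dn_mono h.GG _) (fun n1 => inf_le_right.trans ?_) a1 (hP.trans h.QY) m
    obtain ⟨k, rfl⟩ := Nat.exists_eq_add_of_le' n1
    rw [Dn, Function.iterate_succ_apply']
    exact nres_le_der _
  · exact Or.inr (Or.inl (h.tU e))
  · exact Or.inr (Or.inl (h.tW e.1 e.2))
  · exact Or.inr (Or.inr (Or.inl ⟨by omega, h.tX e.2.1 e.2.2⟩))

end Sp

end Cfsg.Agent.PG.Tu
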