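import Mathlib
import Cfsg.Agent.PG.Br2
import Cfsg.Agent.PG.Tu7
import Cfsg.Agent.Gross.E

/-! Exceptional `2`-elements give bireflections. -/

set_option autoImplicit false
set_option linter.unusedVariables false

namespace Cfsg.Agent.PG.Br

open Module Cfsg.Agent.BG Cfsg.Agent.BG.Amb Cfsg.Agent.BG.RepGlue Cfsg.Agent.BG.RepWeight
  Cfsg.Agent.BG.RepFrob Cfsg.Agent.BG.RepExtra Cfsg.Agent.BG.RepPrime Cfsg.Agent.H23.HH
  Cfsg.Agent.PG.Tu Cfsg.Agent.PG.HHS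
open scoped commutatorElement Pointwise
open Subgroup (zpowers)

variable {k G W : Type*} [Field k] [Group G] [AddCommGroup W] [Module k W]
  [IsAlgClosed k] [Finite G] [FiniteDimensional k W] {ρ : Representation k G W} [CharP k 2]

/-- A class two `q`-group with centre `D`. -/
structure Es (q : ℕ) (Q D : Subgroup G) : Prop where
  prime : q.Prime
  ne : q ≠ 2
  pg : IsPGroup q Q
  le : D ≤ Q
  der : ⁅Q, Q⁆ ≤ D
  cen : D ≤ 𝐂(Q)
  z : Q ⊓ 𝐂(Q) ≤ D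

omit [Finite G] in
theorem Es.sq {q : ℕ} {Q D : Subgroup G} (h : Es q Q D) {A : Subgroup G} {g : G} (hg : g ∈ Q)
    (h2 : g ^ 2 ∈ A) : g ∈ A := by
  obtain ⟨n, hn⟩ := h.pg ⟨g, hg⟩
  exact PGrp.mem_of_pow_mem_of_coprime (a := 2) (b := q ^ n)
    (((Nat.coprime_primes Nat.prime_two h.prime).2 h.ne.symm).pow_right n) h2
    (by rw [show g ^ q ^ n = 1 from congrArg Subtype.val hn]; exact A.one_mem)

theorem Es.rad_eq {q : ℕ} {Q D : Subgroup G} (h : Es q Q D) {u : G} (hu : u ∈ 𝐍(Q))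
    (hu2 : IsPGroup 2 (zpowers u)) (huD : u ∈ 𝐂(D)) (l : D →* kˣ) :
    rad (⁅Q, zpowers u⁆ ⊔ D) (kerG l) ≤ rad Q (kerG l) := by
  haveI := Fact.mk h.prime
  haveI : Fact (Nat.Prime 2) := ⟨Nat.prime_two⟩
  have hQK := norm_kerG_of_cent h.cen l
  have hY := Subgroup.zpowers_le.2 hu
  have hYD := Subgroup.zpowers_le.2 huD
  have hDZ := le_rad_of_cent h.le h.cen l
  have h1 : ⁅Q, zpowers u⁆ ≤ Q := comm_le_left hY
  have h2 := sup_le h1 h.le
  have h3 := sup_le h1 (rad_le Q (kerG l))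
  rw [← rad_comm_sup hQK (norm_kerG_of_cent (le_cent_symm hYD) l) hY
    (IsPGroup.coprime_card_of_ne q 2 h.ne _ _ h.pg hu2) (solvable_of_isPGroup h.pg) (by
      rw [le_cent_iff_comm_eq_bot.1 (h.der.trans (le_cent_symm hYD))]; exact bot_le)]
  obtain ⟨h4, h5⟩ := (le_rad_iff (h2.trans hQK)).1 (le_refl (rad (⁅Q, zpowers u⁆ ⊔ D) (kerG l)))
  refine (le_rad_iff (h3.trans hQK)).2 ⟨h4.trans (sup_le_sup_left hDZ _), comm_sup_right_le
    (h3.trans hQK) ((Subgroup.commutator_mono le_rfl le_sup_left).trans h5) ?_⟩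
  rw [Subgroup.commutator_comm]
  exact (Subgroup.commutator_mono le_rfl (h4.trans h2)).trans ((le_rad_iff hQK).1 le_rfl).2

theorem Es.bi {q n : ℕ} {Q D : Subgroup G} (h : Es q Q D) {y : G} (hyQ : y ∈ 𝐍(Q))
    (hyD : y ∈ 𝐍(D)) (hy : y ^ 2 ^ (n + 2) = 1) (h0 : (ρ y - 1) ^ (2 ^ (n + 2) - 1) = 0)
    (huD : y ^ 2 ^ (n + 1) ∈ 𝐂(D)) {l : D →* kˣ} (hwt : wt ρ D l ≠ ⊥)
    (hn : ¬ ⁅Q, zpowers (y ^ 2 ^ (n + 1))⁆ ≤ rad Q (kerG l)) : y ^ 2 ^ n ∈ stab l ∧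
      (rad Q (kerG l)).relIndex (⁅Q, zpowers (y ^ 2 ^ (n + 1))⁆ ⊔ D) = q ^ 2 := by
  haveI := Fact.mk h.prime
  haveI : Fact (Nat.Prime 2) := ⟨Nat.prime_two⟩
  have hx : orderOf y = 2 ^ (n + 2) := orderOf_eq_prime_pow (fun e => hn (by
    rw [e, Subgroup.zpowers_one_eq_bot, Subgroup.commutator_bot_right]; exact bot_le)) hy
  have hω := omega_le Nat.prime_two hx (Nat.le_add_left 1 (n + 1))
  have hp : IsPGroup 2 (zpowers y) := isPGroup_zpowers_iff.2 ⟨_, hy⟩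
  have hr := h.rad_eq (Subgroup.pow_mem _ hyQ (2 ^ (n + 1))) (hp.to_le (zpowers_pow_le _ _)) huD l
  set Y := zpowers (y ^ 2 ^ (n + 1)) with hY
  have hYB : Y ≤ zpowers y := zpowers_pow_le _ _
  have hB := Subgroup.zpowers_le.2 hyQ
  have hBD := Subgroup.zpowers_le.2 hyD
  have hYD : Y ≤ 𝐂(D) := Subgroup.zpowers_le.2 huD
  have hkQ : (Nat.card Q : k) ≠ 0 := cast_card_ne_zero h.prime h.ne h.pg
  have hkD := cast_card_ne_zero_of_le h.le hkQ
  have hcop := IsPGroup.coprime_card_of_ne q 2 h.ne _ _ h.pg (hp.to_le hYB)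
  have hsQ := solvable_of_isPGroup h.pg
  set E := ⁅Q, Y⁆ ⊔ D with hE
  have hEQ : E ≤ Q := sup_le (comm_le_left (hYB.trans hB)) h.le
  have h12 : E ≤ 𝐂(Q ⊓ 𝐂(Y)) := sup_le (le_cent_iff_comm_eq_bot.2 (le_bot_iff.1
    (comm_comm_cent_le le_norm_bot le_norm_bot
      (le_cent_iff_comm_eq_bot.1 (h.der.trans (le_cent_symm hYD))).le)))
    (h.cen.trans (cent_anti inf_le_left))
  have hsup := coprime_comm_sup_cent (hYB.trans hB) hcop (Or.inr hsQ)
  have hCD : E ⊓ 𝐂(Y) ≤ D := by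
    refine le_trans (le_inf (inf_le_left.trans hEQ) ?_) h.z
    rw [← hsup]
    exact le_cent_sup (((inf_le_inf_right _ hEQ).trans (le_cent_symm h12)).trans
      (cent_anti le_sup_left)) (inf_le_left.trans h12)
  have hnm : ∀ v, nm ρ (zpowers y) v = 0 := fun v => by
    rw [nm_zpowers_char hx, h0, LinearMap.zero_apply]
  have hEK := norm_kerG_of_cent (h.cen.trans (cent_anti hEQ)) l
  obtain ⟨U, hU, hloc⟩ := es_local (ρ := ρ) (Q := E) (B := zpowers y ⊓ stab l) (Y := Y) le_sup_right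
    ((der_mono hEQ).trans h.der) (h.cen.trans (cent_anti hEQ))
    (inf_le_left.trans (le_norm_sup (le_norm_comm hB (zpowers_norm_pow y _)) hBD))
    (le_inf hYB (hYD.trans (cent_le_stab l))) (fun e he => hω e he.1)
    (Core.coprime_of_le_left hcop hEQ) (solvable_mono hsQ hEQ) hCD
    (cast_card_ne_zero_of_le hEQ hkQ) inf_le_right hwt le_rfl
    (fun g hg v hv => apply_mem_wt_of_stab (cent_le_stab l (le_cent_symm h.cen (hEQ hg))) hv)
    (fun g hg v hv => apply_mem_wt_of_stab hg.2 hv) (fun v hv => nm_stab hkD hBD hv (hnm v))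
    fun e => hn ((le_sup_left.trans ((le_rad_iff hEK).2 ⟨le_rfl, e⟩)).trans hr)
  obtain ⟨j, hj, hjl⟩ := exists_eq_zpowers_pow Nat.prime_two hx
    (inf_le_left : zpowers y ⊓ stab l ≤ _)
  have hnm' : ∀ v ∈ U, nm ρ (zpowers y ⊓ stab l) v = 0 := fun v hv =>
    nm_stab hkD hBD (hU hv) (hnm v)
  rw [hjl] at hloc hnm'
  obtain ⟨h1, h2, -⟩ := hloc.modular' (orderOf_pow_pow Nat.prime_two hx hj) hnm'
  have h4 := hloc.two_le
  obtain ⟨m, hm, h3⟩ := eq_pow_of_sq h.prime (h.pg.to_le hEQ) h1 h4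
  obtain rfl := Gross.mersenne_exp h.prime h.ne hm (h3 ▸ h2)
  constructor
  · have : j ≤ n := by
      by_contra hlt
      have : 2 ^ (n + 2 - j) ≤ 2 ^ 1 := Nat.pow_le_pow_right two_pos (by omega)
      omega
    obtain ⟨i, rfl⟩ := Nat.exists_eq_add_of_le this
    rw [pow_add, pow_mul]
    exact Subgroup.pow_mem _ ((hjl.ge (Subgroup.mem_zpowers _)).2) _
  · rw [← Subgroup.inf_relIndex_right, ← pow_one q, ← h3, h1]
    congr 1
    refine le_antisymm ((le_rad_iff hEK).2 ⟨inf_le_right, (Subgroup.commutator_mono inf_le_left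
      hEQ).trans ((le_rad_iff (norm_kerG_of_cent h.cen l)).1 le_rfl).2⟩) (le_inf hr (rad_le _ _))

end Cfsg.Agent.PG.Br
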