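import Mathlib
import Cfsg.Agent.PG.Br3

/-! The action on the symplectic section. -/

set_option autoImplicit false
set_option linter.unusedVariables false

namespace Cfsg.Agent.PG.Br

open Module Cfsg.Agent.BG Cfsg.Agent.BG.Amb Cfsg.Agent.BG.RepGlue Cfsg.Agent.BG.RepWeight
  Cfsg.Agent.BG.RepFrob Cfsg.Agent.BG.RepExtra Cfsg.Agent.BG.RepPrime Cfsg.Agent.H23.HH
  Cfsg.Agent.PG.Tu Cfsg.Agent.PG.HHS
open scoped commutatorElement Pointwise
open Subgroup (zpowers)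

universe u

theorem exists_act {G : Type u} [Group G] {Q Z L : Subgroup G} (hQ : L ≤ 𝐍(Q)) (hZ : L ≤ 𝐍(Z))
    (hd : ⁅Q, Q⁆ ≤ Z) (hZQ : Z ≤ Q) : ∃ (M : Type u) (_ : CommGroup M)
      (_ : MulDistribMulAction L M) (π : Q →* M), Function.Surjective π ∧
      (∀ a, π a = 1 ↔ (a : G) ∈ Z) ∧
      ∀ (g : L) (a b : Q), (b : G) = g * a * (g : G)⁻¹ → g • π a = π b := by
  haveI : (Z.subgroupOf Q).Normal :=
    Subgroup.normal_subgroupOf_of_le_normalizer (le_norm_of_der_le hd hZQ)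
  let cj : L → Q →* Q := fun g =>
    { toFun := fun a => ⟨g * a * (g : G)⁻¹, conj_mem_of_le_norm hQ g.2 a.2⟩
      map_one' := Subtype.ext (by simp)
      map_mul' := fun a b => Subtype.ext (by simp [mul_assoc]) }
  let ac : L → (Q ⧸ Z.subgroupOf Q) →* (Q ⧸ Z.subgroupOf Q) := fun g =>
    QuotientGroup.map _ _ (cj g) fun a ha => conj_mem_of_le_norm hZ g.2 ha
  letI : CommGroup (Q ⧸ Z.subgroupOf Q) :=
    { (inferInstance : Group (Q ⧸ Z.subgroupOf Q)) with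
      mul_comm := by
        rintro ⟨a⟩ ⟨b⟩
        refine QuotientGroup.eq.2 (hd ?_)
        have := Subgroup.commutator_mem_commutator (Q.inv_mem b.2) (Q.inv_mem a.2)
        simpa [commutatorElement_def, mul_assoc] using this }
  letI : MulDistribMulAction L (Q ⧸ Z.subgroupOf Q) :=
    { smul := fun g v => ac g v
      one_smul := by
        rintro ⟨a⟩
        exact congrArg QuotientGroup.mk (Subtype.ext (show ((1 : L) : G) * a * ((1 : L) : G)⁻¹ = a by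
          simp))
      mul_smul := by
        rintro g h ⟨a⟩
        exact congrArg QuotientGroup.mk (Subtype.ext (show ((g * h : L) : G) * a * ((g * h : L) : G)⁻¹ =
          g * (h * a * (h : G)⁻¹) * (g : G)⁻¹ by simp [mul_assoc]))
      smul_mul := fun g => map_mul (ac g)
      smul_one := fun g => map_one (ac g) }
  refine ⟨Q ⧸ Z.subgroupOf Q, inferInstance, inferInstance, QuotientGroup.mk' _,
    QuotientGroup.mk'_surjective _, fun a => QuotientGroup.eq_one_iff a, fun g a b e => ?_⟩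
  exact congrArg (QuotientGroup.mk (s := Z.subgroupOf Q)) (show cj g a = b from Subtype.ext e.symm)

variable {k G : Type*} [Field k] [Group G] [Finite G] {q : ℕ} {Q D L Z : Subgroup G}
  {M : Type*} [CommGroup M] [MulDistribMulAction L M] {π : Q →* M}

/-- The action on a section. -/
structure Ac (L Z : Subgroup G) {M : Type*} [CommGroup M] [MulDistribMulAction L M]
    (π : Q →* M) : Prop where
  nQ : L ≤ 𝐍(Q)
  nZ : L ≤ 𝐍(Z)
  surj : Function.Surjective π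
  ker : ∀ a, π a = 1 ↔ (a : G) ∈ Z
  cj : ∀ (g : L) (a b : Q), (b : G) = g * a * (g : G)⁻¹ → g • π a = π b

omit [Finite G] in
theorem Ac.sm (h : Ac L Z π) (g : L) (a : Q) :
    g • π a = π ⟨g * a * (g : G)⁻¹, conj_mem_of_le_norm h.nQ g.2 a.2⟩ := h.cj _ _ _ rfl

omit [Finite G] in
theorem Ac.eq (h : Ac L Z π) {a b : Q} : π a = π b ↔ (a : G) * (b : G)⁻¹ ∈ Z := by
  rw [← mul_inv_eq_one, ← map_inv, ← map_mul, h.ker]; rfl

omit [Finite G] in
theorem Ac.h2 (h : Ac L Z π) (e : Es q Q D) (v : M) (hv : v = v⁻¹) : v = 1 := by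
  obtain ⟨a, rfl⟩ := h.surj v
  rw [← map_inv, h.eq] at hv
  exact (h.ker a).2 (e.sq a.2 (by simpa [sq] using hv))

theorem Ac.triv (h : Ac L Z π) (g : L) : (∀ v : M, g • v = v) ↔ ⁅Q, zpowers (g : G)⁆ ≤ Z := by
  constructor
  · intro e
    refine le_cz (h.nZ g.2) fun a ha => ?_
    have := (e (π ⟨a, ha⟩)).symm
    rw [h.sm, h.eq] at this
    simpa [commutatorElement_def, mul_assoc] using this
  · intro e v
    obtain ⟨a, rfl⟩ := h.surj v
    rw [h.sm, eq_comm, h.eq]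
    simpa [commutatorElement_def, mul_assoc] using
      e (Subgroup.commutator_mem_commutator a.2 (Subgroup.mem_zpowers (g : G)))

theorem Ac.plane [IsAlgClosed k] [CharP k 2] (e : Es q Q D) {l : D →* kˣ} (h : Ac L (rad Q (kerG l)) π) (hl : L ≤ stab l)
    {u : L} (hu2 : IsPGroup 2 (zpowers (u : G))) (huD : (u : G) ∈ 𝐂(D))
    (hc : (rad Q (kerG l)).relIndex (⁅Q, zpowers (u : G)⁆ ⊔ D) = q ^ 2) : Pl L (Ng (M := M) u) := by
  haveI := Fact.mk e.prime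
  haveI : Finite M := Finite.of_surjective π h.surj
  intro g h1 h2
  by_contra hn
  push Not at hn
  obtain ⟨⟨v, hv, hv1⟩, w, hw, hw1⟩ := hn
  have hr := e.rad_eq (h.nQ u.2) hu2 huD l
  set E := ⁅Q, zpowers (u : G)⁆ ⊔ D with hE
  set K := kerG l
  have hQK : Q ≤ 𝐍(K) := norm_kerG_of_cent e.cen l
  have hEQ : E ≤ Q := sup_le (comm_le_left (Subgroup.zpowers_le.2 (h.nQ u.2))) e.le
  have lift : ∀ v : M, Ng u v → ∃ a : Q, (a : G) ∈ E ∧ π a = v := fun v hv => by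
    obtain ⟨a, rfl⟩ := h.surj v
    have h3 : a ^ 2 ∈ ((E.subgroupOf Q).map π).comap π := by
      refine ⟨a * ⟨_, conj_mem_of_le_norm h.nQ u.2 a.2⟩⁻¹, (le_sup_left : _ ≤ E) ?_, ?_⟩
      · simpa [commutatorElement_def, mul_assoc] using
          Subgroup.commutator_mem_commutator a.2 (Subgroup.mem_zpowers (u : G))
      · rw [map_mul, map_inv, ← h.sm, hv, inv_inv, sq, map_mul]
    obtain ⟨n, hn⟩ := e.pg a
    exact PGrp.mem_of_pow_mem_of_coprime (a := 2) (b := q ^ n)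
      (((Nat.coprime_primes Nat.prime_two e.prime).2 e.ne.symm).pow_right n) h3
      (by rw [hn]; exact Subgroup.one_mem _)
  obtain ⟨a, haE, ha⟩ := lift (w * g • w) (hw.mul (h1 w hw))
  obtain ⟨b, hbE, hb⟩ := lift (v * (g • v)⁻¹) (hv.mul (h1 v hv).inv)
  have ga : g • π a = π a := by rw [ha, smul_mul', h2 w hw, mul_comm]
  have gb : g • π b = (π b)⁻¹ := by
    rw [hb, smul_mul', smul_inv', h2 v hv, mul_inv_rev, inv_inv]
  have a1 : π a ≠ 1 := by rw [ha]; exact fun e => hw1 (eq_inv_of_mul_eq_one_right e)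
  have b1 : π b ≠ 1 := by rw [hb]; exact fun e => hv1 (mul_inv_eq_one.1 e).symm
  have cD : ∀ x ∈ Q, ∀ y ∈ Q, ⁅x, y⁆ ∈ D := fun x hx y hy =>
    e.der (Subgroup.commutator_mem_commutator hx hy)
  have cc : ∀ x ∈ Q, ∀ d ∈ D, x * d * x⁻¹ = d := fun x hx d hd => conj_eq_of_comm (e.cen hd x hx)
  have hab : ⁅(a : G), (b : G)⁆ ∈ K := by
    have z1 := ga
    have z2 := gb
    rw [h.sm, h.eq] at z1
    rw [h.sm, ← map_inv, h.eq] at z2
    simp only [Subgroup.coe_inv] at z1 z2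
    set z := (g : G) * a * (g : G)⁻¹ * (a : G)⁻¹ with hz
    set z' := (g : G) * b * (g : G)⁻¹ * (b : G)⁻¹⁻¹ with hz'
    have zQ := rad_le _ _ z1
    have zQ' := rad_le _ _ z2
    have k1 := ((mem_rad hQK).1 z1).2 _ (Q.mul_mem zQ' (Q.inv_mem b.2))
    have k2 := K.inv_mem (((mem_rad hQK).1 z2).2 _ a.2)
    rw [← cm_swap] at k2
    have k3 := (mem_stab_iff (stab_le l (hl g.2))).1 (hl g.2) _ (cD _ a.2 _ b.2)
    have e1 : (g : G) * ⁅(a : G), (b : G)⁆ * (g : G)⁻¹ = ⁅z * a, z' * (b : G)⁻¹⁆ := by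
      rw [← cm_conj]; congr 1 <;> simp [hz, hz']
    rw [cm_mul_left, cc _ zQ _ (cD _ a.2 _ (Q.mul_mem zQ' (Q.inv_mem b.2))), cm_mul_right,
      cc _ zQ' _ (cD _ a.2 _ (Q.inv_mem b.2)), cm_swap (a : G) (b : G)⁻¹, cm_inv_left, ← cm_swap (a : G) b,
      show (b : G)⁻¹ * ⁅(a : G), (b : G)⁆ * b = (b : G)⁻¹ * ⁅(a : G), (b : G)⁆ * (b : G)⁻¹⁻¹ by simp,
      cc _ (Q.inv_mem b.2) _ (cD _ a.2 _ b.2)] at e1
    refine e.sq (e.le (cD _ a.2 _ b.2)) ?_
    have e2 : ⁅(a : G), (b : G)⁆ ^ 2 = ⁅(a : G), (b : G)⁆ * ⁅z, z' * (b : G)⁻¹⁆ * ⁅(a : G), (b : G)⁆⁻¹ *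
        (⁅⁅(a : G), (b : G)⁆, (g : G)⁆ * ⁅(a : G), z'⁆) * 1 * 1 := by
      have c1 := e.cen (cD _ a.2 _ b.2) _ (e.le (cD _ zQ _ (Q.mul_mem zQ' (Q.inv_mem b.2))))
      rw [commutatorElement_def ⁅(a : G), (b : G)⁆, show ∀ c x : G, c * x * c⁻¹ * x⁻¹ =
        c * (x * c * x⁻¹)⁻¹ by intros; group, e1, ← c1]
      generalize ⁅(a : G), (b : G)⁆ = c at *
      generalize ⁅z, z' * (b : G)⁻¹⁆ = c' at *
      rw [mul_inv_rev, mul_inv_rev, inv_inv, mul_inv_cancel_right, ← mul_assoc, ← mul_assoc, c1, sq]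
      group
    rw [e2, mul_one, mul_one]
    exact K.mul_mem (conj_mem_of_le_norm hQK (e.le (cD _ a.2 _ b.2)) k1) (K.mul_mem k3 k2)
  let A : Subgroup Q :=
    { carrier := {c | (c : G) ∈ E ∧ ⁅(a : G), (c : G)⁆ ∈ K}
      one_mem' := ⟨E.one_mem, by simp⟩
      mul_mem' := fun {c d} hc hd => ⟨E.mul_mem hc.1 hd.1, by
        rw [Subgroup.coe_mul, cm_mul_right]
        exact K.mul_mem hc.2 (conj_mem_of_le_norm hQK c.2 hd.2)⟩
      inv_mem' := fun {c} hc => ⟨E.inv_mem hc.1, by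
        rw [Subgroup.coe_inv, cm_swap, cm_inv_left, ← cm_swap]
        exact K.inv_mem (inv_conj_mem_of_le_norm hQK c.2 hc.2)⟩ }
  have hcard : Nat.card ((E.subgroupOf Q).map π) = q ^ 2 := by
    rw [← hc, ← Subgroup.relIndex_ker, ← Subgroup.relIndex_subgroupOf hEQ]
    congr 1
    ext c
    exact h.ker c
  have hAE : A.map π ≤ (E.subgroupOf Q).map π := Subgroup.map_mono fun c hc => hc.1
  have hlt : zpowers (π a) < A.map π := by
    refine lt_of_le_of_ne (Subgroup.zpowers_le.2 ⟨a, ⟨haE, by simp⟩, rfl⟩) fun e1 => b1 ?_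
    obtain ⟨i, hi⟩ : π b ∈ zpowers (π a) := e1.ge ⟨b, ⟨hbE, hab⟩, rfl⟩
    refine h.h2 e _ ?_
    rw [← gb, ← hi, smul_zpow', ga]
  obtain ⟨i, hi, ei⟩ := (Nat.dvd_prime_pow e.prime).1 (hcard ▸ Subgroup.card_dvd_of_le hAE)
  obtain ⟨j, hj, ej⟩ := (Nat.dvd_prime_pow e.prime).1 (ei ▸ Subgroup.card_dvd_of_le hlt.le)
  have hj0 : j ≠ 0 := by
    rintro rfl
    exact a1 (Subgroup.zpowers_eq_bot.1 (Subgroup.card_eq_one.1 ej))
  have hji : j ≠ i := by
    rintro rfl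
    exact hlt.ne (Subgroup.eq_of_le_of_card_ge hlt.le (by rw [ei, ej]))
  obtain rfl : i = 2 := by omega
  have e3 := Subgroup.eq_of_le_of_card_ge hAE (by rw [ei, hcard])
  refine a1 ((h.ker a).2 (hr ((mem_rad (hEQ.trans hQK)).2 ⟨haE, fun c hc => ?_⟩)))
  obtain ⟨c', hc', e4⟩ := e3.ge ⟨⟨c, hEQ hc⟩, hc, rfl⟩
  have z1 := h.eq.1 e4.symm
  have k1 := K.inv_mem (((mem_rad hQK).1 z1).2 _ a.2)
  rw [← cm_swap] at k1
  rw [show c = c * (c' : G)⁻¹ * c' by simp, cm_mul_right]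
  exact K.mul_mem k1 (conj_mem_of_le_norm hQK (rad_le _ _ z1) hc'.2)

end Cfsg.Agent.PG.Br
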