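import Mathlib
import Cfsg.Agent.PG.Br4

/-! The key lemma: exceptional elements stay exceptional on minimal sections. -/

set_option autoImplicit false
set_option linter.unusedVariables false

namespace Cfsg.Agent.PG.Br

open Module Cfsg.Agent.BG Cfsg.Agent.BG.Amb Cfsg.Agent.BG.RepGlue Cfsg.Agent.BG.RepWeight
  Cfsg.Agent.BG.RepFrob Cfsg.Agent.BG.RepExtra Cfsg.Agent.BG.RepPrime Cfsg.Agent.H23.HH
  Cfsg.Agent.PG.Tu Cfsg.Agent.PG.HHS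
open scoped commutatorElement Pointwise
open Subgroup (zpowers)

section
variable {G : Type*} [Group G] {P D L : Subgroup G}

theorem Sp.sub (h : Sp P D) (L : Subgroup G) : Sp (P.subgroupOf L) (D.subgroupOf L) :=
  ⟨fun a ha => h.le ha, fun d hd p hp => Subtype.ext (h.cen d hd p hp),
    fun d hd => Subtype.ext (h.dsq d hd), fun a ha b hb => h.der a ha b hb, fun a ha => h.sq a ha⟩

theorem Hf.sub {t : L} (h : Hf P D (t : G)) : Hf (P.subgroupOf L) (D.subgroupOf L) t :=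
  ⟨fun d hd => Subtype.ext (h.tD d hd), fun a ha => h.tP a ha, Subtype.ext h.t2⟩

theorem pw {x y : G} (hx : x ∈ 𝐍(P)) (h : y * x⁻¹ ∈ P) (m : ℕ) : y ^ m * (x ^ m)⁻¹ ∈ P := by
  induction m with
  | zero => simp
  | succ m ih =>
    rw [show y ^ (m + 1) * (x ^ (m + 1))⁻¹ = y ^ m * (x ^ m)⁻¹ * (x ^ m * (y * x⁻¹) * (x ^ m)⁻¹) by
      rw [pow_succ, pow_succ]; group]
    exact P.mul_mem ih (conj_mem_of_le_norm le_rfl (Subgroup.pow_mem _ hx m) h)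

end

variable {k G W : Type*} [Field k] [Group G] [AddCommGroup W] [Module k W]
  [IsAlgClosed k] [Finite G] [FiniteDimensional k W] {ρ : Representation k G W} [CharP k 2]

/-- An exceptional element. -/
structure El (ρ : Representation k G W) (n : ℕ) (T P D : Subgroup G) (x : G) : Prop where
  mem : x ∈ T
  pow : x ^ 2 ^ (n + 2) = 1
  h0 : (ρ x - 1) ^ (2 ^ (n + 2) - 1) = 0
  hf : Hf P D (x ^ 2 ^ (n + 1))

variable {n q : ℕ} {T P D Q E : Subgroup G} {x y : G}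

theorem El.ab (h : El ρ n T P D x) (hρ : ∀ g, ρ g = 1 → g = 1) {A : Subgroup G}
    (hk : (Nat.card A : k) ≠ 0) (hA : A ≤ 𝐂(A)) (hT : T ≤ 𝐍(A)) : x ^ 2 ^ (n + 1) ∈ 𝐂(A) := by
  haveI : Fact (Nat.Prime 2) := ⟨Nat.prime_two⟩
  by_cases e : x ^ 2 ^ (n + 1) = 1
  · rw [e]; exact Subgroup.one_mem _
  have hx : orderOf x = 2 ^ (n + 2) := orderOf_eq_prime_pow e h.pow
  refine Subgroup.zpowers_le.1 (le_cent_iff_comm_eq_bot'.2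
    ((Subgroup.eq_bot_iff_forall _).2 fun g hg => hρ g (LinearMap.ext fun v => ?_)))
  exact comm_trivial (ρ := ρ) (U := ⊤) hk (Subgroup.zpowers_le.2 (hT h.mem))
    (omega_le Nat.prime_two hx (Nat.le_add_left 1 (n + 1)))
    (fun _ _ _ _ => Submodule.mem_top) (fun a ha b hb v _ => by
      rw [← Module.End.mul_apply, ← Module.End.mul_apply, ← map_mul, ← map_mul, hA hb a ha])
    (fun v _ => by rw [nm_zpowers_char hx, h.h0, LinearMap.zero_apply]) g hg v Submodule.mem_top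

section Act

variable {l : E →* kˣ} {M : Type*} [CommGroup M] [MulDistribMulAction ↥(𝐍(Q) ⊓ stab l) M]
  {π : Q →* M}

theorem El.pl (h : El ρ n T P D x) (e : Es q Q E) (hQ : T ≤ 𝐍(Q)) (hE : T ≤ 𝐍(E))
    (hwt : wt ρ E l ≠ ⊥) (a : Ac (𝐍(Q) ⊓ stab l) (rad Q (kerG l)) π) {t : ↥(𝐍(Q) ⊓ stab l)}
    (ht : (t : G) = x ^ 2 ^ (n + 1)) (hc : (t : G) ∈ 𝐂(E)) (hv : ∃ v : M, v ≠ 1 ∧ Ng t v) :
    x ^ 2 ^ n ∈ 𝐍(Q) ⊓ stab l ∧ Pl ↥(𝐍(Q) ⊓ stab l) (Ng (M := M) t) := by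
  obtain ⟨v, h1, hv⟩ := hv
  obtain ⟨h2, h3⟩ := e.bi (hQ h.mem) (hE h.mem) h.pow h.h0 (ht ▸ hc) hwt fun h4 => h1
    (a.h2 e v (((a.triv t).2 (ht ▸ h4) v).symm.trans hv))
  refine ⟨⟨Subgroup.pow_mem _ (hQ h.mem) _, h2⟩, a.plane e inf_le_right
    (isPGroup_zpowers_iff.2 ⟨1, ?_⟩) hc (ht ▸ h3)⟩
  rw [ht, ← pow_mul, ← pow_add, h.pow]

theorem fin_ab (hP : Sp P D) (hx : El ρ n T P D x) (hy : El ρ n T P D y) (hxy : y * x⁻¹ ∈ P)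
    (hTP : T ≤ 𝐍(P)) (e : Es q Q E) (hQ : T ≤ 𝐍(Q)) (hE : T ≤ 𝐍(E)) (hPL : P ≤ 𝐍(Q) ⊓ stab l)
    (hwt : wt ρ E l ≠ ⊥) (a : Ac (𝐍(Q) ⊓ stab l) (rad Q (kerG l)) π) {t u : ↥(𝐍(Q) ⊓ stab l)}
    (ht : (t : G) = x ^ 2 ^ (n + 1)) (hu : (u : G) = y ^ 2 ^ (n + 1)) (hc : (t : G) ∈ 𝐂(E))
    (hD : ∀ d : ↥(𝐍(Q) ⊓ stab l), (d : G) ∈ D → ∀ v : M, d • v = v)
    (hv : ∃ v : M, v ≠ 1 ∧ Ng t v ∧ Ng (u * t⁻¹) v) : False := by
  obtain ⟨v, h1, hv, hN⟩ := hv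
  obtain ⟨hs, hp⟩ := hx.pl e hQ hE hwt a ht hc ⟨v, h1, hv⟩
  have hr := pw (hTP hx.mem) hxy (2 ^ n)
  obtain rfl : t = ⟨_, hs⟩ * ⟨_, hs⟩ := Subtype.ext (by rw [ht, pow_succ, pow_mul, sq]; rfl)
  obtain rfl : u = ⟨_, hPL hr⟩ * ⟨_, hs⟩ * (⟨_, hPL hr⟩ * ⟨_, hs⟩) := Subtype.ext (by
    rw [hu, pow_succ, pow_mul, sq]; simp)
  refine h1 (ab (a.h2 e) hp (fun v => ?_) (fun v => ?_) hv hN)
  · rw [← mul_smul]; exact hD _ (hP.sq _ hr) v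
  · rw [cm]
    refine hD _ ?_ _
    have := hx.hf.tP _ hr
    rw [← ht] at this
    exact this

theorem fin_nab (hP : Sp P D) (hx : El ρ n T P D x) (hy : El ρ n T P D y) (hxy : y * x⁻¹ ∈ P)
    (hTP : T ≤ 𝐍(P)) (e : Es q Q E) (hQ : T ≤ 𝐍(Q)) (hE : T ≤ 𝐍(E)) (hPL : P ≤ 𝐍(Q) ⊓ stab l)
    (hwt : wt ρ E l ≠ ⊥) (a : Ac (𝐍(Q) ⊓ stab l) (rad Q (kerG l)) π) {t u w : ↥(𝐍(Q) ⊓ stab l)}
    (ht : (t : G) = x ^ 2 ^ (n + 1)) (hu : (u : G) = y ^ 2 ^ (n + 1)) (hc : (t : G) ∈ 𝐂(E))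
    (hc' : (u : G) ∈ 𝐂(E)) (hw : (w : G) ∈ P)
    (hv : ∃ v : M, v ≠ 1 ∧ Ng t v ∧ Ng ⁅u * t⁻¹, w⁆ v ∧ Ng ⁅t, w⁆ v) : False := by
  obtain ⟨v, h1, hv, hz, hd⟩ := hv
  obtain ⟨hs, hp⟩ := hx.pl e hQ hE hwt a ht hc ⟨v, h1, hv⟩
  have hr := pw (hTP hx.mem) hxy (2 ^ n)
  exact h1 (nab (a.h2 e) (hP.sub _) (s := ⟨_, hs⟩) (r := ⟨_, hPL hr⟩)
    (Subtype.ext (by rw [ht, pow_succ, pow_mul, sq]; rfl))
    (Subtype.ext (by rw [hu, pow_succ, pow_mul, sq]; simp)) (Hf.sub (ht ▸ hx.hf))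
    (Hf.sub (hu ▸ hy.hf))
    (fun p hp => show x ^ 2 ^ n * (p : G) * (x ^ 2 ^ n)⁻¹ ∈ P from
      conj_mem_of_le_norm le_rfl (Subgroup.pow_mem _ (hTP hx.mem) (2 ^ n)) hp) hr hw hp
    (fun h => (hy.pl e hQ hE hwt a hu hc' h).2) hv hz hd)

end Act

theorem key (hs : Group.IsSolvable G) (hO : pCore 2 G = ⊥) (hρ : ∀ g, ρ g = 1 → g = 1)
    (hP : Sp P D) (hP2 : IsPGroup 2 P) (hPT : P ≤ T) (hTP : T ≤ 𝐍(P))
    (hirr : ∀ R ≤ P, T ≤ 𝐍(R) → R = P ∨ R ≤ D) (hD : D ≤ ⁅P, P⁆) (hx : El ρ n T P D x)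
    (hy : El ρ n T P D y) (hxy : y * x⁻¹ ∈ P) : y ^ 2 ^ (n + 1) * (x ^ 2 ^ (n + 1))⁻¹ ∈ D := by
  haveI : Fact (Nat.Prime 2) := ⟨Nat.prime_two⟩
  by_contra hN
  have hNP := pw (hTP hx.mem) hxy (2 ^ (n + 1))
  have hyx : x * y⁻¹ ∈ P := by simpa using P.inv_mem hxy
  have hT : P ≠ ⊥ := fun e => hN (by rw [Subgroup.mem_bot.1 (e.le hNP)]; exact D.one_mem)
  obtain ⟨q, hq, hc⟩ : ∃ q : ℕ, q.Prime ∧ ¬ piCoreOf {q} (⊤ : Subgroup G) ≤ 𝐂(P) := by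
    by_contra! hc
    have h1 := le_cent_symm (fittingOf_le_of_forall_piCoreOf fun q hq _ => hc q hq)
    exact ne_of_piCoreOf_ne_bot Nat.prime_two hO (ne_bot_mono hT (le_piCoreOf_of_le_fittingOf
      ((le_inf le_top h1).trans (cent_fittingOf_le inferInstance)) (isPGroup_iff_pi.1 hP2))) rfl
  haveI := Fact.mk hq
  have hq2 : q ≠ 2 := ne_of_piCoreOf_ne_bot (G := ⊤) hq hO fun e => hc (e.le.trans bot_le)
  obtain ⟨Q, hQH, hmin⟩ := exists_minAct (T := T)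
    (le_norm_piCoreOf_of _ Subgroup.le_normalizer_of_normal) hPT hTP
    (pi_coprime (piCoreOf_pi {q} ⊤) (pi_of_isPGroup hP2 (Ne.symm hq2)))
    (solvable_of_isPGroup (piCoreOf_isPGroup ⊤)) hc
  have hQ : IsPGroup q Q := (piCoreOf_isPGroup ⊤).to_le hQH
  have hkQ : (Nat.card Q : k) ≠ 0 := cast_card_ne_zero hq hq2 hQ
  have hTC : T ≤ 𝐍(P ⊓ 𝐂(Q)) := le_norm_inf_cent hTP hmin.norm
  have hCD : P ⊓ 𝐂(Q) ≤ D := (hirr _ inf_le_left hTC).resolve_left fun e =>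
    hmin.nle (le_cent_symm (e.ge.trans inf_le_right))
  have hna : ¬ Q ≤ 𝐂(Q) := fun e => hN (hCD ⟨hNP, Subgroup.mul_mem _ (hy.ab hρ hkQ e hmin.norm)
    (Subgroup.inv_mem _ (hx.ab hρ hkQ e hmin.norm))⟩)
  set E := Q ⊓ 𝐂(P) with hE
  have e : Es q Q E := ⟨hq, hq2, hQ, inf_le_left, hmin.der_le, hmin.D_le_cent,
    (hmin.eq_or_le inf_le_left (le_norm_inf_cent hmin.norm hmin.norm)).resolve_left fun e =>
      hna (e.ge.trans inf_le_right)⟩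
  have hkE : (Nat.card E : k) ≠ 0 := cast_card_ne_zero_of_le inf_le_left hkQ
  have hEE : E ≤ 𝐂(E) := e.cen.trans (cent_anti e.le)
  have htE := hx.ab hρ hkE hEE hmin.normD
  have huE := hy.ab hρ hkE hEE hmin.normD
  have hl : ∀ z ∈ P, z ∉ 𝐂(Q) → ∃ l : E →* kˣ, wt ρ E l ≠ ⊥ ∧ ¬ ⁅Q, zpowers z⁆ ≤ rad Q (kerG l) := by
    intro z hz hzQ
    have hzP := Subgroup.zpowers_le.2 hz
    have h1 : ¬ ⁅Q, zpowers z⁆ ≤ 𝐂(Q) := fun h1 => hzQ (Subgroup.zpowers_le.1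
      (coprime_le_cent_of_comm_le_cent (hzP.trans hmin.normQ)
        (Core.coprime_of_le_right hmin.cop hzP) (((le_inf (comm_le_left (hzP.trans hmin.normQ))
          h1).trans e.z).trans (inf_le_right.trans (cent_anti hzP)))))
    obtain ⟨g, hg, h2⟩ := SetLike.not_le_iff_exists.1 h1
    have hgQ := comm_le_left (hzP.trans hmin.normQ) hg
    obtain ⟨b, hb, h3⟩ : ∃ b ∈ Q, ⁅g, b⁆ ≠ 1 := by
      by_contra! h3
      exact h2 fun b hb => (cm_one.1 (h3 b hb)).symm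
    obtain ⟨l, h4, h5⟩ := exists_wt_of_comm (ρ := ρ) hkE hEE
      (e.der (Subgroup.commutator_mem_commutator hgQ hb)) fun h => h3 (hρ _ h)
    exact ⟨l, h5, fun h => h4 (((mem_rad (norm_kerG_of_cent e.cen l)).1 (h hg)).2 b hb)⟩
  have act : ∀ l : E →* kˣ, ∃ (M : Type _) (_ : CommGroup M)
      (_ : MulDistribMulAction ↥(𝐍(Q) ⊓ stab l) M) (π : Q →* M),
      Ac (𝐍(Q) ⊓ stab l) (rad Q (kerG l)) π := fun l => by
    have h1 : 𝐍(Q) ⊓ stab l ≤ 𝐍(rad Q (kerG l)) :=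
      le_norm_rad inf_le_left (inf_le_right.trans (stab_le_norm_kerG l))
    obtain ⟨M, _, _, π, h2, h3, h4⟩ := exists_act inf_le_left h1
      (e.der.trans (le_rad_of_cent e.le e.cen l)) (rad_le _ _)
    exact ⟨M, _, _, π, inf_le_left, h1, h2, h3, h4⟩
  have hPL : ∀ l : E →* kˣ, P ≤ 𝐍(Q) ⊓ stab l := fun l =>
    le_inf hmin.normQ ((le_cent_symm inf_le_right).trans (cent_le_stab l))
  have htL : ∀ l : E →* kˣ, x ^ 2 ^ (n + 1) ∈ 𝐍(Q) ⊓ stab l := fun l =>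
    ⟨Subgroup.pow_mem _ (hmin.norm hx.mem) _, cent_le_stab l htE⟩
  have huL : ∀ l : E →* kˣ, y ^ 2 ^ (n + 1) ∈ 𝐍(Q) ⊓ stab l := fun l =>
    ⟨Subgroup.pow_mem _ (hmin.norm hy.mem) _, cent_le_stab l huE⟩
  rcases hirr _ (rad_le P (P ⊓ 𝐂(Q))) (le_norm_rad hTP hTC) with h | h
  · have hDC : D ≤ 𝐂(Q) := (hD.trans ((le_rad_iff (hPT.trans hTC)).1 h.ge).2).trans inf_le_right
    obtain ⟨l, hwt, hn⟩ := hl _ hNP fun h => hN (hCD ⟨hNP, h⟩)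
    obtain ⟨M, _, _, π, a⟩ := act l
    have hD1 : ∀ d : ↥(𝐍(Q) ⊓ stab l), (d : G) ∈ D → ∀ v : M, d • v = v := fun d hd =>
      (a.triv d).2 (by
        rw [le_cent_iff_comm_eq_bot'.1 (Subgroup.zpowers_le.2 (hDC hd))]; exact bot_le)
    obtain ⟨t, ht⟩ : ∃ t : ↥(𝐍(Q) ⊓ stab l), (t : G) = x ^ 2 ^ (n + 1) := ⟨⟨_, htL l⟩, rfl⟩
    obtain ⟨u, hu⟩ : ∃ t : ↥(𝐍(Q) ⊓ stab l), (t : G) = y ^ 2 ^ (n + 1) := ⟨⟨_, huL l⟩, rfl⟩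
    have hf := hx.hf
    rw [← ht] at hf htE
    rw [← hu] at huE
    rw [← ht, ← hu] at hNP hn
    rcases wl_ab (M := M) (t := t) (u := u) (Subtype.ext hf.t2)
      (fun v => by rw [← mul_smul]; exact hD1 _ (hP.sq _ hNP) v)
      (fun v => by rw [cm t]; exact hD1 ⁅t, u * t⁻¹⁆ (hf.tP _ hNP) _) (by
        by_contra! h1
        exact hn ((a.triv (u * t⁻¹)).1 h1)) with h1 | h1
    · exact fin_ab hP hx hy hxy hTP e hmin.norm hmin.normD (hPL l) hwt a ht hu htE hD1 h1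
    · exact fin_ab hP hy hx hyx hTP e hmin.norm hmin.normD (hPL l) hwt a hu ht huE hD1 h1
  · obtain ⟨w, hw, h1⟩ : ∃ w ∈ P, ⁅y ^ 2 ^ (n + 1) * (x ^ 2 ^ (n + 1))⁻¹, w⁆ ∉ 𝐂(Q) := by
      by_contra! h1
      exact hN (h ((mem_rad (hPT.trans hTC)).2 ⟨hNP, fun w hw =>
        ⟨hP.le (hP.der _ hNP _ hw), h1 w hw⟩⟩))
    obtain ⟨l, hwt, hn⟩ := hl _ (hP.le (hP.der _ hNP _ hw)) h1
    obtain ⟨M, _, _, π, a⟩ := act l
    obtain ⟨t, ht⟩ : ∃ t : ↥(𝐍(Q) ⊓ stab l), (t : G) = x ^ 2 ^ (n + 1) := ⟨⟨_, htL l⟩, rfl⟩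
    obtain ⟨u, hu⟩ : ∃ t : ↥(𝐍(Q) ⊓ stab l), (t : G) = y ^ 2 ^ (n + 1) := ⟨⟨_, huL l⟩, rfl⟩
    obtain ⟨w, rfl⟩ : ∃ t : ↥(𝐍(Q) ⊓ stab l), (t : G) = w := ⟨⟨_, hPL l hw⟩, rfl⟩
    have hf := hx.hf
    have hf' := hy.hf
    rw [← ht] at hf htE
    rw [← hu] at hf' huE
    rw [← ht, ← hu] at hNP hn
    rcases wl_nab (M := M) (a.h2 e) (hP.sub _) (t := t) (u := u)
      (w := w) (Hf.sub hf) (Hf.sub hf') hNP hw (by
        by_contra! h1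
        exact hn ((a.triv ⁅u * t⁻¹, w⁆).1 h1)) with h1 | h1
    · exact fin_nab hP hx hy hxy hTP e hmin.norm hmin.normD (hPL l) hwt a ht hu htE huE hw h1
    · exact fin_nab hP hy hx hyx hTP e hmin.norm hmin.normD (hPL l) hwt a hu ht huE htE hw h1

end Cfsg.Agent.PG.Br
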