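import Mathlib
import Cfsg.Agent.PG.Br5
import Cfsg.Agent.S0205

/-! Auxiliary facts for the bound on the `2`-length. -/

set_option autoImplicit false
set_option linter.unusedVariables false

namespace Cfsg.Agent.PG.Br

open Module Cfsg.Agent.BG Cfsg.Agent.BG.Amb Cfsg.Agent.H23.HH Cfsg.Agent.PG.Tu Cfsg.Agent.PG.HHS
open scoped commutatorElement Pointwise
open Subgroup (zpowers)

universe u

theorem solv2 (j : ℕ) : ∀ {G : Type u} [Group G] [Finite G], PLengthLE 2 j G →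
    Group.IsSolvable G := by
  haveI : Fact (Nat.Prime 2) := ⟨Nat.prime_two⟩
  induction j with
  | zero =>
    intro G _ _ h
    exact S0205.result (Nat.coprime_two_right.1 (Core.pLengthLE_zero_iff.1 h))
  | succ j ih =>
    intro G _ _ h
    haveI := ih (Core.pLengthLE_succ_iff.1 h)
    haveI := S0205.result (Nat.coprime_two_right.1 (Core.pPrimeCore_coprime (G := G) 2))
    let f := (QuotientGroup.mk' (pPrimeCore 2 G)).comp (pPrimePCore 2 G).subtype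
    haveI : Group.IsSolvable f.range := solvable_of_isPGroup (p := 2) (by
      rw [MonoidHom.range_comp, Subgroup.range_subtype, Core.map_pPrimePCore_mk']
      exact Core.pCore_isPGroup 2)
    haveI : Group.IsSolvable (pPrimePCore 2 G) := solvable_of_ker_le_range
      (Subgroup.inclusion (Core.pPrimeCore_le_pPrimePCore 2)) f.rangeRestrict fun g hg =>
        ⟨⟨g, (QuotientGroup.eq_one_iff _).1 (congrArg Subtype.val hg)⟩, rfl⟩
    exact solvable_of_ker_le_range (pPrimePCore 2 G).subtype (QuotientGroup.mk' (pPrimePCore 2 G))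
      (by simp)

theorem res {G : Type u} [Group G] [Finite G] {p e : ℕ} [Fact p.Prime] (h : ¬ PLengthLE p e G) :
    ∃ K : Subgroup G, K.Normal ∧ K ≠ ⊥ ∧ ∀ (H : Type u) [Group H] [Finite H] (f : G →* H),
      PLengthLE p e H → K ≤ f.ker := by
  obtain ⟨K, ⟨hK, h1⟩, hmin⟩ := WellFounded.has_min (wellFounded_lt (α := Subgroup G))
    {K | ∃ _ : K.Normal, PLengthLE p e (G ⧸ K)} ⟨⊤, inferInstance,
      Core.PLengthLE.mono (Core.pLengthLE_zero_iff.2 (by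
        rw [← Subgroup.index, Subgroup.index_top]; exact Nat.coprime_one_left p)) (Nat.zero_le e)⟩
  refine ⟨K, hK, fun e => h ?_, fun H _ _ f hf => ?_⟩
  · subst e
    exact Core.PLengthLE.of_mulEquiv h1 QuotientGroup.quotientBot
  · by_contra hn
    refine hmin (K ⊓ f.ker) ⟨inferInstance, Core.PLengthLE.of_ker_inf h1 hf
      (QuotientGroup.lift _ (QuotientGroup.mk' K) fun g hg => (QuotientGroup.eq_one_iff _).2 hg.1)
      (QuotientGroup.lift _ f fun g hg => hg.2) ?_⟩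
      (lt_of_le_of_ne inf_le_left fun e => hn (e.ge.trans inf_le_right))
    rw [eq_bot_iff]
    rintro ⟨g⟩ ⟨h2, h3⟩
    exact (QuotientGroup.eq_one_iff g).2 ⟨(QuotientGroup.eq_one_iff g).1 h2, h3⟩

variable {G : Type*} [Group G] [Finite G] {P T Y : Subgroup G}

theorem d_le (m : MinAct P T Y) (hY : Group.IsSolvable Y) : P ⊓ 𝐂(Y) ≤ ⁅P, P⁆ := by
  have hP : P ≤ 𝐍(⁅P, P⁆) := le_norm_comm Subgroup.le_normalizer Subgroup.le_normalizer
  have hY' : Y ≤ 𝐍(⁅P, P⁆) := le_norm_comm m.normQ m.normQ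
  obtain ⟨_, f, hf⟩ := exists_sec (le_refl 𝐍(⁅P, P⁆))
  rw [← im_bot f hf (inf_le_left.trans hP), ← im_inf_cent f hP hY' m.normQ m.cop hY]
  have e : im f P = ⁅im f P, im f Y⁆ := by rw [← im_comm f hP hY', m.comm_eq]
  refine le_bot_iff.1 ((inf_le_inf_right _ e.le).trans (le_of_eq ?_))
  refine coprime_abelian_comm_inf_cent (der_eq_bot_iff.1 ?_) (im_norm f m.normQ)
    ((m.cop.coprime_dvd_left (im_card f hP)).coprime_dvd_right (im_card f hY'))
  rw [← im_comm f hP hP, im_bot f hf ((der_le P).trans hP)]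

theorem sp_of (m : MinAct P T Y) (hY : Group.IsSolvable Y) (hP : IsPGroup 2 P) :
    Sp P (P ⊓ 𝐂(Y)) := by
  have cen : ∀ d ∈ P ⊓ 𝐂(Y), ∀ p ∈ P, d * p = p * d := fun d hd p hp => (m.D_le_cent hd p hp).symm
  have der : ∀ a ∈ P, ∀ b ∈ P, ⁅a, b⁆ ∈ P ⊓ 𝐂(Y) := fun a ha b hb =>
    m.der_le (Subgroup.commutator_mem_commutator ha hb)
  have sq' : ∀ a ∈ P, a * a ∈ P ⊓ 𝐂(Y) := fun a ha => sq a ▸ mpow m Nat.prime_two hP ha
  refine ⟨inf_le_left, cen, fun d hd => ?_, der, sq'⟩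
  let A : Subgroup G :=
    { carrier := {d | d ∈ P ⊓ 𝐂(Y) ∧ d * d = 1}
      one_mem' := ⟨Subgroup.one_mem _, mul_one 1⟩
      mul_mem' := fun {a b} ha hb => ⟨Subgroup.mul_mem _ ha.1 hb.1, by
        rw [mul_assoc, ← mul_assoc b, cen b hb.1 a ha.1.1, mul_assoc, hb.2, mul_one, ha.2]⟩
      inv_mem' := fun {a} ha => ⟨Subgroup.inv_mem _ ha.1, by rw [← mul_inv_rev, ha.2, inv_one]⟩ }
  refine ((d_le m hY).trans (Subgroup.commutator_le.2 fun a ha b hb => show _ ∈ A from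
    ⟨der a ha b hb, ?_⟩) hd).2
  have := cm_mul_left a a b
  rw [cm_one.2 (cen _ (sq' a ha) b hb), conj_eq_of_comm (cen _ (der a ha b hb) a ha).symm] at this
  exact this.symm

theorem comm_le_D (m : MinAct P T Y) (hP : IsPGroup 2 P) {S : Subgroup G} (hS : IsPGroup 2 S)
    (hSP : S ≤ 𝐍(P)) (hT : T ≤ 𝐍(S)) : ⁅P, S⁆ ≤ P ⊓ 𝐂(Y) :=
  haveI : Fact (Nat.Prime 2) := ⟨Nat.prime_two⟩
  m.le_D (Core.commutator_lt_of_isPGroup hP hS hSP m.ne_bot) (le_norm_comm m.norm hT)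

theorem hf_of (m : MinAct P T Y) (hY : Group.IsSolvable Y) {t : G} (ht : t * t = 1)
    (h : ⁅P, zpowers t⁆ ≤ P ⊓ 𝐂(Y)) : Hf P (P ⊓ 𝐂(Y)) t := by
  refine ⟨fun d hd => ?_, fun p hp => ?_, ht⟩
  · exact (d_le m hY).trans (Core.three_subgroups (h.trans m.D_le_cent) (h.trans m.D_le_cent)) hd
      t (Subgroup.mem_zpowers t)
  · rw [cm_swap]
    exact Subgroup.inv_mem _ (h (Subgroup.commutator_mem_commutator hp (Subgroup.mem_zpowers t)))

theorem core_act {T₀ : Subgroup G} (h0 : Core.IsSylowOf 2 T₀ (pPrimePCore 2 G))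
    (m : MinAct P T Y) (hP : P ≤ T₀) (hT : T ≤ 𝐍(T₀)) {g : G} (hg : g ∈ pPrimePCore 2 G)
    (hgT : g ∈ 𝐍(T₀)) (hgP : g ∈ 𝐍(P)) : ⁅P, zpowers g⁆ ≤ P ⊓ 𝐂(Y) := by
  haveI : Fact (Nat.Prime 2) := ⟨Nat.prime_two⟩
  rw [← Core.pPrimeCore_sup_eq_pPrimePCore h0, Subgroup.mem_sup_of_normal_left] at hg
  obtain ⟨c, hc, a, ha, rfl⟩ := hg
  have hcT : c ∈ 𝐍(T₀) := by
    simpa using Subgroup.mul_mem _ hgT (Subgroup.inv_mem _ (Subgroup.le_normalizer ha))
  have hcc : c ∈ 𝐂(T₀) := fun b hb => cm_one.1 (by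
    have h1 : ⁅b, c⁆ ∈ T₀ ⊓ pPrimeCore 2 G := ⟨comm_le_left (Subgroup.zpowers_le.2 hcT)
      (Subgroup.commutator_mem_commutator hb (Subgroup.mem_zpowers c)),
      Subgroup.commutator_le_right ⊤ _ (Subgroup.commutator_mem_commutator trivial hc)⟩
    obtain ⟨i, hi⟩ := IsPGroup.iff_card.1 h0.isPGroup
    rwa [Subgroup.inf_eq_bot_of_coprime (by
      rw [hi]; exact (Core.pPrimeCore_coprime 2).symm.pow_left i), Subgroup.mem_bot] at h1)
  have haP : a ∈ 𝐍(P) := by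
    simpa using Subgroup.mul_mem _ (Subgroup.inv_mem _ (cent_le_norm P (cent_anti hP hcc))) hgP
  have h1 := comm_le_D m (h0.isPGroup.to_le hP) (S := T₀ ⊓ 𝐍(P)) (h0.isPGroup.to_le inf_le_left)
    inf_le_right (le_norm_inf hT (m.norm.trans Subgroup.le_normalizer))
  have hPD : 𝐍(P) ⊓ 𝐂(P ⊓ 𝐂(Y)) ≤ 𝐍(P ⊓ 𝐂(Y)) := inf_le_right.trans (cent_le_norm _)
  refine Subgroup.commutator_le.2 fun b hb z hz => ?_
  have h2 : zpowers (c * a) ≤ (T₀ ⊓ 𝐍(P)) ⊔ zpowers c := Subgroup.zpowers_le.2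
    (Subgroup.mul_mem _ (Subgroup.mem_sup_right (Subgroup.mem_zpowers c))
      (Subgroup.mem_sup_left ⟨ha, haP⟩))
  obtain ⟨y, hy, d, hd, rfl⟩ := (Core.mem_sup_of_le_normalizer (le_norm_of_le_cent
    (Subgroup.zpowers_le.2 (cent_anti inf_le_left hcc)))).1 (h2 hz)
  rw [cm_mul_right, cm_one.2 (Subgroup.zpowers_le.2 (cent_anti hP hcc) hd b hb), mul_one,
    mul_inv_cancel, mul_one]
  exact h1 (Subgroup.commutator_mem_commutator hb hy)

end Cfsg.Agent.PG.Br
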