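import Mathlib
import Cfsg.Agent.PG.Br6

/-! The bound on the `2`-length by the exponent. -/

set_option autoImplicit false
set_option linter.unusedVariables false

namespace Cfsg.Agent.PG.Br

open Module Cfsg.Agent.BG Cfsg.Agent.BG.Amb Cfsg.Agent.H23.HH Cfsg.Agent.PG.Tu Cfsg.Agent.PG.HHS
open scoped commutatorElement Pointwise
open Subgroup (zpowers)

universe u

theorem core_bot {X : Type*} [Group X] [Finite X] {V : Subgroup X} [V.Normal] (hV : IsPGroup 2 V)
    (hirr : ∀ N ≤ V, N.Normal → N = ⊥ ∨ N = V) : pCore 2 (X ⧸ 𝐂(V)) = ⊥ := by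
  haveI : Fact (Nat.Prime 2) := ⟨Nat.prime_two⟩
  let π := QuotientGroup.mk' 𝐂(V)
  have hπ : Function.Surjective π := QuotientGroup.mk'_surjective _
  obtain ⟨S, hS⟩ := Core.exists_isSylowOf 2 ((pCore 2 (X ⧸ 𝐂(V))).comap π)
  have h1 := hS.map π
  rw [Subgroup.map_comap_eq_self_of_surjective hπ] at h1
  have h2 := h1.eq_of_le (Core.pCore_isPGroup 2) le_rfl h1.le
  have h3 : (pCore 2 (X ⧸ 𝐂(V))).comap π = S ⊔ 𝐂(V) := by
    rw [← h2, Subgroup.comap_map_eq, QuotientGroup.ker_mk']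
  have h4 : ⁅V, (pCore 2 (X ⧸ 𝐂(V))).comap π⁆ ≤ ⁅V, S⁆ := by
    rw [h3]
    refine comm_sup_right_le (sup_le (le_norm_comm Subgroup.le_normalizer_of_normal
      Subgroup.le_normalizer) (le_norm_of_le_cent (cent_anti (Subgroup.commutator_le_left _ _))))
      le_rfl ?_
    rw [le_cent_iff_comm_eq_bot'.1 le_rfl]; exact bot_le
  have h5 : ⁅V, (pCore 2 (X ⧸ 𝐂(V))).comap π⁆ = ⊥ := by
    by_cases h0 : V = ⊥
    · exact le_bot_iff.1 ((Subgroup.commutator_le_left _ _).trans h0.le)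
    exact (hirr _ (Subgroup.commutator_le_left _ _) inferInstance).resolve_right
      (h4.trans_lt (Core.commutator_lt_of_isPGroup hV hS.isPGroup
        Subgroup.le_normalizer_of_normal h0)).ne
  rw [← Subgroup.map_comap_eq_self_of_surjective hπ (pCore 2 _), Subgroup.map_eq_bot_iff,
    QuotientGroup.ker_mk']
  exact le_cent_iff_comm_eq_bot'.2 h5

theorem setup {G : Type u} [Group G] [Finite G] (hs : Group.IsSolvable G)
    {N T₀ : Subgroup G} {p : ℕ} [Fact p.Prime] (h0 : Core.IsSylowOf 2 T₀ (pPrimePCore 2 G))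
    {N : Subgroup (G ⧸ pPrimePCore 2 G)} [N.Normal] (hN : IsPGroup p N) :
    ∃ T Y : Subgroup G, IsPGroup p Y ∧ Y ≤ T ∧ T ≤ 𝐍(Y) ∧ T ≤ 𝐍(T₀) ∧
      Y.map (QuotientGroup.mk' _) = N ∧ T.map (QuotientGroup.mk' (pPrimePCore 2 G)) = ⊤ := by
  haveI : Fact (Nat.Prime 2) := ⟨Nat.prime_two⟩
  let π := QuotientGroup.mk' (pPrimePCore 2 G)
  have hsur : (𝐍(T₀)).map π = ⊤ := by
    rw [← Core.map_mk'_sup_left, h0.frattini_top]
    exact Subgroup.map_top_of_surjective _ (QuotientGroup.mk'_surjective _)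
  have hL : (N.comap π ⊓ 𝐍(T₀)).map π = N := by
    refine le_antisymm (Subgroup.map_le_iff_le_comap.2 inf_le_left) fun g hg => ?_
    obtain ⟨a, ha, rfl⟩ := hsur.ge (Subgroup.mem_top g)
    exact ⟨a, ⟨hg, ha⟩, rfl⟩
  obtain ⟨Y, hY⟩ := Core.exists_isSylowOf p (N.comap π ⊓ 𝐍(T₀))
  have h1 := hY.map π
  rw [hL] at h1
  have h2 := h1.eq_of_le hN le_rfl h1.le
  have h3 : Y ≤ 𝐍(T₀) ⊓ 𝐍(Y) := le_inf (hY.le.trans inf_le_right) Subgroup.le_normalizer
  refine ⟨𝐍(T₀) ⊓ 𝐍(Y), Y, hY.isPGroup, h3, inf_le_right, inf_le_left, h2, ?_⟩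
  rw [← hsur]
  conv_rhs => rw [← hY.frattini inf_le_right (le_norm_inf Subgroup.le_normalizer_of_normal
    Subgroup.le_normalizer), Subgroup.map_sup, hL, ← h2]
  exact (sup_eq_right.2 (Subgroup.map_mono h3)).symm

theorem claim (e : ℕ) : ∀ {G : Type u} [Group G] [Finite G] {m : ℕ}
    (ρ : Representation (AlgebraicClosure (ZMod 2)) G (Fin m → AlgebraicClosure (ZMod 2))),
    Group.IsSolvable G → pCore 2 G = ⊥ → (∀ g, ρ g = 1 → g = 1) → PExp 2 (e + 1) G →
    (∀ x, IsPGroup 2 (zpowers x) → (ρ x - 1) ^ (2 ^ (e + 1) - 1) = 0) → PLengthLE 2 e G := by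
  haveI : Fact (Nat.Prime 2) := ⟨Nat.prime_two⟩
  induction e with
  | zero =>
    intro G _ _ m ρ hs hO hρ he h0
    exact Core.pLengthLE_zero_iff.2 (PExp.coprime fun y hy => (pow_one _).trans
      (hρ _ (sub_eq_zero.1 ((pow_one _).symm.trans (h0 y hy)))))
  | succ e ih =>
    intro G _ _ m ρ hs hO hρ he h0
    rw [Core.pLengthLE_succ_iff]
    by_contra hn
    have hΓ := Gross.star hs hO hρ he h0
    obtain ⟨K, hK, hK0, hKf⟩ := res hn
    obtain ⟨N, p, hN, hN0, hNK, hp, hel, -⟩ :=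
      Core.exists_minimal_normal_elementary_le K inferInstance hK0
    haveI := Fact.mk hp
    have hNp : IsPGroup p N := fun g => ⟨1, Subtype.ext (by simpa using hel.2 g g.2)⟩
    have hp2 : p ≠ 2 := by
      rintro rfl
      exact hN0 (le_bot_iff.1 ((Core.le_pCore hN hNp).trans (Core.pCore_quotient_pPrimePCore 2).le))
    obtain ⟨T₀, hT₀⟩ := Core.exists_isSylowOf 2 (pPrimePCore 2 G)
    obtain ⟨T, Y, hY, hYT, hTY, hTT, hYN, hT⟩ := setup (N := ⊥) hs hT₀ hNp
    set π := QuotientGroup.mk' (pPrimePCore 2 G) with hπ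
    obtain ⟨P, hPT, hm⟩ := exists_minAct hTT hYT hTY
      (IsPGroup.coprime_card_of_ne 2 p hp2.symm _ _ hT₀.isPGroup hY)
      (solvable_of_isPGroup hT₀.isPGroup) fun h => hN0 (by
        rw [← hYN, Subgroup.map_eq_bot_iff, hπ, QuotientGroup.ker_mk']
        exact (le_cent_symm h).trans
          (Core.IsPConstrained.centralizer_le (Core.isPConstrained_of_solvable 2 hs) hT₀))
    have hP : IsPGroup 2 P := hT₀.isPGroup.to_le hPT
    have hYs := solvable_of_isPGroup hY
    have sp := sp_of hm hYs hP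
    set D := P ⊓ 𝐂(Y) with hD
    obtain ⟨L, hL⟩ : ∃ L : Subgroup G, L = T ⊔ P := ⟨_, rfl⟩
    have hTL : T ≤ L := hL ▸ le_sup_left
    have hPL : P ≤ L := hL ▸ le_sup_right
    have hLP : L ≤ 𝐍(P) := hL ▸ sup_le hm.norm Subgroup.le_normalizer
    have hLD : L ≤ 𝐍(D) := hL ▸ sup_le hm.normD (le_norm_of_le_cent (le_cent_symm hm.D_le_cent))
    have hLT : L ≤ 𝐍(T₀) := hL ▸ sup_le hTT (hPT.trans Subgroup.le_normalizer)
    have hact : ∀ g ∈ L, π g = 1 → ⁅P, zpowers g⁆ ≤ D := fun g hg h =>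
      core_act hT₀ hm hPT hTT ((QuotientGroup.eq_one_iff g).1 h) (hLT hg) (hLP hg)
    have hpw : ∀ x, IsPGroup 2 (zpowers x) → π (x ^ 2 ^ (e + 1)) = 1 := fun x hx => by
      rw [map_pow]; exact hΓ _ (MonoidHom.map_zpowers π x ▸ hx.map π)
    have hel : ∀ x ∈ L, IsPGroup 2 (zpowers x) → El ρ e L P D x := fun x hx h2 =>
      ⟨hx, he x h2, h0 x h2, hf_of hm hYs (by rw [← sq, ← pow_mul, ← pow_succ]; exact he x h2)
        (hact _ (L.pow_mem hx _) (hpw x h2))⟩
    haveI := Subgroup.normal_subgroupOf_of_le_normalizer hLD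
    let f := QuotientGroup.mk' (D.subgroupOf L)
    have hf : ∀ g : L, f g = 1 ↔ (g : G) ∈ D := fun g => QuotientGroup.eq_one_iff g
    have hfs : Function.Surjective f := QuotientGroup.mk'_surjective _
    haveI := Subgroup.normal_subgroupOf_of_le_normalizer hLP
    haveI : (im f P).Normal := Subgroup.Normal.map inferInstance f hfs
    have hV : IsElementaryAbelian 2 (im f P) := by
      refine ⟨der_eq_bot_iff.1 ?_, ?_⟩
      · rw [← im_comm f hPL hPL, im_bot f hf ((der_le P).trans hPL)]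
        exact hm.der_le
      · rintro _ ⟨x, hx, rfl⟩
        rw [← map_pow, hf]
        exact mpow hm Nat.prime_two hP hx
    obtain ⟨n, σ, ι, hl⟩ := exists_lin hV (AlgebraicClosure (ZMod 2))
    let φ := (QuotientGroup.mk' 𝐂(im f P)).comp f
    have hφs : Function.Surjective φ := (QuotientGroup.mk'_surjective _).comp hfs
    have hφ : ∀ g : L, φ g = 1 ↔ ⁅P, zpowers (g : G)⁆ ≤ D := fun g => by
      have hz := Subgroup.zpowers_le.2 g.2
      rw [← im_bot f hf (comm_le_of_le hPL hz), im_comm f hPL hz, im_zp,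
        ← le_cent_iff_comm_eq_bot', Subgroup.zpowers_le]
      exact QuotientGroup.eq_one_iff _
    have h2 : ∀ x : L, IsPGroup 2 (zpowers x) → IsPGroup 2 (zpowers (x : G)) := fun x hx =>
      MonoidHom.map_zpowers L.subtype x ▸ hx.map _
    have h1 := ih (G := (L ⧸ D.subgroupOf L) ⧸ 𝐂(im f P))
      (QuotientGroup.lift _ σ fun g hg => hl.eq_one_iff.2 hg) inferInstance
      (core_bot (im_pg f hP) fun A hA hAn => by
        rw [← im_pre_inf f hA]
        rcases hm.eq_or_le (N := pre f A ⊓ P) inf_le_right (le_norm_inf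
          (norm_pre f hTL Subgroup.le_normalizer_of_normal) hm.norm) with h | h
        · exact .inr (by rw [h])
        · exact .inl ((im_bot f hf (inf_le_right.trans hPL)).2 h))
      (by
        rintro ⟨g⟩ hg
        exact (QuotientGroup.eq_one_iff g).2 (hl.eq_one_iff.1 hg))
      (fun y hy => by
        obtain ⟨x, hx, rfl⟩ := exists_lift_pElem hφs hy
        rw [← map_pow, hφ]
        exact hact _ (L.pow_mem x.2 _) (hpw _ (h2 x hx)))
      (fun y hy => by
        obtain ⟨x, hx, rfl⟩ := exists_lift_pElem hφs hy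
        refine hl.span _ ?_
        rintro _ ⟨w, hw, rfl⟩
        have h3 := (hl.mul_pow (f x) (mem_im f hw) (2 ^ (e + 1))).2
        have h4 : IsPGroup 2 (zpowers ((w : G) * x)) :=
          (IsPGroup.to_sup_of_normal_left' hP (h2 x hx) (Subgroup.zpowers_le.2 (hLP x.2))).to_le
            (Subgroup.zpowers_le.2 (Subgroup.mul_mem_sup hw (Subgroup.mem_zpowers _)))
        have h5 := key hs hO hρ sp hP hPL hLP (fun R hR hn => hm.eq_or_le hR (hTL.trans hn))
          (d_le hm hYs) (hel _ x.2 (h2 x hx)) (hel _ (L.mul_mem w.2 x.2) h4) (by rw [mul_inv_cancel_right]; exact hw)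
        rw [← map_mul, ← map_pow, ← map_pow, ← map_inv, ← map_mul, (hf _).2 h5, hl.one,
          H23.HH.sum_pow_char, eq_comm] at h3
        exact h3)
    have hsur : Function.Surjective (π.comp L.subtype) := by
      rw [← MonoidHom.range_eq_top, MonoidHom.range_comp, Subgroup.range_subtype, eq_top_iff, ← hT]
      exact Subgroup.map_mono hTL
    have h6 := hKf _ ((π.comp L.subtype).liftOfSurjective hsur
      ⟨φ, fun g hg => (hφ g).2 (hact _ g.2 hg)⟩) h1
    refine hm.D_lt.not_ge (hm.comm_eq.ge.trans (Subgroup.commutator_le.2 fun a ha y hy => ?_))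
    have h7 := h6 (hNK (hYN.le ⟨y, hy, rfl⟩))
    rw [MonoidHom.mem_ker, show π y = π.comp L.subtype ⟨y, hTL (hYT hy)⟩ from rfl,
      MonoidHom.liftOfRightInverse_comp_apply] at h7
    exact (hφ _).1 h7 (Subgroup.commutator_mem_commutator ha (Subgroup.mem_zpowers y))

theorem main {G : Type u} [Group G] [Finite G] (hs : Group.IsSolvable G) {e : ℕ}
    (he : PExp 2 e G) : PLengthLE 2 e G := by
  haveI : Fact (Nat.Prime 2) := ⟨Nat.prime_two⟩
  rcases e with _ | e
  · exact Core.pLengthLE_zero_iff.2 he.coprime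
  obtain ⟨G', _, _, π, hπ, hr, hc⟩ := exists_red (p := 2) (Core.isPSolvable_of_solvable 2 hs)
  have he' := he.of_surj hπ
  haveI : Group.IsSolvable G' := solvable_of_surjective hπ
  obtain ⟨n, ρ, ι, hl, hf⟩ := hr.exists_lin
  have hker := QuotientGroup.ker_mk' (pCore 2 G')
  refine plength_succ_of_red hπ hc (claim e ρ inferInstance (Core.pCore_quotient_pCore 2) hf
    (he'.of_surj (QuotientGroup.mk'_surjective _)) fun y hy => ?_)
  obtain ⟨y, rfl⟩ := QuotientGroup.mk'_surjective _ y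
  exact Lin.pow_eq_zero (by rwa [hker]) (by rw [hker]; exact Core.pCore_isPGroup 2) he' hy

end Cfsg.Agent.PG.Br
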