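import Mathlib
import Cfsg.Agent.PG.Br7
import Cfsg.Agent.H23.PL4

/-! Augmentation chains and weight orbits. -/

set_option autoImplicit false
set_option linter.unusedVariables false

namespace Cfsg.Agent.PG.Dl

open Module Cfsg.Agent.BG Cfsg.Agent.BG.Amb Cfsg.Agent.BG.RepGlue Cfsg.Agent.BG.RepWeight
  Cfsg.Agent.BG.RepFrob Cfsg.Agent.BG.RepExtra Cfsg.Agent.BG.RepPrime Cfsg.Agent.H23.HH
  Cfsg.Agent.PG.Tu Cfsg.Agent.PG.HHS Cfsg.Agent.PG.Br
open scoped commutatorElement Pointwise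
open Subgroup (zpowers)

variable {k G W : Type*} [Field k] [Group G] [AddCommGroup W] [Module k W]
  {ρ : Representation k G W}

/-- The product of the augmentation ideal with a subspace. -/
def au (ρ : Representation k G W) (A : Subgroup G) (U : Submodule k W) : Submodule k W :=
  Submodule.span k {w | ∃ a ∈ A, ∃ v ∈ U, w = v - ρ a v}

theorem mem_au {A : Subgroup G} {U : Submodule k W} {a : G} {v : W} (ha : a ∈ A) (hv : v ∈ U) :
    v - ρ a v ∈ au ρ A U := Submodule.subset_span ⟨a, ha, v, hv, rfl⟩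

theorem au_mono {A B : Subgroup G} {U U' : Submodule k W} (h : A ≤ B) (h' : U ≤ U') :
    au ρ A U ≤ au ρ B U' :=
  Submodule.span_mono fun _ ⟨a, ha, v, hv, e⟩ => ⟨a, h ha, v, h' hv, e⟩

theorem au_inv {A : Subgroup G} {U : Submodule k W} {g : G} (hg : g ∈ 𝐍(A))
    (hU : ∀ v ∈ U, ρ g v ∈ U) : ∀ v ∈ au ρ A U, ρ g v ∈ au ρ A U := by
  intro v hv
  refine Submodule.span_le (p := (au ρ A U).comap (ρ g)).2 ?_ hv
  rintro _ ⟨a, ha, v, hv, rfl⟩
  have := mem_au (ρ := ρ) (conj_mem_of_le_norm le_rfl hg ha) (hU v hv)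
  simpa [map_mul] using this

theorem au_le {A : Subgroup G} {U : Submodule k W} (hU : ∀ g ∈ A, ∀ v ∈ U, ρ g v ∈ U) :
    au ρ A U ≤ U := Submodule.span_le.2 (by
  rintro _ ⟨a, ha, v, hv, rfl⟩
  exact U.sub_mem hv (hU a ha v hv))

theorem sq_mem [CharP k 2] {A B : Subgroup G} {U : Submodule k W} {c : G} {v : W} (ha : c ∈ A)
    (hb : c ∈ B) (hv : v ∈ U) : v - ρ (c * c) v ∈ au ρ A (au ρ B U) := by
  have h := mem_au (ρ := ρ) ha (mem_au (ρ := ρ) hb hv)
  have h2 : ∀ x : W, x + x = 0 := fun x => by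
    rw [← two_smul k, show (2 : k) = 0 from CharP.cast_eq_zero k 2, zero_smul]
  convert h using 1
  rw [map_mul, Module.End.mul_apply, map_sub]
  have e1 := h2 (ρ c v)
  have e2 := h2 (ρ c (ρ c v))
  rw [show v - ρ c v - (ρ c v - ρ c (ρ c v)) = v - ρ c (ρ c v) - (ρ c v + ρ c v) +
    (ρ c (ρ c v) + ρ c (ρ c v)) by abel, e1, e2, sub_zero, add_zero]

/-- The chain along the derived series, starting at level `j`. -/
def ch (ρ : Representation k G W) (S : Subgroup G) (j : ℕ) (U : Submodule k W) :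
    ℕ → Submodule k W
  | 0 => U
  | n + 1 => au ρ (dser S (j + n)) (ch ρ S j U n)

theorem ch_add (S : Subgroup G) (j : ℕ) (U : Submodule k W) (m n : ℕ) :
    ch ρ S j U (m + n) = ch ρ S (j + m) (ch ρ S j U m) n := by
  induction n with
  | zero => rfl
  | succ n ih => rw [← add_assoc, ch, ch, ih, add_assoc]

theorem ch_mono (S : Subgroup G) (j : ℕ) {U U' : Submodule k W} (h : U ≤ U') (n : ℕ) :
    ch ρ S j U n ≤ ch ρ S j U' n := by
  induction n with
  | zero => exact h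
  | succ n ih => exact au_mono le_rfl ih

theorem it_le_ch {S F : Subgroup G} {j : ℕ} (U : Submodule k W) (n : ℕ)
    (h : ∀ i < n, F ≤ dser S (j + i)) : (au ρ F)^[n] U ≤ ch ρ S j U n := by
  induction n with
  | zero => exact le_rfl
  | succ n ih =>
    rw [Function.iterate_succ_apply']
    exact au_mono (h n (Nat.lt_succ_self n)) (ih fun i hi => h i (by omega))

theorem it_inv {F : Subgroup G} {U : Submodule k W} {g : G} (hg : g ∈ 𝐍(F))
    (hU : ∀ v ∈ U, ρ g v ∈ U) (n : ℕ) : ∀ v ∈ (au ρ F)^[n] U, ρ g v ∈ (au ρ F)^[n] U := by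
  induction n with
  | zero => exact hU
  | succ n ih => rw [Function.iterate_succ_apply']; exact au_inv hg ih

theorem it_le {F : Subgroup G} {U : Submodule k W} (hU : ∀ g ∈ F, ∀ v ∈ U, ρ g v ∈ U) (n : ℕ) :
    (au ρ F)^[n] U ≤ U := by
  induction n with
  | zero => exact le_rfl
  | succ n ih =>
    rw [Function.iterate_succ_apply']
    exact (au_le fun g hg => it_inv (Subgroup.le_normalizer hg) (hU g hg) n).trans ih

variable {X : Subgroup G}

/-- The sum of the weight spaces outside the orbit. -/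
def Yo (ρ : Representation k G W) (μ : X →* kˣ) (A : Subgroup G) : Submodule k W :=
  Submodule.span k {w | ∃ ψ : X →* kˣ, (∀ a : 𝐍(X), (a : G) ∈ A → ψ ≠ cchar a μ) ∧ w ∈ wt ρ X ψ}

theorem Yo_anti (μ : X →* kˣ) {A B : Subgroup G} (h : A ≤ B) : Yo ρ μ B ≤ Yo ρ μ A :=
  Submodule.span_mono fun _ ⟨ψ, h1, h2⟩ => ⟨ψ, fun a ha => h1 a (h ha), h2⟩

theorem Yo_inv (μ : X →* kˣ) {A : Subgroup G} {a : G} (ha : a ∈ A) (hX : a ∈ 𝐍(X)) :
    ∀ v ∈ Yo ρ μ A, ρ a v ∈ Yo ρ μ A := by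
  intro v hv
  refine Submodule.span_le (p := (Yo ρ μ A).comap (ρ a)).2 ?_ hv
  rintro w ⟨ψ, h1, h2⟩
  refine Submodule.subset_span ⟨_, fun b hb e => ?_, apply_mem_wt ⟨a, hX⟩ h2⟩
  refine h1 (⟨a, hX⟩⁻¹ * b) (A.mul_mem (A.inv_mem ha) hb) ?_
  rw [cchar_mul, ← e, cchar_inv_cchar]

theorem Yo_zero [Finite G] (hX : (Nat.card X : k) ≠ 0) {μ : X →* kˣ} {A : Subgroup G} {v : W}
    (hv : v ∈ wt ρ X μ) (h : v ∈ Yo ρ μ A) : v = 0 := by
  obtain ⟨e, h1, h2⟩ := exists_proj ρ hX μ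
  rw [← h1 v hv]
  refine Submodule.span_le (p := LinearMap.ker e).2 ?_ h
  rintro w ⟨ψ, h3, h4⟩
  exact h2 ψ (by simpa [cchar_one] using h3 1 A.one_mem) w h4

theorem orb_step {μ : X →* kˣ} {A A' : Subgroup G} (h : A' ≤ A) {a : G} (ha : a ∈ A)
    (hX : a ∈ 𝐍(X)) (hm : ∀ b ∈ A', b⁻¹ * a ∉ stab μ) {v w : W} (hv : v ∈ wt ρ X μ)
    (hw : w - v ∈ Yo ρ μ A) : w - ρ a w - v ∈ Yo ρ μ A' := by
  rw [show w - ρ a w - v = (w - v) - ρ a (w - v) - ρ a v by rw [map_sub]; abel]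
  refine Submodule.sub_mem _ (Yo_anti μ h (Submodule.sub_mem _ hw (Yo_inv μ ha hX _ hw)))
    (Submodule.subset_span ⟨_, fun b hb e => hm b hb ?_, apply_mem_wt ⟨a, hX⟩ hv⟩)
  refine ⟨Subgroup.mul_mem _ (Subgroup.inv_mem _ b.2) hX, ?_⟩
  change cchar (b⁻¹ * ⟨a, hX⟩) μ = μ
  rw [cchar_mul, e, cchar_inv_cchar]

theorem dser_norm (S : Subgroup G) (i : ℕ) : S ≤ 𝐍(dser S i) := le_norm_dser Subgroup.le_normalizer i

theorem le_of_sup_der [Finite G] {K H : Subgroup G} (hK : IsPGroup 2 K) (hH : H ≤ K)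
    (h : K ≤ H ⊔ ⁅K, K⁆) : K ≤ H := by
  haveI : Fact (Nat.Prime 2) := ⟨Nat.prime_two⟩
  have h1 : H.subgroupOf K ⊔ frattini K = ⊤ := by
    apply Subgroup.map_injective K.subtype_injective
    rw [Subgroup.map_sup, Subgroup.map_subgroupOf_eq_of_le hH, ← MonoidHom.range_eq_map,
      Subgroup.range_subtype]
    exact le_antisymm (sup_le hH (Subgroup.map_subtype_le _))
      (h.trans (sup_le_sup_left (PGrp.commutator_le_map_frattini hK) _))
  exact Subgroup.subgroupOf_eq_top.1 (frattini_nongenerating h1)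

/-- Reduction to the stabilizer of a weight. -/
theorem stage0 [Finite G] (hX : (Nat.card X : k) ≠ 0) {S : Subgroup G} (h2S : IsPGroup 2 S)
    (hS : S ≤ 𝐍(X))
    (μ : X →* kˣ) {j n : ℕ} (hj : ∀ i < j, ¬ dser S i ≤ stab μ) (hn : n = 0 ∨ dser S j ≤ stab μ)
    (h : ch ρ S 0 ⊤ (j + n) = ⊥) : ch ρ S j (wt ρ X μ) n = ⊥ := by
  have h1 : ∀ i ≤ j, ∀ v ∈ wt ρ X μ, ∃ w ∈ ch ρ S 0 ⊤ i, w - v ∈ Yo ρ μ (dser S i) := by
    intro i
    induction i with
    | zero => exact fun _ v _ => ⟨v, trivial, by simp⟩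
    | succ i ih =>
      intro hi v hv
      obtain ⟨w, hw, h2⟩ := ih (by omega) v hv
      obtain ⟨a, ha, h3⟩ : ∃ a ∈ dser S i, ∀ b ∈ dser S (i + 1), b⁻¹ * a ∉ stab μ := by
        by_contra! hc
        refine hj i (by omega) ((le_of_sup_der (H := dser S i ⊓ stab μ) (h2S.to_le (dser_le S i))
          inf_le_left fun a ha => ?_).trans inf_le_right)
        obtain ⟨b, hb, h3⟩ := hc a ha
        rw [show a = b * (b⁻¹ * a) by simp]
        exact Subgroup.mul_mem _ (Subgroup.mem_sup_right (dser_succ S i ▸ hb))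
          (Subgroup.mem_sup_left ⟨Subgroup.mul_mem _ (Subgroup.inv_mem _
            (dser_anti S (Nat.le_succ i) hb)) ha, h3⟩)
      exact ⟨_, mem_au (by simpa using ha) hw, orb_step (dser_anti S (Nat.le_succ i)) ha
        (hS (dser_le S i ha)) h3 hv h2⟩
  rcases hn with rfl | hn
  · rw [eq_bot_iff]
    intro v hv
    obtain ⟨w, hw, h2⟩ := h1 j le_rfl v hv
    rw [add_zero] at h
    rw [h, Submodule.mem_bot] at hw
    rw [hw, zero_sub, neg_mem_iff] at h2
    exact Yo_zero hX hv h2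
  have h2 : ∀ m, ∀ v ∈ ch ρ S j (wt ρ X μ) m, v ∈ wt ρ X μ ∧
      ∃ w ∈ ch ρ S 0 ⊤ (j + m), w - v ∈ Yo ρ μ (dser S j) := by
    intro m
    induction m with
    | zero => exact fun v hv => ⟨hv, h1 j le_rfl v hv⟩
    | succ m ih =>
      intro v hv
      induction hv using Submodule.span_induction with
      | mem x hx =>
        obtain ⟨a, ha, v, hv, rfl⟩ := hx
        obtain ⟨h3, w, hw, h4⟩ := ih v hv
        have ha' := dser_anti S (Nat.le_add_right j m) ha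
        refine ⟨Submodule.sub_mem _ h3 (apply_mem_wt_of_stab (hn ha') h3), _,
          mem_au (a := a) (by simpa using ha) hw, ?_⟩
        rw [show w - ρ a w - (v - ρ a v) = (w - v) - ρ a (w - v) by rw [map_sub]; abel]
        exact Submodule.sub_mem _ h4 (Yo_inv μ ha' (hS (dser_le S j ha')) _ h4)
      | zero => exact ⟨Submodule.zero_mem _, 0, Submodule.zero_mem _, by simp⟩
      | add x y _ _ hx hy =>
        obtain ⟨a1, w, a2, a3⟩ := hx
        obtain ⟨b1, w', b2, b3⟩ := hy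
        refine ⟨Submodule.add_mem _ a1 b1, w + w', Submodule.add_mem _ a2 b2, ?_⟩
        rw [add_sub_add_comm]; exact Submodule.add_mem _ a3 b3
      | smul c x _ hx =>
        obtain ⟨a1, w, a2, a3⟩ := hx
        refine ⟨Submodule.smul_mem _ c a1, c • w, Submodule.smul_mem _ c a2, ?_⟩
        rw [← smul_sub]; exact Submodule.smul_mem _ c a3
  rw [eq_bot_iff]
  intro v hv
  obtain ⟨h3, w, hw, h4⟩ := h2 n v hv
  rw [h, Submodule.mem_bot] at hw
  rw [hw, zero_sub, neg_mem_iff] at h4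
  exact Yo_zero hX h3 h4

end Cfsg.Agent.PG.Dl
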