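import Mathlib
import Cfsg.Agent.PG.Dl1

/-! Regular orbits of elementary abelian groups on weights. -/

set_option autoImplicit false
set_option linter.unusedVariables false

namespace Cfsg.Agent.PG.Dl

open Module Cfsg.Agent.BG Cfsg.Agent.BG.Amb Cfsg.Agent.BG.RepGlue Cfsg.Agent.BG.RepWeight
  Cfsg.Agent.BG.RepFrob Cfsg.Agent.BG.RepExtra Cfsg.Agent.BG.RepPrime Cfsg.Agent.H23.HH
  Cfsg.Agent.PG.Tu Cfsg.Agent.PG.HHS Cfsg.Agent.PG.Br
open scoped commutatorElement Pointwise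
open Subgroup (zpowers)

theorem eigv {L M : Type*} [Group L] [CommGroup M] [MulDistribMulAction L M]
    (h2 : ∀ g : L, ∀ v : M, g • g • v = v) (hc : ∀ g h : L, ∀ v : M, g • h • v = h • g • v)
    {g : L} (hg : ∃ v : M, g • v ≠ v) (s : Finset L) :
    ∃ v : M, v ≠ 1 ∧ Ng g v ∧ ∀ h ∈ s, h • v = v ∨ Ng h v := by
  classical
  induction s using Finset.induction_on with
  | empty => obtain ⟨v, h1, h3⟩ := ex_ng (h2 g) hg; exact ⟨v, h1, h3, by simp⟩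
  | insert a s ha ih =>
    obtain ⟨v, h1, h3, h4⟩ := ih
    have := eig (S := fun w => Ng g w ∧ ∀ h ∈ s, (h • v = v → h • w = w) ∧ (Ng h v → Ng h w))
      (g := a) (fun x y hx hy => ⟨hx.1.mul hy.1, fun h hh => ⟨fun e => by
        rw [smul_mul', (hx.2 h hh).1 e, (hy.2 h hh).1 e],
        fun e => ((hx.2 h hh).2 e).mul ((hy.2 h hh).2 e)⟩⟩)
      (fun x hx => ⟨hx.1.inv, fun h hh => ⟨fun e => by rw [smul_inv', (hx.2 h hh).1 e],
        fun e => ((hx.2 h hh).2 e).inv⟩⟩)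
      (fun x hx => ⟨hx.1.smul (hc _ _ _), fun h hh => ⟨fun e => by rw [hc, (hx.2 h hh).1 e],
        fun e => ((hx.2 h hh).2 e).smul (hc _ _ _)⟩⟩) (fun v _ => h2 a v)
      ⟨h3, fun _ _ => ⟨id, id⟩⟩ h1
    rcases this with ⟨w, hw, h5, h6⟩ | ⟨w, hw, h5, h6⟩ <;>
    · refine ⟨w, h5, hw.1, fun h hh => ?_⟩
      rcases Finset.mem_insert.1 hh with rfl | hh
      · first | exact .inl h6 | exact .inr h6
      · exact (h4 h hh).imp (hw.2 h hh).1 (hw.2 h hh).2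

variable {k G W : Type*} [Field k] [Group G] [AddCommGroup W] [Module k W]
  [IsAlgClosed k] [Finite G] [FiniteDimensional k W] {ρ : Representation k G W} [CharP k 2]

/-- The elements acting trivially on a section. -/
def Kn (Q Z : Subgroup G) : Subgroup G where
  carrier := {g | g ∈ 𝐍(Z) ∧ ∀ a ∈ Q, ⁅a, g⁆ ∈ Z}
  one_mem' := ⟨Subgroup.one_mem _, by simp⟩
  mul_mem' := fun {g h} hg hh => ⟨Subgroup.mul_mem _ hg.1 hh.1, fun a ha => by
    rw [cm_mul_right]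
    exact Z.mul_mem (hg.2 a ha) (conj_mem_of_le_norm le_rfl hg.1 (hh.2 a ha))⟩
  inv_mem' := fun {g} hg => ⟨Subgroup.inv_mem _ hg.1, fun a ha => by
    rw [cm_swap, cm_inv_left, ← cm_swap]
    exact Z.inv_mem (inv_conj_mem_of_le_norm le_rfl hg.1 (hg.2 a ha))⟩

/-- An element with exact signs. -/
def Sg (F F' : Subgroup G) (x : G) : Prop :=
  ∀ h ∈ F, (h ∈ F' → h * x * h⁻¹ = x) ∧ (h ∉ F' → h * x * h⁻¹ = x⁻¹)

/-- The setting. -/
structure St (q : ℕ) (Q C F : Subgroup G) : Prop where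
  prime : q.Prime
  ne : q ≠ 2
  pg : IsPGroup q Q
  le : C ≤ Q
  der : ⁅Q, Q⁆ ≤ C
  cen : C ≤ 𝐂(Q)
  two : IsPGroup 2 F
  nQ : F ≤ 𝐍(Q)
  cF : C ≤ 𝐂(F)

variable {q : ℕ} {Q C F : Subgroup G}

omit [Finite G] in
theorem St.sq (h : St q Q C F) {A : Subgroup G} {g : G} (hg : g ∈ Q) (h2 : g ^ 2 ∈ A) : g ∈ A := by
  obtain ⟨n, hn⟩ := h.pg ⟨g, hg⟩
  exact PGrp.mem_of_pow_mem_of_coprime (a := 2) (b := q ^ n)
    (((Nat.coprime_primes Nat.prime_two h.prime).2 h.ne.symm).pow_right n) h2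
    (by rw [show g ^ q ^ n = 1 from congrArg Subtype.val hn]; exact A.one_mem)

omit [Finite G] in
theorem sg_mk {F' : Subgroup G} {g x : G} (hF : F ≤ 𝐍(F')) (hg : g ∈ F) (hgg : g * g ∈ F')
    (hi : ∀ h ∈ F, h ∉ F' → h * g⁻¹ ∈ F') (hx : x ∈ 𝐂(F')) : Sg F F' (x * (g * x * g⁻¹)⁻¹) := by
  have c1 : ∀ h ∈ F', h * x * h⁻¹ = x := fun h hh => conj_eq_of_comm (hx h hh)
  have c2 : ∀ h ∈ F', h * (g * x * g⁻¹) * h⁻¹ = g * x * g⁻¹ := fun h hh => by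
    conv_rhs => rw [← c1 _ (inv_conj_mem_of_le_norm hF hg hh)]
    group
  have c3 : ∀ h ∈ F', h * (x * (g * x * g⁻¹)⁻¹) * h⁻¹ = x * (g * x * g⁻¹)⁻¹ := fun h hh => by
    conv_rhs => rw [← c2 h hh]; enter [1]; rw [← c1 h hh]
    group
  refine fun h hh => ⟨c3 h, fun hn => ?_⟩
  have e : g * (x * (g * x * g⁻¹)⁻¹) * g⁻¹ = (x * (g * x * g⁻¹)⁻¹)⁻¹ := by
    conv_rhs => enter [1, 1]; rw [← c1 _ hgg]
    group
  have := c3 _ (hi h hh hn)
  calc h * (x * (g * x * g⁻¹)⁻¹) * h⁻¹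
      = h * g⁻¹ * (g * (x * (g * x * g⁻¹)⁻¹) * g⁻¹) * (h * g⁻¹)⁻¹ := by group
    _ = (h * g⁻¹ * (x * (g * x * g⁻¹)⁻¹) * (h * g⁻¹)⁻¹)⁻¹ := by rw [e]; group
    _ = _ := by rw [this]

theorem St.pair (h : St q Q C F) (l : C →* kˣ)
    (h2 : ∀ g ∈ F, g * g ∈ Kn Q (rad Q (kerG l)))
    (hc : ∀ a ∈ F, ∀ b ∈ F, ⁅a, b⁆ ∈ Kn Q (rad Q (kerG l))) {g : G} (hg : g ∈ F)
    (hn : g ∉ Kn Q (rad Q (kerG l))) : ∃ F' ≤ F, g ∉ F' ∧ ∃ x ∈ Q, ∃ y ∈ Q, Sg F F' x ∧ Sg F F' y ∧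
      ⁅x, y⁆ ∉ kerG l := by
  haveI := Fact.mk h.prime
  haveI : Fact (Nat.Prime 2) := ⟨Nat.prime_two⟩
  have hQK := norm_kerG_of_cent h.cen l
  set Z := rad Q (kerG l) with hZ
  have hFZ : F ≤ 𝐍(Z) := le_norm_rad h.nQ (norm_kerG_of_cent h.cF l)
  obtain ⟨M, _, _, π, a1, a2, a3⟩ := exists_act h.nQ hFZ
    (h.der.trans (le_rad_of_cent h.le h.cen l)) (rad_le _ _)
  have a : Ac F Z π := ⟨h.nQ, hFZ, a1, a2, a3⟩
  have tr : ∀ g : F, (∀ v : M, g • v = v) ↔ (g : G) ∈ Kn Q Z := fun g => (a.triv g).trans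
    ⟨fun e => ⟨hFZ g.2, fun b hb => e (Subgroup.commutator_mem_commutator hb
      (Subgroup.mem_zpowers _))⟩, fun e => le_cz e.1 e.2⟩
  have := Fintype.ofFinite F
  obtain ⟨v, v1, v2, v3⟩ := eigv (M := M) (g := (⟨g, hg⟩ : F))
    (fun g v => by rw [← mul_smul]; exact (tr _).2 (h2 g g.2) v)
    (fun a b v => by rw [cm]; exact (tr ⁅a, b⁆).2 (hc a a.2 b b.2) _)
    (by by_contra! e; exact hn ((tr _).1 e)) Finset.univ
  have vv : v ≠ v⁻¹ := fun e => v1 (by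
    obtain ⟨b, rfl⟩ := a1 v
    rw [← map_inv, a.eq] at e
    exact (a2 b).2 (h.sq b.2 (by simpa [pow_two] using e)))
  set F' := (MulAction.stabilizer F v).map F.subtype
  have hF' : F' ≤ F := Subgroup.map_subtype_le _
  have mF : ∀ g : F, (g : G) ∈ F' ↔ g • v = v := fun g => Subgroup.mem_map_iff_mem F.subtype_injective
  have hgF : g ∉ F' := fun e => vv (((mF ⟨g, hg⟩).1 e).symm.trans v2)
  have hi : ∀ h ∈ F, h ∉ F' → h * g⁻¹ ∈ F' := fun b hb hn => (mF (⟨b, hb⟩ * ⟨g, hg⟩⁻¹)).2 (by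
    have := (v3 ⟨b, hb⟩ (Finset.mem_univ _)).resolve_left fun e => hn ((mF ⟨b, hb⟩).2 e)
    rw [mul_smul, v2.inv_smul, smul_inv', this, inv_inv])
  have hgg : g * g ∈ F' := (mF (⟨g, hg⟩ * ⟨g, hg⟩)).2 ((tr _).2 (h2 g hg) v)
  have hFF : F ≤ 𝐍(F') := le_norm_of_der_le (Subgroup.commutator_le.2 fun a ha b hb =>
    (mF ⁅(⟨a, ha⟩ : F), (⟨b, hb⟩ : F)⁆).2 ((tr _).2 (hc a ha b hb) v)) hF'
  have hcop := IsPGroup.coprime_card_of_ne q 2 h.ne _ _ h.pg (h.two.to_le hF')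
  have hsQ := solvable_of_isPGroup h.pg
  obtain ⟨b, rfl⟩ := a1 v
  obtain ⟨x₀, hx₀, e₀⟩ : ∃ x₀ : Q, (x₀ : G) ∈ 𝐂(F') ∧ π x₀ = π b := by
    have hRQ : Z ⊔ zpowers (b : G) ≤ Q := sup_le (rad_le _ _) (Subgroup.zpowers_le.2 b.2)
    have hQZ : Q ≤ 𝐍(Z) := le_norm_rad Subgroup.le_normalizer hQK
    have hR : ⁅Z ⊔ zpowers (b : G), F'⁆ ≤ Z := by
      refine comm_sup_left_le (hRQ.trans hQZ) (comm_le_left (hF'.trans hFZ)) ?_
      rw [Subgroup.commutator_comm]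
      refine le_cz (hQZ b.2) fun w hw => ?_
      have := (mF ⟨w, hF' hw⟩).1 hw
      rw [a.sm, a.eq] at this
      exact this
    obtain ⟨u, hu, c, hc', e⟩ := Core.exists_commutator_mul_centralizer F' _
      (le_norm_of_comm_le_left (hR.trans le_sup_left)) (Core.coprime_of_le_left hcop hRQ).symm
      (Or.inr (solvable_mono hsQ hRQ)) b (Subgroup.mem_sup_right (Subgroup.mem_zpowers _))
    refine ⟨⟨c, hRQ hc'.1⟩, hc'.2, (a.eq.2 ?_).symm⟩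
    change (b : G) * c⁻¹ ∈ Z
    rw [show (b : G) * c⁻¹ = u by rw [mul_inv_eq_iff_eq_mul]; exact e]
    exact hR hu
  set x := (x₀ : G) * (g * x₀ * g⁻¹)⁻¹
  have hxQ : x ∈ Q := Q.mul_mem x₀.2 (Q.inv_mem (conj_mem_of_le_norm h.nQ hg x₀.2))
  have sx : Sg F F' x := sg_mk hFF hg hgg hi hx₀
  have hxZ : x ∉ Z := fun e => vv (by
    have := (a.eq (a := x₀) (b := ⟨_, conj_mem_of_le_norm h.nQ hg x₀.2⟩)).2 e
    rw [← a.sm ⟨g, hg⟩, e₀] at this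
    exact this.trans v2)
  have hxC : x ∈ Q ⊓ 𝐂(F') := ⟨hxQ, fun b hb => by
    have := (sx b (hF' hb)).1 hb
    rw [mul_inv_eq_iff_eq_mul] at this; exact this⟩
  obtain ⟨y₀, hy₀, e1⟩ : ∃ y ∈ Q ⊓ 𝐂(F'), ⁅x, y⁆ ∉ kerG l := by
    by_contra! hc
    refine hxZ ((mem_rad hQK).2 ⟨hxQ, fun b hb => ?_⟩)
    obtain ⟨u, hu, c, hc', rfl⟩ := Core.exists_commutator_mul_centralizer F' Q (hF'.trans h.nQ)
      hcop.symm (Or.inr hsQ) b hb
    have := comm_comm_cent_le (Q := Q) (K := ⊥) (Y := F') le_norm_bot le_norm_bot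
      (le_cent_iff_comm_eq_bot.1 (h.der.trans (h.cF.trans (cent_anti hF')))).le
      (Subgroup.commutator_mem_commutator hu hxC)
    rw [cm_mul_right, cm_swap x u, Subgroup.mem_bot.1 this, inv_one, one_mul]
    exact conj_mem_of_le_norm hQK (comm_le_left (hF'.trans h.nQ) hu) (hc c hc')
  refine ⟨F', hF', hgF, x, hxQ, y₀ * (g * y₀ * g⁻¹)⁻¹,
    Q.mul_mem hy₀.1 (Q.inv_mem (conj_mem_of_le_norm h.nQ hg hy₀.1)), sx,
    sg_mk hFF hg hgg hi hy₀.2, fun e => e1 (h.sq (der_le Q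
      (Subgroup.commutator_mem_commutator hxQ hy₀.1)) ?_)⟩
  have cD : ∀ x ∈ Q, ∀ y ∈ Q, ⁅x, y⁆ ∈ C := fun x hx y hy =>
    h.der (Subgroup.commutator_mem_commutator hx hy)
  have cc : ∀ x ∈ Q, ∀ d ∈ C, x * d * x⁻¹ = d := fun x hx d hd => conj_eq_of_comm (h.cen hd x hx)
  have e2 : ⁅x, (g * y₀ * g⁻¹)⁻¹⁆ = ⁅x, y₀⁆ := by
    have e3 : x = g * x⁻¹ * g⁻¹ := by
      have := (sx g hg).2 hgF
      rw [show g * x⁻¹ * g⁻¹ = (g * x * g⁻¹)⁻¹ by group, this, inv_inv]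
    have e4 := cD _ (Q.inv_mem hxQ) _ (Q.inv_mem hy₀.1)
    conv_lhs => rw [e3, show (g * y₀ * g⁻¹)⁻¹ = g * y₀⁻¹ * g⁻¹ by group, cm_conj,
      conj_eq_of_comm (h.cF e4 g hg)]
    rw [← cc _ (Q.mul_mem hy₀.1 hxQ) _ e4]
    simp only [commutatorElement_def]; group
  rwa [cm_mul_right, e2, cc _ hy₀.1 _ (cD _ hxQ _ hy₀.1), ← pow_two] at e

omit [Finite G] in
theorem St.sg_comm (h : St q Q C F) {A B : Subgroup G} (hA : A ≤ F) (hB : B ≤ F) (hne : A ≠ B)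
    {x y : G} (hx : x ∈ Q) (hy : y ∈ Q) (sx : Sg F A x) (sy : Sg F B y) : x * y = y * x := by
  have key : ∀ {A B : Subgroup G} {x y g : G}, g ∈ F → g ∈ A → g ∉ B → x ∈ Q → y ∈ Q → Sg F A x →
      Sg F B y → x * y = y * x := by
    intro A B x y g hg h1 h2 hx hy sx sy
    have c := h.der (Subgroup.commutator_mem_commutator hx hy)
    have e := cm_conj g x y
    rw [(sx g hg).1 h1, (sy g hg).2 h2, conj_eq_of_comm (h.cF c g hg), cm_swap x y⁻¹, cm_inv_left,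
      ← cm_swap x y, mul_assoc, ← h.cen c y hy, inv_mul_cancel_left] at e
    refine cm_one.1 (Subgroup.mem_bot.1 (h.sq (h.le c) ?_))
    rw [pow_two]; nth_rewrite 1 [← e]; exact inv_mul_cancel _
  by_cases h1 : A ≤ B
  · obtain ⟨g, hg, h2⟩ := SetLike.not_le_iff_exists.1 fun e => hne (le_antisymm h1 e)
    exact (key (hB hg) hg h2 hy hx sy sx).symm
  · obtain ⟨g, hg, h2⟩ := SetLike.not_le_iff_exists.1 h1
    exact key (hA hg) hg h2 hx hy sx sy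

theorem St.free (h : St q Q C F) {l : C →* kˣ} {U : Submodule k W} (hU : U ≠ ⊥)
    (hwt : U ≤ wt ρ C l) (hQU : ∀ g ∈ Q, ∀ v ∈ U, ρ g v ∈ U)
    (h2 : ∀ g ∈ F, g * g ∈ Kn Q (rad Q (kerG l)))
    (hc : ∀ a ∈ F, ∀ b ∈ F, ⁅a, b⁆ ∈ Kn Q (rad Q (kerG l))) {K : Subgroup G}
    (hK : F ⊓ Kn Q (rad Q (kerG l)) ≤ K) : ∃ T : Subgroup G → W → Prop, (∃ v ∈ U, T F v) ∧
      (∀ A A' a w, K ≤ A' → A' ≤ A → A ≤ F → a ∈ A → a ∉ A' → T A w → T A' (w - ρ a w)) ∧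
      ∀ A w, T A w → w ≠ 0 := by
  classical
  haveI : Fact (Nat.Prime 2) := ⟨Nat.prime_two⟩
  let P : Subgroup G → G × G → Prop := fun A p => A ≤ F ∧ p.1 ∈ Q ∧ p.2 ∈ Q ∧ Sg F A p.1 ∧
    Sg F A p.2 ∧ ⁅p.1, p.2⁆ ∉ kerG l
  let I := {A : Subgroup G // ∃ p, P A p}
  choose p hp using fun A : I => A.2
  have cm2 : ∀ A B : I, (p A).1 * (p B).1 = (p B).1 * (p A).1 := fun A B => by
    by_cases e : A = B
    · rw [e]
    exact h.sg_comm (hp A).1 (hp B).1 (fun e' => e (Subtype.ext e')) (hp A).2.1 (hp B).2.1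
      (hp A).2.2.2.1 (hp B).2.2.2.1
  set X : Subgroup G := C ⊔ ⨆ A : I, zpowers (p A).1 with hX
  have hxX : ∀ A : I, (p A).1 ∈ X := fun A => Subgroup.mem_sup_right
    (Subgroup.mem_iSup_of_mem A (Subgroup.mem_zpowers _))
  have hXQ : X ≤ Q := sup_le h.le (iSup_le fun A => Subgroup.zpowers_le.2 (hp A).2.1)
  have hXX : X ≤ 𝐂(X) := sup_le (h.cen.trans (cent_anti hXQ)) (iSup_le fun A =>
    le_cent_symm (sup_le (h.cen.trans (cent_anti (Subgroup.zpowers_le.2 (hp A).2.1)))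
      (iSup_le fun B => Subgroup.zpowers_le.2 (le_cent_symm (Subgroup.zpowers_le.2
        (show (p A).1 ∈ 𝐂(zpowers (p B).1) from by
          rw [cent_zpowers]; exact Subgroup.mem_centralizer_singleton_iff.2 (cm2 A B)))
        (Subgroup.mem_zpowers _)))))
  have hQX : Q ≤ 𝐍(X) := le_norm_of_der_le (h.der.trans le_sup_left) hXQ
  have hFX : F ≤ 𝐍(X) := le_norm_of_conj_mem fun g hg a ha => by
    have : X ≤ X.comap (MulAut.conj g).toMonoidHom := by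
      refine sup_le (fun c hc => ?_) (iSup_le fun A => Subgroup.zpowers_le.2 ?_)
      · change g * c * g⁻¹ ∈ X
        rw [conj_eq_of_comm (h.cF hc g hg)]; exact Subgroup.mem_sup_left hc
      · change g * _ * g⁻¹ ∈ X
        by_cases e : g ∈ A.1
        · rw [((hp A).2.2.2.1 g hg).1 e]; exact hxX A
        · rw [((hp A).2.2.2.1 g hg).2 e]; exact X.inv_mem (hxX A)
    exact this ha
  have hkX : (Nat.card X : k) ≠ 0 :=
    cast_card_ne_zero_of_le hXQ (cast_card_ne_zero h.prime h.ne h.pg)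
  have ex : ∀ s : Finset I, ∃ μ : X →* kˣ, ∃ v ∈ U, v ≠ 0 ∧ v ∈ wt ρ X μ ∧
      ∀ A ∈ s, (p A).1 ∉ kerG μ := by
    intro s
    induction s using Finset.induction_on with
    | empty =>
      obtain ⟨v, hv, v0⟩ := (Submodule.ne_bot_iff U).1 hU
      by_cases e : ∀ g ∈ X, ρ g v = v
      · exact ⟨1, v, hv, v0, mem_wt.2 fun a => by simpa using e a a.2, by simp⟩
      push Not at e
      obtain ⟨g, hg, e⟩ := e
      obtain ⟨μ, -, w, h1, h2, h3⟩ := exists_wt_not_mem hkX U (fun a ha => hQU a (hXQ ha))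
        (fun a ha b hb v _ => by
          rw [← Module.End.mul_apply, ← Module.End.mul_apply, ← map_mul, ← map_mul, hXX hb a ha])
        hg hv e
      exact ⟨μ, w, h1, h2, h3, by simp⟩
    | insert A s hA ih =>
      obtain ⟨μ, v, h1, h2, h3, h4⟩ := ih
      by_cases e : (p A).1 ∈ kerG μ
      swap
      · exact ⟨μ, v, h1, h2, h3, fun B hB => (Finset.mem_insert.1 hB).elim (fun e' => e' ▸ e) (h4 B)⟩
      have hy := (hp A).2.2.1
      refine ⟨cchar ⟨_, hQX (Q.inv_mem hy)⟩ μ, _, hQU _ (Q.inv_mem hy) v h1, apply_ne_zero _ h2,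
        apply_mem_wt ⟨_, hQX (Q.inv_mem hy)⟩ h3, fun B hB => ?_⟩
      rw [mem_kerG_cchar]
      simp only [inv_inv]
      rcases Finset.mem_insert.1 hB with rfl | hB
      · intro e'
        have := (kerG μ).mul_mem e ((kerG μ).inv_mem e')
        refine (hp B).2.2.2.2.2 (mem_kerG_of_apply_eq (h.der (Subgroup.commutator_mem_commutator
          (hp B).2.1 hy)) (hwt h1) h2 (apply_eq_of_mem_kerG ?_ h3))
        simpa [commutatorElement_def, mul_assoc] using this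
      · rw [conj_eq_of_comm (h.sg_comm (hp A).1 (hp B).1 (fun e' => hA (Subtype.ext e' ▸ hB)) hy
          (hp B).2.1 (hp A).2.2.2.2.1 (hp B).2.2.2.1)]
        exact h4 B hB
  have := Fintype.ofFinite I
  obtain ⟨μ, v, h1, v0, h3, h4⟩ := ex Finset.univ
  refine ⟨fun A w => w - v ∈ Yo ρ μ A, ⟨v, h1, by simp⟩, fun A A' a w k1 k2 k3 ha ha' hw =>
    orb_step k2 ha (hFX (k3 ha)) (fun b hb hs => ha' ?_) h3 hw, fun A w hw e => v0 ?_⟩
  · have hg : b⁻¹ * a ∈ F := F.mul_mem (F.inv_mem (k3 (k2 hb))) (k3 ha)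
    have : b⁻¹ * a ∈ K := by
      refine hK ⟨hg, by_contra fun hn => ?_⟩
      obtain ⟨B, b1, b2, x, b3, y, b4, b5⟩ := h.pair l h2 hc hg hn
      let B' : I := ⟨B, (x, y), b1, b3, b4, b5⟩
      have e1 := (mem_stab_iff (hFX hg)).1 hs _ (hxX B')
      rw [commutatorElement_def, show ∀ u v : G, u * v * u⁻¹ * v⁻¹ = u * (v * u * v⁻¹)⁻¹ by
        intros; group, ((hp B').2.2.2.1 _ hg).2 b2, inv_inv, ← pow_two] at e1
      exact h4 B' (Finset.mem_univ _) (h.sq (hp B').2.1 e1)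
    simpa using A'.mul_mem hb (k1 this)
  · rw [e, zero_sub, neg_mem_iff] at hw
    exact Yo_zero hkX h3 hw

end Cfsg.Agent.PG.Dl
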