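import Mathlib
import Cfsg.Agent.PG.Dl2
import Cfsg.Agent.H23.Alp

/-! Chains of subgroups in `2`-groups. -/

set_option autoImplicit false
set_option linter.unusedVariables false

namespace Cfsg.Agent.PG.Dl

open Cfsg.Agent.BG Cfsg.Agent.BG.Amb Cfsg.Agent.H23.HH Cfsg.Agent.PG.Tu Cfsg.Agent.PG.HHS
open scoped commutatorElement Pointwise
open Subgroup (zpowers)

variable {G : Type*} [Group G]

/-- A strictly increasing chain of length `n`. -/
def Ln : ℕ → Subgroup G → Subgroup G → Prop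
  | 0, A, B => A ≤ B
  | n + 1, A, B => ∃ C, A < C ∧ Ln n C B

theorem Ln.le : ∀ {n : ℕ} {A B : Subgroup G}, Ln n A B → A ≤ B
  | 0, _, _, h => h
  | _ + 1, _, _, ⟨_, h1, h2⟩ => h1.le.trans h2.le

theorem Ln.pre {G' : Type*} [Group G'] {L : Subgroup G} {f : L →* G'} (hf : Function.Surjective f) :
    ∀ {n : ℕ} {A B : Subgroup G'}, Ln n A B → Ln n (pre f A) (pre f B)
  | 0, _, _, h => Subgroup.map_mono (Subgroup.comap_mono h)
  | _ + 1, _, _, ⟨C, h1, h2⟩ => ⟨Tu.pre f C, lt_of_le_of_ne (Subgroup.map_mono (Subgroup.comap_mono h1.le))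
      fun e => h1.ne (Subgroup.comap_injective hf (Subgroup.map_injective L.subtype_injective e)),
      h2.pre hf⟩

/-- Adjoining an element of order two modulo `J`. -/
def adj (J : Subgroup G) (e : G) (hn : e ∈ 𝐍(J)) (h2 : e * e ∈ J) : Subgroup G where
  carrier := {g | g ∈ J ∨ g * e ∈ J}
  one_mem' := .inl J.one_mem
  mul_mem' := by
    rintro a b (ha | ha) (hb | hb)
    · exact .inl (J.mul_mem ha hb)
    · exact .inr (mul_assoc a b e ▸ J.mul_mem ha hb)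
    · refine .inr ?_
      rw [show a * b * e = a * e * (e⁻¹ * b * e) by group]
      exact J.mul_mem ha (inv_conj_mem_of_le_norm le_rfl hn hb)
    · refine .inl ?_
      rw [show a * b = a * e * (e⁻¹ * (b * e) * e) * (e * e)⁻¹ by group]
      exact J.mul_mem (J.mul_mem ha (inv_conj_mem_of_le_norm le_rfl hn hb)) (J.inv_mem h2)
  inv_mem' := by
    rintro a (ha | ha)
    · exact .inl (J.inv_mem ha)
    · refine .inr ?_
      rw [show a⁻¹ * e = e * (a * e)⁻¹ * e⁻¹ * (e * e) by group]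
      exact J.mul_mem (conj_mem_of_le_norm le_rfl hn (J.inv_mem ha)) h2

theorem le_adj {J : Subgroup G} {e : G} (hn : e ∈ 𝐍(J)) (h2 : e * e ∈ J) : J ≤ adj J e hn h2 :=
  fun _ h => .inl h

theorem mem_adj {J : Subgroup G} {e : G} (hn : e ∈ 𝐍(J)) (h2 : e * e ∈ J) : e ∈ adj J e hn h2 :=
  .inr h2

theorem adj_le {J A : Subgroup G} {e : G} (hn : e ∈ 𝐍(J)) (h2 : e * e ∈ J) (h : J ≤ A) (he : e ∈ A) :
    adj J e hn h2 ≤ A := by
  rintro g (hg | hg)
  · exact h hg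
  · simpa using A.mul_mem (h hg) (A.inv_mem he)

variable [Finite G]

theorem card_two {A B : Subgroup G} (h : ∀ a ∈ A, ∀ b ∈ A, a ∉ B → b ∉ B → a * b⁻¹ ∈ B) :
    Nat.card A ≤ 2 * Nat.card ↥(A ⊓ B) := by
  by_cases e : A ≤ B
  · rw [inf_eq_left.2 e]; omega
  obtain ⟨a, ha, h1⟩ := SetLike.not_le_iff_exists.1 e
  rw [two_mul, ← Nat.card_sum]
  refine Nat.card_le_card_of_surjective
    (Sum.elim (fun x => ⟨x, x.2.1⟩) fun x => ⟨x * a, A.mul_mem x.2.1 ha⟩) fun b => ?_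
  by_cases h2 : (b : G) ∈ B
  · exact ⟨.inl ⟨b, b.2, h2⟩, rfl⟩
  · exact ⟨.inr ⟨b * a⁻¹, A.mul_mem b.2 (A.inv_mem ha), h b b.2 a ha h2 h1⟩, Subtype.ext (by simp)⟩

theorem card_adj {J : Subgroup G} {e : G} (hn : e ∈ 𝐍(J)) (h2 : e * e ∈ J) :
    Nat.card (adj J e hn h2) ≤ 2 * Nat.card J := by
  have := card_two (A := adj J e hn h2) (B := J) fun a ha b hb h1 h3 => by
    simpa using J.mul_mem (ha.resolve_left h1) (J.inv_mem (hb.resolve_left h3))
  rwa [inf_eq_right.2 (le_adj hn h2)] at this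

theorem ex_out {A B : Subgroup G} (h : Nat.card A < Nat.card B) : ∃ b ∈ B, b ∉ A :=
  SetLike.not_le_iff_exists.1 fun e => h.not_ge (Subgroup.card_le_of_le e)

theorem ln_of_card {K F : Subgroup G} (h2 : ∀ a ∈ F, a * a ∈ K) (hc : ⁅F, F⁆ ≤ K) (n : ℕ) :
    ∀ A, K ≤ A → A ≤ F → 2 ^ n * Nat.card A ≤ Nat.card F → Ln n A F := by
  induction n with
  | zero => exact fun A _ h _ => h
  | succ n ih =>
    intro A h1 h3 h4
    have := Nat.card_pos (α := A)
    have := Nat.one_le_two_pow (n := n)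
    obtain ⟨a, ha, h5⟩ := ex_out (A := A) (B := F) (by rw [pow_succ] at h4; nlinarith)
    have hn := le_norm_of_der_le (hc.trans h1) h3 ha
    have h6 := card_adj hn (h1 (h2 a ha))
    refine ⟨adj A a hn (h1 (h2 a ha)), lt_of_le_of_ne (le_adj _ _) fun e => h5 (e ▸ mem_adj _ _),
      ih _ (h1.trans (le_adj _ _)) (adj_le _ _ h3 ha) ?_⟩
    rw [pow_succ] at h4; nlinarith

theorem rank {N A K : Subgroup G} (hN : IsPGroup 2 N) (hA : A ≤ N) (hK : K ≤ A) (nA : N ≤ 𝐍(A))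
    (nK : N ≤ 𝐍(K)) {m n : ℕ} (hm : n = m ∨ n + 1 = 2 * m) (h : ¬ ⁅A, dser N m⁆ ≤ K) :
    2 ^ (n + 2) * Nat.card K ≤ Nat.card A := by
  haveI : Fact (Nat.Prime 2) := ⟨Nat.prime_two⟩
  haveI := Subgroup.normal_subgroupOf_of_le_normalizer nK
  haveI := Subgroup.normal_subgroupOf_of_le_normalizer nA
  let f := QuotientGroup.mk' (K.subgroupOf N)
  have hf : ∀ g : N, f g = 1 ↔ (g : G) ∈ K := fun g => QuotientGroup.eq_one_iff g
  have hfs : Function.Surjective f := QuotientGroup.mk'_surjective _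
  haveI : (im f A).Normal := Subgroup.Normal.map inferInstance f hfs
  have h1 : ∀ m, im f (dser N m) ≤ dser ⊤ m := fun m => by
    induction m with
    | zero => exact le_top
    | succ m ih =>
      rw [dser_succ, dser_succ, im_comm f (dser_le _ _) (dser_le _ _)]
      exact Subgroup.commutator_mono ih ih
  have h2 : ∀ m, dser (⊤ : Subgroup (N ⧸ K.subgroupOf N)) (m + 1) ≤
      (⊤ : Subgroup _).lowerCentralSeries (2 * m + 1) := fun m => by
    induction m with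
    | zero => exact H23.Kr.dser_le_lcs _ 1
    | succ m ih =>
      rw [dser_succ]
      exact (Subgroup.commutator_mono ih ((dser_anti _ (Nat.le_add_left 1 m)).trans
        (H23.Kr.dser_le_lcs _ 1))).trans (FGS.commutator_lowerCentralSeries_le
          (fun i => (⊤ : Subgroup _).lowerCentralSeries i) (fun i => inferInstance) ⊤
          (fun i => le_rfl) (2 * m + 1) 1)
  have h3 : im f (dser N m) ≤ (⊤ : Subgroup _).lowerCentralSeries n := by
    refine (h1 m).trans ?_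
    rcases hm with rfl | hm
    · exact H23.Kr.dser_le_lcs _ _
    · obtain ⟨m, rfl⟩ : ∃ m', m = m' + 1 := ⟨m - 1, by omega⟩
      obtain rfl : n = 2 * m + 1 := by omega
      exact h2 m
  have h0 : ⁅im f A, im f (dser N m)⁆ ≠ ⊥ := by
    rw [← im_comm f hA (dser_le _ _), Ne, im_bot f hf (comm_le_of_le hA (dser_le _ _))]
    exact h
  have h4 := H23.Kr.pow_le_relIndex (hN.of_surjective f hfs) n h3 h0
  have h5 := Core.card_mul_relIndex (Subgroup.commutator_le_left (im f A) (im f (dser N m)))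
  have h6 := (Subgroup.one_lt_card_iff_ne_bot _).2 h0
  rw [← Core.card_mul_relIndex hK, ← im_card_eq f hA hf, ← h5, mul_comm, pow_succ' 2 (n + 1)]
  exact Nat.mul_le_mul_left _ (Nat.mul_le_mul h6 h4)

/-- A group with central involution containing all squares and commutators. -/
structure Qd (z : G) (Z : Subgroup G) : Prop where
  ne : z ≠ 1
  zz : z * z = 1
  mem : z ∈ Z
  cen : ∀ c ∈ Z, ∀ a, a * c = c * a
  sq : ∀ a : G, a * a = 1 ∨ a * a = z
  cm : ∀ a b : G, ⁅a, b⁆ = 1 ∨ ⁅a, b⁆ = z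

/-- An elementary abelian subgroup meeting `Z` in `⟨z⟩`. -/
structure Ea (z : G) (Z E : Subgroup G) : Prop where
  mem : z ∈ E
  sq : ∀ a ∈ E, a * a = 1
  inf : ∀ a ∈ E, a ∈ Z → a = 1 ∨ a = z

variable {z : G} {Z E : Subgroup G}

omit [Finite G] in
theorem Ea.comm (h : Ea z Z E) : E ≤ 𝐂(E) := fun a ha b hb => by
  have h1 := inv_eq_of_mul_eq_one_right (h.sq _ (E.mul_mem ha hb))
  rw [mul_inv_rev, inv_eq_of_mul_eq_one_right (h.sq a ha),
    inv_eq_of_mul_eq_one_right (h.sq b hb)] at h1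
  exact h1

omit [Finite G] in
theorem Qd.norm (h : Qd z Z) {J : Subgroup G} (hz : z ∈ J) (a : G) : a ∈ 𝐍(J) :=
  (show ⊤ ≤ 𝐍(J) from le_norm_of_der_le (Subgroup.commutator_le.2 fun a _ b _ =>
    (h.cm a b).elim (fun e => e ▸ J.one_mem) fun e => e ▸ hz) le_top) (Subgroup.mem_top a)

omit [Finite G] in
theorem Qd.sqm (h : Qd z Z) {J : Subgroup G} (hz : z ∈ J) (a : G) : a * a ∈ J :=
  (h.sq a).elim (fun e => e ▸ J.one_mem) fun e => e ▸ hz

theorem Qd.card_cent (h : Qd z Z) (C : Subgroup G) (e : G) :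
    Nat.card C ≤ 2 * Nat.card ↥(C ⊓ 𝐂[e]) := card_two fun a _ b _ ha hb => by
  rw [Subgroup.mem_centralizer_singleton_iff, ← cm_one] at *
  rw [cm_mul_left, cm_inv_left, (h.cm a e).resolve_left ha, (h.cm b e).resolve_left hb,
    inv_eq_of_mul_eq_one_right h.zz, h.cen z h.mem b⁻¹, inv_mul_cancel_right, h.cen z h.mem a,
    mul_inv_cancel_right, h.zz]

theorem Qd.step (h : Qd z Z) (hE : Ea z Z E) {e : G} (he : e ∈ 𝐂(E)) (h1 : e ∉ E ⊔ Z)
    (h2 : e * e = 1) : ∃ E', E < E' ∧ e ∈ E' ∧ Ea z Z E' ∧ Nat.card ↥(E' ⊔ Z) ≤ 2 * Nat.card ↥(E ⊔ Z) ∧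
      Nat.card 𝐂(E) ≤ 2 * Nat.card 𝐂(E') ∧ ∀ g ∈ E', g ∈ E ∨ g * e ∈ E := by
  have zJ : z ∈ E ⊔ Z := Subgroup.mem_sup_left hE.mem
  refine ⟨adj E e (h.norm hE.mem e) (h.sqm hE.mem e), lt_of_le_of_ne (le_adj _ _)
    fun e' => h1 (Subgroup.mem_sup_left (e' ▸ mem_adj _ _)), mem_adj _ _, ⟨.inl hE.mem, ?_, ?_⟩,
    (Subgroup.card_le_of_le ?_).trans (card_adj (h.norm zJ e) (h.sqm zJ e)),
    (h.card_cent _ e).trans (Nat.mul_le_mul_left _ (Subgroup.card_le_of_le ?_)), fun g hg => hg⟩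
  · rintro a (ha | ha)
    · exact hE.sq a ha
    · have h3 := hE.sq _ ha
      have h4 := he _ ha
      have h5 : a * e = e * a := by
        rw [← mul_assoc] at h4; exact mul_right_cancel h4
      rw [mul_assoc, ← mul_assoc e, ← h5, mul_assoc a, h2, mul_one] at h3
      exact h3
  · rintro a (ha | ha) hZ
    · exact hE.inf a ha hZ
    · exact absurd (by simpa using Subgroup.mul_mem _ (Subgroup.inv_mem _
        (Subgroup.mem_sup_right hZ)) (Subgroup.mem_sup_left ha)) h1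
  · exact sup_le (adj_le _ _ (le_sup_left.trans (le_adj _ _)) (mem_adj _ _))
      (le_sup_right.trans (le_adj _ _))
  · refine le_cent_symm (adj_le _ _ (le_cent_symm inf_le_left) fun b hb => ?_)
    exact Subgroup.mem_centralizer_singleton_iff.1 hb.2

theorem Qd.grow (h : Qd z Z) (n : ℕ) : ∀ E, Ea z Z E →
    2 ^ (2 * n + 1) * Nat.card ↥(E ⊔ Z) ≤ Nat.card 𝐂(E) → ∃ E', Ln n E E' ∧ Ea z Z E' := by
  induction n with
  | zero => exact fun E hE _ => ⟨E, le_rfl, hE⟩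
  | succ n ih =>
    intro E hE hc
    have zJ : z ∈ E ⊔ Z := Subgroup.mem_sup_left hE.mem
    have p1 := Nat.card_pos (α := ↥(E ⊔ Z))
    have p2 := Nat.one_le_two_pow (n := 2 * n)
    rw [show 2 ^ (2 * (n + 1) + 1) = 8 * 2 ^ (2 * n) by ring] at hc
    obtain ⟨e, he, h1, h2⟩ : ∃ e ∈ 𝐂(E), e ∉ E ⊔ Z ∧ e * e = 1 := by
      by_contra! hn
      have c1 := fun x => card_adj (h.norm zJ x) (h.sqm zJ x)
      obtain ⟨x, hx, x1⟩ := ex_out (A := E ⊔ Z) (B := 𝐂(E)) (by nlinarith)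
      obtain ⟨y, hy, y1⟩ := ex_out (A := adj _ x (h.norm zJ x) (h.sqm zJ x)) (B := 𝐂(E))
        (by nlinarith [c1 x])
      have zJ' := le_adj (h.norm zJ x) (h.sqm zJ x) zJ
      obtain ⟨w, hw, w1⟩ := ex_out (A := adj _ y (h.norm zJ' y) (h.sqm zJ' y)) (B := 𝐂(E))
        (by nlinarith [c1 x, card_adj (h.norm zJ' y) (h.sqm zJ' y)])
      have s : ∀ a ∈ 𝐂(E), a ∉ E ⊔ Z → a * a = z := fun a ha h1 => (h.sq a).resolve_left (hn a ha h1)
      have t : ∀ a ∈ 𝐂(E), a ∉ E ⊔ Z → w * a ∉ E ⊔ Z → ⁅w, a⁆ = z := fun a ha h1 h2 =>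
        (h.cm w a).resolve_left fun e => h.ne (by
          rw [← s _ (Subgroup.mul_mem _ hw ha) h2, mul_assoc, ← mul_assoc a, ← cm_one.1 e, mul_assoc,
            s a ha h1, ← mul_assoc, s w hw fun e => w1 (.inl (.inl e)), h.zz])
      have t1 := t x hx x1 fun e => w1 (.inl (.inr e))
      have t2 := t y hy (fun e => y1 (.inl e)) fun e => w1 (.inr (.inl e))
      have t3 := t (y * x) (Subgroup.mul_mem _ hy hx) (fun e => y1 (.inr e))
        fun e => w1 (.inr (.inr (by rwa [mul_assoc])))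
      rw [cm_mul_right, t1, t2, h.cen z h.mem y, mul_inv_cancel_right, h.zz] at t3
      exact h.ne t3.symm
    obtain ⟨E', k1, -, k2, k3, k4, -⟩ := h.step hE he h1 h2
    obtain ⟨E'', k5, k6⟩ := ih E' k2 (by rw [pow_succ]; nlinarith)
    exact ⟨E'', ⟨E', k1, k5⟩, k6⟩

theorem Qd.grow' (h : Qd z Z) (h1 : ∀ a : G, a * a = 1) (n : ℕ) : ∀ E, Ea z Z E →
    2 ^ n * Nat.card ↥(E ⊔ Z) ≤ Nat.card G → ∃ E', Ln n E E' ∧ Ea z Z E' := by
  induction n with
  | zero => exact fun E hE _ => ⟨E, le_rfl, hE⟩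
  | succ n ih =>
    intro E hE hc
    have p1 := Nat.card_pos (α := ↥(E ⊔ Z))
    have p2 := Nat.one_le_two_pow (n := n)
    rw [pow_succ] at hc
    obtain ⟨e, -, h2⟩ := ex_out (A := E ⊔ Z) (B := ⊤) (by rw [Subgroup.card_top]; nlinarith)
    obtain ⟨E', k1, -, k2, k3, -⟩ := h.step hE (fun b _ => by
      have := inv_eq_of_mul_eq_one_right (h1 (e * b))
      rwa [mul_inv_rev, inv_eq_of_mul_eq_one_right (h1 e), inv_eq_of_mul_eq_one_right (h1 b)] at this)
      h2 (h1 e)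
    obtain ⟨E'', k5, k6⟩ := ih E' k2 (by nlinarith)
    exact ⟨E'', ⟨E', k1, k5⟩, k6⟩

end Cfsg.Agent.PG.Dl
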