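import Mathlib
import Cfsg.Agent.PG.Dl3

/-! The extraspecial stage. -/

set_option autoImplicit false
set_option linter.unusedVariables false

namespace Cfsg.Agent.PG.Dl

open Module Cfsg.Agent.BG Cfsg.Agent.BG.Amb Cfsg.Agent.BG.RepGlue Cfsg.Agent.BG.RepWeight
  Cfsg.Agent.BG.RepFrob Cfsg.Agent.BG.RepExtra Cfsg.Agent.BG.RepPrime Cfsg.Agent.H23.HH
  Cfsg.Agent.PG.Tu Cfsg.Agent.PG.HHS Cfsg.Agent.PG.Br
open scoped commutatorElement Pointwise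
open Subgroup (zpowers)

variable {k G W : Type*} [Field k] [Group G] [AddCommGroup W] [Module k W]
  {ρ : Representation k G W}

theorem chain {T : Subgroup G → W → Prop} {K F : Subgroup G} {U : Submodule k W}
    (h0 : ∃ v ∈ U, T F v)
    (h1 : ∀ A A' a w, K ≤ A' → A' ≤ A → A ≤ F → a ∈ A → a ∉ A' → T A w → T A' (w - ρ a w))
    (hm : ∀ A A' w, A' ≤ A → T A w → T A' w) (n : ℕ) :
    ∀ A, K ≤ A → Ln n A F → ∃ w ∈ (au ρ F)^[n] U, T A w := by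
  induction n with
  | zero => exact fun A _ h => h0.imp fun v hv => ⟨hv.1, hm _ _ _ h hv.2⟩
  | succ n ih =>
    rintro A hK ⟨C, h2, h3⟩
    obtain ⟨w, hw, h4⟩ := ih C (hK.trans h2.le) h3
    obtain ⟨a, ha, h5⟩ := SetLike.exists_of_lt h2
    refine ⟨_, ?_, h1 C A a w hK h2.le h3.le ha h5 h4⟩
    rw [Function.iterate_succ_apply']
    exact mem_au (h3.le ha) hw

theorem Kn_norm {Q Z A : Subgroup G} (hQ : A ≤ 𝐍(Q)) (hZ : A ≤ 𝐍(Z)) : A ≤ 𝐍(Kn Q Z) :=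
  le_norm_of_conj_mem fun g hg a ha => ⟨Subgroup.mul_mem _ (Subgroup.mul_mem _ (hZ hg) ha.1)
    (Subgroup.inv_mem _ (hZ hg)), fun b hb => by
      have := conj_mem_of_le_norm hZ hg (ha.2 _ (inv_conj_mem_of_le_norm hQ hg hb))
      rw [← cm_conj] at this
      simpa [mul_assoc] using this⟩

theorem cent_le_Kn {Q Z : Subgroup G} (h : Z ≤ Q) : 𝐂(Q) ≤ Kn Q Z := fun g hg =>
  ⟨cent_le_norm _ (cent_anti h hg), fun a ha => by rw [cm_one.2 (hg a ha)]; exact Z.one_mem⟩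

/-- The iterated commutator along the derived series. -/
def bb (S P : Subgroup G) : ℕ → Subgroup G
  | 0 => P
  | i + 1 => ⁅bb S P i, dser S i⁆

theorem bb_le {S P : Subgroup G} (h : P ≤ S) (hn : S ≤ 𝐍(P)) (i : ℕ) : bb S P i ≤ P ⊓ dser S i := by
  induction i with
  | zero => exact le_inf le_rfl h
  | succ i ih =>
    exact le_inf ((Subgroup.commutator_mono (ih.trans inf_le_left) le_rfl).trans
      (comm_le_left ((dser_le S i).trans hn)))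
      (dser_succ S i ▸ Subgroup.commutator_mono (ih.trans inf_le_right) le_rfl)

variable [IsAlgClosed k] [Finite G] [FiniteDimensional k W] [CharP k 2]

theorem St.fr {q : ℕ} {Q C F : Subgroup G} (h : St q Q C F) {l : C →* kˣ} {U : Submodule k W}
    (hU : U ≠ ⊥) (hwt : U ≤ wt ρ C l) (hQU : ∀ g ∈ Q, ∀ v ∈ U, ρ g v ∈ U)
    (h2 : ∀ g ∈ F, g * g ∈ Kn Q (rad Q (kerG l)))
    (hc : ∀ a ∈ F, ∀ b ∈ F, ⁅a, b⁆ ∈ Kn Q (rad Q (kerG l))) {K : Subgroup G}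
    (hK : F ⊓ Kn Q (rad Q (kerG l)) ≤ K) : ∃ T : Subgroup G → W → Prop,
      (∀ n A, K ≤ A → Ln n A F → ∃ w ∈ (au ρ F)^[n] U, T A w) ∧
      (∀ A A' a w, K ≤ A' → A' ≤ A → A ≤ F → a ∈ A → a ∉ A' → T A w → T A' (w - ρ a w)) ∧
      ∀ A w, T A w → w ≠ 0 := by
  obtain ⟨T, h3, h4, h5⟩ := h.free hU hwt hQU h2 hc hK
  refine ⟨fun A w => ∃ B, A ≤ B ∧ B ≤ F ∧ T B w ∧ ∀ B', K ≤ B' → B' ≤ B → ∀ a ∈ B', ∀ A', K ≤ A' →
    A' ≤ B' → a ∉ A' → T A' (w - ρ a w), ?_, ?_, fun A w ⟨B, _, _, h, _⟩ => h5 B w h⟩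
  · refine chain (K := K) ?_ ?_ fun A A' w e ⟨B, h1, h2⟩ => ⟨B, e.trans h1, h2⟩
    · obtain ⟨v, hv, h6⟩ := h3
      exact ⟨v, hv, F, le_rfl, le_rfl, h6, fun B' _ k2 a ha A' k3 k4 k5 =>
        h4 F A' a v k3 (k4.trans k2) le_rfl (k2 ha) k5 h6⟩
    · rintro A A' a w k1 k2 k3 ha k4 ⟨B, b1, b2, b3, b4⟩
      have := b4 A (k1.trans k2) b1 a ha A' k1 k2 k4
      exact ⟨A', le_rfl, k2.trans k3, this, fun B' _ c2 a' ha' A'' c3 c4 c5 =>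
        h4 A' A'' a' _ c3 (c4.trans c2) (k2.trans k3) (c2 ha') c5 this⟩
  · rintro A A' a w k1 k2 k3 ha k4 ⟨B, b1, b2, b3, b4⟩
    have := b4 A (k1.trans k2) b1 a ha A' k1 k2 k4
    exact ⟨A', le_rfl, k2.trans k3, this, fun B' _ c2 a' ha' A'' c3 c4 c5 =>
      h4 A' A'' a' _ c3 (c4.trans c2) (k2.trans k3) (c2 ha') c5 this⟩

theorem stageB {q j κ : ℕ} {Q C P D D₀ S : Subgroup G} (h : St q Q C P) (sp : Sp P D)
    (hS : IsPGroup 2 S) (hPS : P ≤ S) (hSP : S ≤ 𝐍(P)) {l : C →* kˣ} {U : Submodule k W}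
    (hU : U ≠ ⊥) (hwt : U ≤ wt ρ C l) (hQU : ∀ g ∈ Q, ∀ v ∈ U, ρ g v ∈ U) (hD : D₀ ≤ D)
    (hDQ : D₀ ≤ 𝐂(Q)) {b w : G} (hb : b ∈ bb S P (j + κ)) (hw : w ∈ P) (hz : ⁅w, b⁆ ∉ D₀)
    (p1 : ∀ g ∈ D, g ∉ D₀ → g * ⁅w, b⁆ ∈ D₀) (p3 : D ⊓ Kn Q (rad Q (kerG l)) ≤ D₀)
    (hn : dser S j ≤ 𝐍(D₀ ⊓ dser S j)) (h0 : ch ρ S j U (κ + 1) = ⊥) : False := by
  have hCK : D₀ ≤ Kn Q (rad Q (kerG l)) := hDQ.trans (cent_le_Kn (rad_le _ _))
  have hb' := bb_le hPS hSP _ hb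
  set z := ⁅w, b⁆ with hz0
  have zD : z ∈ D := sp.der _ hw _ hb'.1
  have cN : ∀ i, ∀ a ∈ P, ∀ g ∈ dser S i, ⁅a, g⁆ ∈ dser S i := fun i a ha g hg =>
    comm_le_right (hPS.trans (dser_norm S i)) (Subgroup.commutator_mem_commutator ha hg)
  have zN : z ∈ dser S (j + κ) := cN _ _ hw _ hb'.2
  have sub : ∀ F ≤ P, St q Q C F := fun F hF => ⟨h.prime, h.ne, h.pg, h.le, h.der, h.cen,
    h.two.to_le hF, hF.trans h.nQ, h.cF.trans (cent_anti hF)⟩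
  rcases κ with _ | κ
  · obtain ⟨T, t1, t2, t3⟩ := (sub D sp.le).fr hU hwt hQU
      (fun g hg => by rw [sp.dsq g hg]; exact Subgroup.one_mem _)
      (fun a ha b hb => by rw [cm_one.2 (sp.cen a ha b (sp.le hb))]; exact Subgroup.one_mem _) p3
    obtain ⟨v, hv, h1⟩ := t1 0 D hD le_rfl
    exact t3 _ _ (t2 D D₀ z v le_rfl hD le_rfl zD hz h1) (h0.le (mem_au zN hv))
  set P₁ := P ⊓ dser S (j + κ) with hP₁
  have hNN : dser S (j + κ) ≤ dser S j := dser_anti S (Nat.le_add_right _ _)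
  have hN1 : dser S (j + (κ + 1)) ≤ dser S (j + κ) := dser_anti S (by omega)
  have hPD : ∀ A ≤ D, P ≤ 𝐍(A) := fun A hA => le_norm_of_le_cent fun p hp d hd => sp.cen d (hA hd) p hp
  set Z₀ := P₁ ⊓ Kn P (D₀ ⊓ dser S j) with hZ₀
  have nP₁ : dser S j ≤ 𝐍(P₁) := (dser_le S j).trans (le_norm_inf hSP (dser_norm S _))
  have bP : b ∈ P₁ := ⟨hb'.1, hN1 hb'.2⟩
  have zP : z ∈ P₁ := ⟨sp.le zD, hN1 zN⟩
  have bZ : b ∉ Z₀ := fun e => hz (e.2.2 w hw).1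
  have hr : 2 ^ (2 * κ + 1) * Nat.card Z₀ ≤ Nat.card P₁ := by
    have := fun n hm => rank (N := dser S j) (A := P₁) (K := Z₀) (hS.to_le (dser_le S j))
      (inf_le_right.trans hNN) inf_le_left nP₁ (le_norm_inf nP₁ (Kn_norm ((dser_le S j).trans hSP) hn))
      (m := κ) (n := n) hm fun e => bZ (e (by
        rw [← dser_add, add_comm κ j]
        exact Subgroup.commutator_mono (bb_le hPS hSP _) le_rfl hb))
    rcases κ with _ | κ
    · exact le_trans (Nat.mul_le_mul_right _ (by norm_num)) (this 0 (.inl rfl))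
    · exact this (2 * κ + 1) (.inr (by ring))
  haveI := Subgroup.normal_subgroupOf_of_le_normalizer ((inf_le_left : P₁ ≤ P).trans (hPD D₀ hD))
  let f := QuotientGroup.mk' (D₀.subgroupOf P₁)
  have hf : ∀ g : P₁, f g = 1 ↔ (g : G) ∈ D₀ := fun g => QuotientGroup.eq_one_iff g
  have hfs : Function.Surjective f := QuotientGroup.mk'_surjective _
  set z' := f ⟨z, zP⟩
  have zz : z' * z' = 1 := by rw [← map_mul, hf]; exact (show z * z ∈ D₀ by rw [sp.dsq z zD]; exact D₀.one_mem)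
  have dz : ∀ g : P₁, (g : G) ∈ D → f g = 1 ∨ f g = z' := fun g hg => by
    by_cases e : (g : G) ∈ D₀
    · exact .inl ((hf g).2 e)
    · have := (hf (g * ⟨z, zP⟩)).2 (p1 g hg e)
      rw [map_mul, ← zz] at this
      exact .inr (mul_right_cancel this)
  have DZ : ∀ g ∈ P₁, g ∈ D → g ∈ Z₀ := fun g hg hd => ⟨hg, hPD _ (inf_le_left.trans hD) hg.1,
    fun a ha => by rw [cm_one.2 (sp.cen g hd a ha).symm]; exact Subgroup.one_mem _⟩
  have qd : Qd z' (im f Z₀) := by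
    refine ⟨fun e => hz ((hf _).1 e), zz, mem_im f (DZ z zP zD), ?_, fun a => ?_, fun a b => ?_⟩
    · rintro _ ⟨c, hc, rfl⟩ a
      obtain ⟨a, rfl⟩ := hfs a
      rw [← cm_one, ← map_commutatorElement, hf]
      exact (hc.2.2 a a.2.1).1
    · obtain ⟨a, rfl⟩ := hfs a
      rw [← map_mul]; exact dz _ (sp.sq _ a.2.1)
    · obtain ⟨a, rfl⟩ := hfs a
      obtain ⟨b, rfl⟩ := hfs b
      rw [← map_commutatorElement]; exact dz _ (sp.der _ a.2.1 _ b.2.1)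
  have hr' : 2 ^ (2 * κ + 1) * Nat.card (im f Z₀) ≤ Nat.card (P₁ ⧸ D₀.subgroupOf P₁) := by
    have e1 := Core.card_mul_relIndex (inf_le_right : D₀ ⊓ P₁ ≤ P₁)
    have e2 := Core.card_mul_relIndex (show D₀ ⊓ P₁ ≤ Z₀ from fun g hg => DZ g hg.2 (hD hg.1))
    rw [Subgroup.inf_relIndex_right] at e1
    rw [← im_card_eq f (K := D₀ ⊓ P₁) inf_le_left fun g => (hf g).trans ⟨fun e => ⟨e, g.2⟩, fun e => e.1⟩]
      at e2
    rw [← e1, ← e2, mul_left_comm] at hr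
    exact Nat.le_of_mul_le_mul_left hr Nat.card_pos
  have fr : ∀ E, Ea z' (im f Z₀) E → ∃ T : Subgroup G → W → Prop,
      (∀ n A, Ln n A E → ∃ w ∈ (au ρ P₁)^[n] U, T (pre f A) w) ∧
      (∀ A A' (a : P₁) w, A' ≤ A → A ≤ E → f a ∈ A → f a ∉ A' → T (pre f A) w →
        T (pre f A') (w - ρ a w)) ∧ ∀ A w, T A w → w ≠ 0 := fun E hE => by
    have mp : ∀ {A A'}, A ≤ A' → pre f A ≤ pre f A' := fun e =>
      Subgroup.map_mono (Subgroup.comap_mono e)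
    obtain ⟨T, t1, t2, t3⟩ := (sub (pre f E) ((pre_le f E).trans inf_le_left)).fr (K := pre f ⊥) hU hwt
      hQU (by
        rintro _ ⟨g, hg, rfl⟩
        exact hCK ((hf (g * g)).1 (by rw [map_mul]; exact hE.sq _ hg))) (by
        rintro _ ⟨a, ha, rfl⟩ _ ⟨b, hb, rfl⟩
        exact hCK ((hf ⁅a, b⁆).1 (by rw [map_commutatorElement, cm_one]; exact hE.comm hb _ ha))) (by
        rintro _ ⟨⟨g, hg, rfl⟩, hk⟩
        have hPK : P ≤ 𝐍(Kn Q (rad Q (kerG l))) :=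
          Kn_norm h.nQ (le_norm_rad h.nQ (norm_kerG_of_cent h.cF l))
        have gZ : (g : G) ∈ Z₀ := ⟨g.2, hPD _ (inf_le_left.trans hD) g.2.1, fun a ha =>
          ⟨p3 ⟨sp.der _ ha _ g.2.1, comm_le_right hPK (Subgroup.commutator_mem_commutator ha hk)⟩,
            cN _ _ ha _ (hNN g.2.2)⟩⟩
        refine (mem_pre f).2 ((hE.inf _ hg (mem_im f gZ)).resolve_right fun e => hz (p3 ⟨zD, ?_⟩))
        have := hCK ((hf (g⁻¹ * ⟨z, zP⟩)).1 (by rw [map_mul, map_inv, e, inv_mul_cancel]))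
        simpa using Subgroup.mul_mem _ hk this)
    refine ⟨T, fun n A hA => ?_, fun A A' a w k1 k2 k3 k4 => t2 _ _ _ _ (mp bot_le) (mp k1) (mp k2)
      ((mem_pre f).2 k3) fun e => k4 ((mem_pre f).1 e), t3⟩
    obtain ⟨w, h1, h2⟩ := t1 n _ (mp bot_le) (hA.pre hfs)
    refine ⟨w, ?_, h2⟩
    clear h2 hA
    revert w
    induction n with
    | zero => exact fun w h => h
    | succ n ih =>
      rw [Function.iterate_succ_apply', Function.iterate_succ_apply']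
      exact fun w h => au_mono (pre_le f E) ih h
  have ad : ∀ e : P₁ ⧸ D₀.subgroupOf P₁, e * e = 1 → ∃ A : Subgroup (P₁ ⧸ D₀.subgroupOf P₁),
      ∀ g, g ∈ A ↔ g = 1 ∨ g = e := fun e he =>
    ⟨adj ⊥ e (le_norm_bot (Subgroup.mem_top e)) he, fun g => or_congr Iff.rfl
      ⟨fun h => mul_right_cancel ((show g * e = 1 from h).trans he.symm), fun h => h ▸ he⟩⟩
  obtain ⟨E₀, hE₀⟩ := ad z' zz
  have e0 : Ea z' (im f Z₀) E₀ := ⟨(hE₀ _).2 (.inr rfl), fun a ha => by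
    rcases (hE₀ a).1 ha with rfl | rfl
    exacts [mul_one 1, zz], fun a ha _ => (hE₀ a).1 ha⟩
  have e0Z : E₀ ≤ im f Z₀ := fun a ha => by
    rcases (hE₀ a).1 ha with rfl | rfl
    exacts [Subgroup.one_mem _, qd.mem]
  have s0 : E₀ ⊔ im f Z₀ = im f Z₀ := sup_eq_right.2 e0Z
  have c0 : Nat.card 𝐂(E₀) = Nat.card (P₁ ⧸ D₀.subgroupOf P₁) := by
    rw [show 𝐂(E₀) = ⊤ from eq_top_iff.2 fun a _ c hc => (qd.cen c (e0Z hc) a).symm, Subgroup.card_top]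
  have lv : ∀ n ≤ κ + 1, (au ρ P₁)^[n] U ≤ ch ρ S j U n := fun n hn =>
    it_le_ch U n fun i hi => inf_le_right.trans (dser_anti S (by omega))
  by_cases ha : ∀ a : P₁ ⧸ D₀.subgroupOf P₁, a * a = 1
  · obtain ⟨E, k1, k2⟩ := qd.grow' ha (κ + 1) E₀ e0 (by
      rw [s0]
      exact le_trans (Nat.mul_le_mul_right _ (Nat.pow_le_pow_right two_pos (by omega))) hr')
    obtain ⟨T, t1, t2, t3⟩ := fr E k2
    obtain ⟨v, hv, h1⟩ := t1 _ _ k1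
    exact t3 _ _ (t2 E₀ ⊥ ⟨z, zP⟩ v bot_le k1.le e0.mem qd.ne h1) (h0.le (mem_au zN (lv _ le_rfl hv)))
  push Not at ha
  obtain ⟨c, hc⟩ := ha
  obtain ⟨c, rfl⟩ := hfs c
  replace hc := (qd.sq _).resolve_left hc
  rcases qd.sq (f ⟨b, bP⟩) with hbb | hbb
  · obtain ⟨E₁, k1, k0, k2, k3, k4, -⟩ := qd.step e0 (e := f ⟨b, bP⟩)
      (fun c hc => (qd.cen c (e0Z hc) _).symm) (by
        rw [s0]
        rintro ⟨g, hg, e⟩
        have := DZ _ (g⁻¹ * ⟨b, bP⟩ : P₁).2 (hD ((hf _).1 (by rw [map_mul, map_inv, e, inv_mul_cancel])))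
        exact bZ (by simpa using Z₀.mul_mem hg this)) hbb
    have b0 : f ⟨b, bP⟩ ∉ E₀ := fun e => by
      obtain ⟨g, hg, e⟩ := e0Z e
      have := DZ _ (g⁻¹ * ⟨b, bP⟩ : P₁).2 (hD ((hf _).1 (by rw [map_mul, map_inv, e, inv_mul_cancel])))
      exact bZ (by simpa using Z₀.mul_mem hg this)
    rcases κ with _ | κ
    · obtain ⟨T, t1, t2, t3⟩ := fr E₁ k2
      obtain ⟨v, hv, h1⟩ := t1 0 E₁ le_rfl
      exact t3 _ _ (t2 E₀ ⊥ ⟨z, zP⟩ _ bot_le k1.le e0.mem qd.ne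
        (t2 E₁ E₀ ⟨b, bP⟩ v k1.le le_rfl k0 b0 h1)) (h0.le (mem_au zN (mem_au bP.2 hv)))
    obtain ⟨E, k5, k6⟩ := qd.grow κ E₁ k2 (by
      rw [s0] at k3
      rw [c0] at k4
      rw [show 2 ^ (2 * (κ + 1) + 1) = 4 * 2 ^ (2 * κ + 1) by ring] at hr'
      nlinarith [Nat.one_le_two_pow (n := 2 * κ + 1)])
    obtain ⟨T, t1, t2, t3⟩ := fr E k6
    obtain ⟨v, hv, h1⟩ := t1 _ _ k5
    obtain ⟨B, hB⟩ := ad _ hbb
    have hBE : B ≤ E₁ := fun a ha => by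
      rcases (hB a).1 ha with rfl | rfl
      exacts [Subgroup.one_mem _, k0]
    refine t3 _ _ (t2 B ⊥ ⟨b, bP⟩ _ bot_le (hBE.trans k5.le) ((hB _).2 (.inr rfl))
      (fun e => b0 (by rw [Subgroup.mem_bot.1 e]; exact E₀.one_mem))
      (t2 E₁ B (c * c) v hBE k5.le (by rw [map_mul, hc]; exact k2.mem) (by
        rw [map_mul, hc, hB]
        rintro (e | e)
        exacts [qd.ne e, b0 (e ▸ e0.mem)]) h1)) (h0.le (mem_au hb'.2 ?_))
    exact sq_mem c.2.2 (dser_anti S (by omega) c.2.2) (lv _ (by omega) hv)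
  · obtain ⟨E, k5, k6⟩ := qd.grow κ E₀ e0 (by rw [s0, c0]; exact hr')
    obtain ⟨T, t1, t2, t3⟩ := fr E k6
    obtain ⟨v, hv, h1⟩ := t1 _ _ k5
    exact t3 _ _ (t2 E₀ ⊥ (⟨b, bP⟩ * ⟨b, bP⟩) v bot_le k5.le (by rw [map_mul, hbb]; exact e0.mem)
      (by rw [map_mul, hbb]; exact qd.ne) h1) (h0.le (sq_mem hb'.2 bP.2 (lv _ (by omega) hv)))

end Cfsg.Agent.PG.Dl
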