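import Mathlib
import Cfsg.Agent.PG.Dl4

/-! The key lemma for the derived length. -/

set_option autoImplicit false
set_option linter.unusedVariables false

namespace Cfsg.Agent.PG.Dl

open Module Cfsg.Agent.BG Cfsg.Agent.BG.Amb Cfsg.Agent.BG.RepGlue Cfsg.Agent.BG.RepWeight
  Cfsg.Agent.BG.RepFrob Cfsg.Agent.BG.RepExtra Cfsg.Agent.BG.RepPrime Cfsg.Agent.H23.HH
  Cfsg.Agent.PG.Tu Cfsg.Agent.PG.HHS Cfsg.Agent.PG.Br
open scoped commutatorElement Pointwise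
open Subgroup (zpowers)

variable {k G W : Type*} [Field k] [Group G] [AddCommGroup W] [Module k W]
  {ρ : Representation k G W} [IsAlgClosed k] [Finite G] [FiniteDimensional k W] [CharP k 2]

omit [IsAlgClosed k] [FiniteDimensional k W] [CharP k 2] in
theorem st0 {X S : Subgroup G} (hX : (Nat.card X : k) ≠ 0) (h2 : IsPGroup 2 S) (hS : S ≤ 𝐍(X))
    {μ : X →* kˣ} (hwt : wt ρ X μ ≠ ⊥) {d : ℕ} (h : ch ρ S 0 ⊤ (d + 1) = ⊥) :
    ∃ j m, d = j + m ∧ dser S j ≤ stab μ ∧ ch ρ S j (wt ρ X μ) (m + 1) = ⊥ := by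
  classical
  have hex : ∃ i, i = d + 1 ∨ dser S i ≤ stab μ := ⟨_, .inl rfl⟩
  have h1 : Nat.find hex ≤ d + 1 := Nat.find_min' hex (.inl rfl)
  have h3 : ∀ i < Nat.find hex, ¬ dser S i ≤ stab μ := fun i hi e => Nat.find_min hex hi (.inr e)
  rcases h1.eq_or_lt with e | e
  · exact absurd (stage0 hX h2 hS μ h3 (n := 0) (.inl rfl) (by rwa [e])) hwt
  · have h4 := (Nat.find_spec hex).resolve_left e.ne
    refine ⟨_, d - Nat.find hex, by omega, h4, stage0 hX h2 hS μ h3 (.inr h4) ?_⟩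
    rwa [show Nat.find hex + (d - Nat.find hex + 1) = d + 1 by omega]

theorem stageAb {q j m : ℕ} {Q C P S : Subgroup G} (h : St q Q C P) (hS : IsPGroup 2 S)
    (hPS : P ≤ S) (hSP : S ≤ 𝐍(P)) (hSQ : S ≤ 𝐍(Q)) {l : C →* kˣ} (hwt : wt ρ C l ≠ ⊥)
    (hl : dser S j ≤ stab l) (h2 : ∀ g ∈ P, g * g ∈ Kn Q (rad Q (kerG l)))
    (hc : ∀ a ∈ P, ∀ b ∈ P, ⁅a, b⁆ ∈ Kn Q (rad Q (kerG l))) {b : G} (hb : b ∈ bb S P (j + m))
    (hn : b ∉ Kn Q (rad Q (kerG l))) (h0 : ch ρ S j (wt ρ C l) (m + 1) = ⊥) : False := by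
  have hb' := bb_le hPS hSP _ hb
  set F := P ⊓ dser S (j + m - 1) with hF
  have bF : b ∈ F := ⟨hb'.1, dser_anti S (Nat.sub_le _ _) hb'.2⟩
  have hs : St q Q C F := ⟨h.prime, h.ne, h.pg, h.le, h.der, h.cen,
    h.two.to_le inf_le_left, inf_le_left.trans h.nQ, h.cF.trans (cent_anti inf_le_left)⟩
  set K := F ⊓ Kn Q (rad Q (kerG l)) with hK
  have h2' : ∀ a ∈ F, a * a ∈ K := fun a ha => ⟨F.mul_mem ha ha, h2 a ha.1⟩
  have hc' : ⁅F, F⁆ ≤ K := le_inf (der_le F) (Subgroup.commutator_le.2 fun a ha b hb =>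
    hc a ha.1 b hb.1)
  have nb := le_norm_of_der_le hc' inf_le_left bF
  obtain ⟨T, t1, t2, t3⟩ := hs.fr (K := K) hwt le_rfl (fun g hg v hv =>
    apply_mem_wt_of_stab (cent_le_stab l (le_cent_symm h.cen hg)) hv) (fun g hg => h2 g hg.1)
    (fun a ha b hb => hc a ha.1 b hb.1) le_rfl
  have hA := adj_le nb (h2' b bF) inf_le_left bF
  obtain ⟨w, hw, h1⟩ := t1 m _ (le_adj nb (h2' b bF)) (by
    rcases m with _ | m
    · exact hA
    refine ln_of_card h2' hc' _ _ (le_adj _ _) hA ?_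
    have nF : dser S j ≤ 𝐍(F) := (dser_le S j).trans (le_norm_inf hSP (dser_norm S _))
    have := rank (N := dser S j) (A := F) (K := K) (hS.to_le (dser_le S j))
      (inf_le_right.trans (dser_anti S (by omega))) inf_le_left nF (le_norm_inf nF
        (Kn_norm ((dser_le S j).trans hSQ) (le_norm_rad ((dser_le S j).trans hSQ)
          (hl.trans (stab_le_norm_kerG l))))) (m := m) (.inl rfl) fun e => hn (e (by
        rw [← dser_add, add_comm m j]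
        exact Subgroup.commutator_mono (bb_le hPS hSP _) le_rfl hb)).2
    have := card_adj nb (h2' b bF)
    rw [pow_succ 2 (m + 1)] at *
    nlinarith [Nat.one_le_two_pow (n := m + 1)])
  exact t3 _ _ (t2 _ K b w le_rfl (le_adj _ _) hA (mem_adj _ _) (fun e => hn e.2) h1)
    (h0.le (mem_au hb'.2 (it_le_ch _ m (fun i hi => inf_le_right.trans (dser_anti S (by omega))) hw)))

theorem stageA {q j m : ℕ} {Q C P D S : Subgroup G} (h : St q Q C P) (sp : Sp P D)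
    (hS : IsPGroup 2 S) (hPS : P ≤ S) (hSP : S ≤ 𝐍(P)) (hSD : S ≤ 𝐍(D)) (hSQ : S ≤ 𝐍(Q))
    {l : C →* kˣ} (hwt : wt ρ C l ≠ ⊥) (hl : dser S j ≤ stab l) {b w : G}
    (hb : b ∈ bb S P (j + m)) (hw : w ∈ P) (hn : ⁅w, b⁆ ∉ Kn Q (rad Q (kerG l)))
    (h0 : ch ρ S j (wt ρ C l) (m + 1) = ⊥) : False := by
  classical
  have hb' := bb_le hPS hSP _ hb
  have zD := sp.der _ hw _ hb'.1
  have sub : ∀ F ≤ P, St q Q C F := fun F hF => ⟨h.prime, h.ne, h.pg, h.le, h.der, h.cen,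
    h.two.to_le hF, hF.trans h.nQ, h.cF.trans (cent_anti hF)⟩
  have d2 : ∀ {A : Subgroup G}, ∀ g ∈ D, g * g ∈ A := fun g hg => by
    rw [sp.dsq g hg]; exact Subgroup.one_mem _
  have dc : ∀ {A : Subgroup G}, ∀ a ∈ D, ∀ b ∈ D, ⁅a, b⁆ ∈ A := fun a ha b hb => by
    rw [cm_one.2 (sp.cen a ha b (sp.le hb))]; exact Subgroup.one_mem _
  obtain ⟨D₀, hD, hz, x, hx, y, hy, sx, sy, hxy⟩ := (sub D sp.le).pair l d2 dc zD hn
  have cD : ∀ x ∈ Q, ∀ y ∈ Q, ⁅x, y⁆ ∈ C := fun x hx y hy =>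
    h.der (Subgroup.commutator_mem_commutator hx hy)
  have gen : ∀ Q' ≤ Q, x ∈ Q' → y ∈ Q' → D ⊓ Kn Q' (rad Q' (kerG l)) ≤ D₀ := by
    intro Q' hQ' h1 h2 g hg
    by_contra e
    have h3 := hg.2.2 x h1
    rw [commutatorElement_def, show ∀ u v : G, u * v * u⁻¹ * v⁻¹ = u * (v * u * v⁻¹)⁻¹ by
      intros; group, (sx g hg.1).2 e, inv_inv] at h3
    have h4 := ((mem_rad (hQ'.trans (norm_kerG_of_cent h.cen l))).1 h3).2 y h2
    rw [cm_mul_left, conj_eq_of_comm (h.cen (cD x hx y hy) x hx), ← pow_two] at h4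
    exact hxy (h.sq (h.le (cD x hx y hy)) h4)
  have p1 : ∀ g ∈ D, g ∉ D₀ → g * ⁅w, b⁆ ∈ D₀ := fun g hg e => by
    by_contra e'
    have h3 := (sx _ (D.mul_mem hg zD)).2 e'
    rw [show ∀ a c : G, a * c * x * (a * c)⁻¹ = a * (c * x * c⁻¹) * a⁻¹ by intros; group,
      (sx _ zD).2 hz, show g * x⁻¹ * g⁻¹ = (g * x * g⁻¹)⁻¹ by group, (sx g hg).2 e, inv_inv] at h3
    have : x = 1 := Subgroup.mem_bot.1 (h.sq hx (by rw [pow_two]; nth_rewrite 1 [h3]; simp))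
    exact hxy (by rw [this]; simp)
  have cx : ∀ x ∈ Q, Sg D D₀ x → x ∈ Q ⊓ 𝐂(D₀) := fun x hx sx => ⟨hx, fun b hb => by
    have := (sx b (hD hb)).1 hb
    rwa [mul_inv_eq_iff_eq_mul] at this⟩
  have hex : ∃ s, s = m + 1 ∨ dser S (j + s) ≤ 𝐍(D₀ ⊓ dser S (j + s)) := ⟨_, .inl rfl⟩
  have s1 : Nat.find hex ≤ m + 1 := Nat.find_min' hex (.inl rfl)
  have s2 := Nat.find_spec hex
  have s3 := fun i => Nat.find_min hex (m := i)
  generalize Nat.find hex = s at s1 s2 s3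
  set F := D₀ ⊓ dser S (j + s - 1) with hF
  have hFP : F ≤ P := inf_le_left.trans (hD.trans sp.le)
  have hQU : ∀ g ∈ Q, ∀ v ∈ wt ρ C l, ρ g v ∈ wt ρ C l := fun g hg v hv =>
    apply_mem_wt_of_stab (cent_le_stab l (le_cent_symm h.cen hg)) hv
  have hU : (au ρ F)^[s] (wt ρ C l) ≠ ⊥ := by
    rcases s with _ | s
    · exact hwt
    set A := D ⊓ dser S (j + s)
    set K := A ⊓ Kn Q (rad Q (kerG l))
    have hKF : K ≤ F := le_inf ((inf_le_inf_right _ inf_le_left).trans (gen Q le_rfl hx hy))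
      (inf_le_left.trans inf_le_right)
    have hFA : F ≤ A := inf_le_inf_right _ hD
    obtain ⟨T, t1, -, t3⟩ := (sub F hFP).fr (K := K) hwt le_rfl hQU (fun g hg => d2 g (hD hg.1))
      (fun a ha b hb => dc a (hD ha.1) b (hD hb.1)) (inf_le_inf_right _ hFA)
    obtain ⟨v, hv, h1⟩ := t1 (s + 1) K le_rfl (ln_of_card (F := F) (fun g hg => d2 g (hD hg.1))
      (Subgroup.commutator_le.2 fun a ha b hb => dc a (hD ha.1) b (hD hb.1)) _ _ le_rfl hKF (by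
        have nA : dser S j ≤ 𝐍(A) := (dser_le S j).trans (le_norm_inf hSD (dser_norm S _))
        have h3 := rank (N := dser S j) (A := A) (K := K) (hS.to_le (dser_le S j))
          (inf_le_right.trans (dser_anti S (by omega))) inf_le_left nA (le_norm_inf nA
            (Kn_norm ((dser_le S j).trans hSQ) (le_norm_rad ((dser_le S j).trans hSQ)
              (hl.trans (stab_le_norm_kerG l))))) (m := s) (.inl rfl) fun e =>
          s3 s (Nat.lt_succ_self s) (.inr (le_norm_of_comm_le_left (by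
            rw [← dser_add, add_comm s j] at e
            exact (Subgroup.commutator_mono hFA le_rfl).trans (e.trans hKF))))
        have h4 := card_two (A := A) (B := D₀) fun a ha c hc h5 h6 => by
          have := D₀.mul_mem (p1 a ha.1 h5) (D₀.inv_mem (p1 c hc.1 h6))
          rwa [mul_inv_rev, mul_assoc, mul_inv_cancel_left] at this
        rw [show A ⊓ D₀ = F from le_antisymm (le_inf inf_le_right (inf_le_left.trans inf_le_right))
          (le_inf hFA inf_le_left)] at h4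
        rw [pow_succ 2 (s + 1)] at h3
        nlinarith))
    exact fun e => t3 _ _ h1 (e.le hv)
  have hch : (au ρ F)^[s] (wt ρ C l) ≤ ch ρ S j (wt ρ C l) s :=
    it_le_ch _ s fun i hi => inf_le_right.trans (dser_anti S (by omega))
  rcases s1.eq_or_lt with rfl | s1
  · exact hU (le_bot_iff.1 (hch.trans h0.le))
  obtain ⟨κ, rfl⟩ : ∃ κ, m = s + κ := ⟨m - s, by omega⟩
  rw [add_assoc, ch_add] at h0
  have hCQ : C ≤ Q ⊓ 𝐂(D₀) := le_inf h.le (h.cF.trans (cent_anti (hD.trans sp.le)))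
  refine stageB (ρ := ρ) (j := j + s) (κ := κ) (Q := Q ⊓ 𝐂(D₀)) ⟨h.prime, h.ne,
    h.pg.to_le inf_le_left, hCQ, (der_mono inf_le_left).trans h.der,
    h.cen.trans (cent_anti inf_le_left), h.two, le_norm_inf_cent h.nQ (le_norm_of_le_cent
      fun p hp d hd => sp.cen d (hD hd) p hp), h.cF⟩ sp hS hPS hSP hU
    (it_le (fun g hg v hv => apply_mem_wt_of_stab (cent_le_stab l (le_cent_symm h.cF (hFP hg))) hv) s)
    (fun g hg => it_inv (cent_le_norm _ (cent_anti inf_le_left hg.2)) (hQU g hg.1) s) hD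
    (le_cent_symm inf_le_right) (add_assoc j s κ ▸ hb) hw hz p1
    (gen _ inf_le_left (cx x hx sx) (cx y hy sy)) (s2.resolve_left s1.ne)
    (le_bot_iff.1 ((ch_mono S _ hch _).trans h0.le))

theorem keyd {T P D S : Subgroup G} (hs : Group.IsSolvable G) (hO : pCore 2 G = ⊥)
    (hρ : ∀ g, ρ g = 1 → g = 1) (hP : Sp P D) (hPT : P ≤ T) (hTP : T ≤ 𝐍(P))
    (hirr : ∀ R ≤ P, T ≤ 𝐍(R) → R = P ∨ R ≤ D) (hD : D ≤ ⁅P, P⁆) (hS : IsPGroup 2 S) (hPS : P ≤ S)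
    (hST : S ≤ T) {d : ℕ} (h0 : ch ρ S 0 ⊤ (d + 1) = ⊥) : bb S P d ≤ D := by
  haveI : Fact (Nat.Prime 2) := ⟨Nat.prime_two⟩
  intro b hb
  by_contra hN
  have hP2 := hS.to_le hPS
  have hSP := hST.trans hTP
  have hb' := bb_le hPS hSP _ hb
  have hT : P ≠ ⊥ := fun e => hN (by rw [Subgroup.mem_bot.1 (e.le hb'.1)]; exact D.one_mem)
  obtain ⟨q, hq, hc⟩ : ∃ q : ℕ, q.Prime ∧ ¬ piCoreOf {q} (⊤ : Subgroup G) ≤ 𝐂(P) := by
    by_contra! hc
    have h1 := le_cent_symm (fittingOf_le_of_forall_piCoreOf fun q hq _ => hc q hq)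
    exact ne_of_piCoreOf_ne_bot Nat.prime_two hO (ne_bot_mono hT (le_piCoreOf_of_le_fittingOf
      ((le_inf le_top h1).trans (cent_fittingOf_le inferInstance)) (isPGroup_iff_pi.1 hP2))) rfl
  haveI := Fact.mk hq
  have hq2 : q ≠ 2 := ne_of_piCoreOf_ne_bot (G := ⊤) hq hO fun e => hc (e.le.trans bot_le)
  obtain ⟨Q, hQH, hmin⟩ := exists_minAct (T := T)
    (le_norm_piCoreOf_of _ Subgroup.le_normalizer_of_normal) hPT hTP
    (pi_coprime (piCoreOf_pi {q} ⊤) (pi_of_isPGroup hP2 (Ne.symm hq2)))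
    (solvable_of_isPGroup (piCoreOf_isPGroup ⊤)) hc
  have hQ : IsPGroup q Q := (piCoreOf_isPGroup ⊤).to_le hQH
  have hkQ : (Nat.card Q : k) ≠ 0 := cast_card_ne_zero hq hq2 hQ
  have hSQ := hST.trans hmin.norm
  have hTC : T ≤ 𝐍(P ⊓ 𝐂(Q)) := le_norm_inf_cent hTP hmin.norm
  have hCD : P ⊓ 𝐂(Q) ≤ D := (hirr _ inf_le_left hTC).resolve_left fun e =>
    hmin.nle (le_cent_symm (e.ge.trans inf_le_right))
  have hna : ¬ Q ≤ 𝐂(Q) := fun e => hN (hCD ⟨hb'.1, fun a ha => cm_one.1 (by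
    by_contra h1
    have h2 : ⁅a, b⁆ ∈ Q := comm_le_left hmin.normQ (Subgroup.commutator_mem_commutator ha hb'.1)
    obtain ⟨l, h4, h5⟩ := exists_wt_of_comm (ρ := ρ) hkQ e h2 fun h => h1 (hρ _ h)
    obtain ⟨j, m, rfl, h6, -⟩ := st0 hkQ hS hSQ h5 h0
    exact h4 ((mem_stab_iff (hmin.normQ hb'.1)).1
      (h6 (dser_anti S (Nat.le_add_right j m) hb'.2)) a ha))⟩)
  set E := Q ⊓ 𝐂(P) with hE
  have ez : Q ⊓ 𝐂(Q) ≤ E :=
    (hmin.eq_or_le inf_le_left (le_norm_inf_cent hmin.norm hmin.norm)).resolve_left fun e =>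
      hna (e.ge.trans inf_le_right)
  have e : St q Q E P := ⟨hq, hq2, hQ, inf_le_left, hmin.der_le, hmin.D_le_cent, hP2, hmin.normQ,
    inf_le_right⟩
  have hkE : (Nat.card E : k) ≠ 0 := cast_card_ne_zero_of_le inf_le_left hkQ
  have hEE : E ≤ 𝐂(E) := e.cen.trans (cent_anti e.le)
  have hl : ∀ z ∈ P, z ∉ 𝐂(Q) → ∃ l : E →* kˣ, wt ρ E l ≠ ⊥ ∧ z ∉ Kn Q (rad Q (kerG l)) := by
    intro z hz hzQ
    have hzP := Subgroup.zpowers_le.2 hz
    have h1 : ¬ ⁅Q, zpowers z⁆ ≤ 𝐂(Q) := fun h1 => hzQ (Subgroup.zpowers_le.1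
      (coprime_le_cent_of_comm_le_cent (hzP.trans hmin.normQ)
        (Core.coprime_of_le_right hmin.cop hzP) (((le_inf (comm_le_left (hzP.trans hmin.normQ))
          h1).trans ez).trans (inf_le_right.trans (cent_anti hzP)))))
    obtain ⟨g, hg, h2⟩ := SetLike.not_le_iff_exists.1 h1
    have hgQ := comm_le_left (hzP.trans hmin.normQ) hg
    obtain ⟨b, hb, h3⟩ : ∃ b ∈ Q, ⁅g, b⁆ ≠ 1 := by
      by_contra! h3
      exact h2 fun b hb => (cm_one.1 (h3 b hb)).symm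
    obtain ⟨l, h4, h5⟩ := exists_wt_of_comm (ρ := ρ) hkE hEE
      (e.der (Subgroup.commutator_mem_commutator hgQ hb)) fun h => h3 (hρ _ h)
    exact ⟨l, h5, fun h => h4 (((mem_rad (norm_kerG_of_cent e.cen l)).1 (le_cz h.1 h.2 hg)).2 b hb)⟩
  rcases hirr _ (rad_le P (P ⊓ 𝐂(Q))) (le_norm_rad hTP hTC) with h | h
  · have hDC : D ≤ 𝐂(Q) := (hD.trans ((le_rad_iff (hPT.trans hTC)).1 h.ge).2).trans inf_le_right
    obtain ⟨l, hwt, hn⟩ := hl _ hb'.1 fun h => hN (hCD ⟨hb'.1, h⟩)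
    obtain ⟨j, m, rfl, h6, h7⟩ := st0 hkE hS (hST.trans hmin.normD) hwt h0
    exact stageAb e hS hPS hSP hSQ hwt h6 (fun g hg => cent_le_Kn (rad_le _ _) (hDC (hP.sq g hg)))
      (fun a ha b hb => cent_le_Kn (rad_le _ _) (hDC (hP.der a ha b hb))) hb hn h7
  · obtain ⟨w, hw, h1⟩ : ∃ w ∈ P, ⁅w, b⁆ ∉ 𝐂(Q) := by
      by_contra! h1
      exact hN (h ((mem_rad (hPT.trans hTC)).2 ⟨hb'.1, fun w hw =>
        ⟨hP.le (hP.der _ hb'.1 _ hw), by rw [cm_swap]; exact Subgroup.inv_mem _ (h1 w hw)⟩⟩))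
    obtain ⟨l, hwt, hn⟩ := hl _ (hP.le (hP.der _ hw _ hb'.1)) h1
    obtain ⟨j, m, rfl, h6, h7⟩ := st0 hkE hS (hST.trans hmin.normD) hwt h0
    refine stageA e hP hS hPS hSP ?_ hSQ hwt h6 hb hw hn h7
    rw [le_antisymm hD (Subgroup.commutator_le.2 hP.der)]
    exact le_norm_comm hSP hSP

end Cfsg.Agent.PG.Dl
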