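import Mathlib
import Cfsg.Agent.PG.Dl5

/-! The bound on the `2`-length by the derived length. -/

set_option autoImplicit false
set_option linter.unusedVariables false

namespace Cfsg.Agent.PG.Dl

open Module Cfsg.Agent.BG Cfsg.Agent.BG.Amb Cfsg.Agent.H23.HH Cfsg.Agent.PG.Tu Cfsg.Agent.PG.HHS
  Cfsg.Agent.PG.Br
open scoped commutatorElement Pointwise
open Subgroup (zpowers)

universe u

theorem lin_ch {k X H W : Type*} [Field k] [Group X] [Group H] [AddCommGroup W] [Module k W]
    {ρ : Representation k H W} {f : X →* H} {V S : Subgroup X} {ι : X → W} (h : Lin ρ f V ι)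
    {n : ℕ} (h0 : bb S V n = ⊥) : ch ρ (S.map f) 0 ⊤ n = ⊥ := by
  haveI := h.norm
  have hV : ∀ i, bb S V i ≤ V := fun i => by
    induction i with
    | zero => exact le_rfl
    | succ i ih => exact (Subgroup.commutator_mono ih le_rfl).trans (Subgroup.commutator_le_left _ _)
  have key : ∀ i, ∀ T : Module.End k W, (∀ a ∈ bb S V i, T (ι a) = 0) →
      ch ρ (S.map f) 0 ⊤ i ≤ LinearMap.ker T := by
    intro i
    induction i with
    | zero => intro T hT v _; rw [h.span T hT]; rfl
    | succ i ih =>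
      intro T hT
      refine Submodule.span_le.2 ?_
      rintro _ ⟨s, hs, v, hv, rfl⟩
      rw [zero_add, ← map_dser] at hs
      obtain ⟨s, hs, rfl⟩ := hs
      have := ih (T * (ρ (f s) - 1)) (fun a ha => by
        rw [Module.End.mul_apply, ← h.comm s (hV i ha)]
        refine hT _ ?_
        rw [cm_swap]
        exact Subgroup.inv_mem _ (Subgroup.commutator_mem_commutator ha hs)) hv
      rw [LinearMap.mem_ker, Module.End.mul_apply, LinearMap.sub_apply, Module.End.one_apply] at this
      rw [SetLike.mem_coe, LinearMap.mem_ker, ← neg_sub, map_neg, this, neg_zero]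
  refine le_bot_iff.1 ((key n 1 fun a ha => ?_).trans (LinearMap.ker_id (R := k) (M := W)).le)
  rw [h0, Subgroup.mem_bot] at ha
  rw [ha, h.one, map_zero]

theorem claim (e : ℕ) : ∀ {G : Type u} [Group G] [Finite G] {m : ℕ}
    (ρ : Representation (AlgebraicClosure (ZMod 2)) G (Fin m → AlgebraicClosure (ZMod 2))),
    Group.IsSolvable G → pCore 2 G = ⊥ → (∀ g, ρ g = 1 → g = 1) →
    (∀ S : Subgroup G, IsPGroup 2 S → ch ρ S 0 ⊤ (e + 1) = ⊥) → PLengthLE 2 e G := by
  haveI : Fact (Nat.Prime 2) := ⟨Nat.prime_two⟩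
  induction e with
  | zero =>
    intro G _ _ m ρ hs hO hρ h0
    exact Core.pLengthLE_zero_iff.2 (PExp.coprime fun y hy => (pow_one _).trans
      (hρ _ (LinearMap.ext fun v => (sub_eq_zero.1 ((h0 _ hy).le
        (mem_au (Subgroup.mem_zpowers y) (Submodule.mem_top (x := v))))).symm)))
  | succ e ih =>
    intro G _ _ m ρ hs hO hρ h0
    rw [Core.pLengthLE_succ_iff]
    by_contra hn
    obtain ⟨K, hK, hK0, hKf⟩ := res hn
    obtain ⟨N, p, hN, hN0, hNK, hp, hel, -⟩ :=
      Core.exists_minimal_normal_elementary_le K inferInstance hK0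
    haveI := Fact.mk hp
    have hNp : IsPGroup p N := fun g => ⟨1, Subtype.ext (by simpa using hel.2 g g.2)⟩
    have hp2 : p ≠ 2 := by
      rintro rfl
      exact hN0 (le_bot_iff.1 ((Core.le_pCore hN hNp).trans (Core.pCore_quotient_pPrimePCore 2).le))
    obtain ⟨T₀, hT₀⟩ := Core.exists_isSylowOf 2 (pPrimePCore 2 G)
    obtain ⟨T, Y, hY, hYT, hTY, hTT, hYN, hT⟩ := setup (N := ⊥) hs hT₀ hNp
    set π := QuotientGroup.mk' (pPrimePCore 2 G) with hπ
    obtain ⟨P, hPT, hm⟩ := exists_minAct hTT hYT hTY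
      (IsPGroup.coprime_card_of_ne 2 p hp2.symm _ _ hT₀.isPGroup hY)
      (solvable_of_isPGroup hT₀.isPGroup) fun h => hN0 (by
        rw [← hYN, Subgroup.map_eq_bot_iff, hπ, QuotientGroup.ker_mk']
        exact (le_cent_symm h).trans
          (Core.IsPConstrained.centralizer_le (Core.isPConstrained_of_solvable 2 hs) hT₀))
    have hP : IsPGroup 2 P := hT₀.isPGroup.to_le hPT
    have hYs := solvable_of_isPGroup hY
    have sp := sp_of hm hYs hP
    set D := P ⊓ 𝐂(Y) with hD
    obtain ⟨L, hL⟩ : ∃ L : Subgroup G, L = T ⊔ P := ⟨_, rfl⟩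
    have hTL : T ≤ L := hL ▸ le_sup_left
    have hPL : P ≤ L := hL ▸ le_sup_right
    have hLP : L ≤ 𝐍(P) := hL ▸ sup_le hm.norm Subgroup.le_normalizer
    have hLD : L ≤ 𝐍(D) := hL ▸ sup_le hm.normD (le_norm_of_le_cent (le_cent_symm hm.D_le_cent))
    have hLT : L ≤ 𝐍(T₀) := hL ▸ sup_le hTT (hPT.trans Subgroup.le_normalizer)
    have hact : ∀ g ∈ L, π g = 1 → ⁅P, zpowers g⁆ ≤ D := fun g hg h =>
      core_act hT₀ hm hPT hTT ((QuotientGroup.eq_one_iff g).1 h) (hLT hg) (hLP hg)
    haveI := Subgroup.normal_subgroupOf_of_le_normalizer hLD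
    let f := QuotientGroup.mk' (D.subgroupOf L)
    have hf : ∀ g : L, f g = 1 ↔ (g : G) ∈ D := fun g => QuotientGroup.eq_one_iff g
    have hfs : Function.Surjective f := QuotientGroup.mk'_surjective _
    haveI := Subgroup.normal_subgroupOf_of_le_normalizer hLP
    haveI : (im f P).Normal := Subgroup.Normal.map inferInstance f hfs
    have hV : IsElementaryAbelian 2 (im f P) := by
      refine ⟨der_eq_bot_iff.1 ?_, ?_⟩
      · rw [← im_comm f hPL hPL, im_bot f hf ((der_le P).trans hPL)]
        exact hm.der_le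
      · rintro _ ⟨x, hx, rfl⟩
        rw [← map_pow, hf]
        exact mpow hm Nat.prime_two hP hx
    obtain ⟨n, σ, ι, hl⟩ := exists_lin hV (AlgebraicClosure (ZMod 2))
    let φ := (QuotientGroup.mk' 𝐂(im f P)).comp f
    have hφs : Function.Surjective φ := (QuotientGroup.mk'_surjective _).comp hfs
    have hφ : ∀ g : L, φ g = 1 ↔ ⁅P, zpowers (g : G)⁆ ≤ D := fun g => by
      have hz := Subgroup.zpowers_le.2 g.2
      rw [← im_bot f hf (comm_le_of_le hPL hz), im_comm f hPL hz, im_zp,
        ← le_cent_iff_comm_eq_bot', Subgroup.zpowers_le]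
      exact QuotientGroup.eq_one_iff _
    have h1 := ih (G := (L ⧸ D.subgroupOf L) ⧸ 𝐂(im f P))
      (QuotientGroup.lift _ σ fun g hg => hl.eq_one_iff.2 hg) inferInstance
      (core_bot (im_pg f hP) fun A hA hAn => by
        rw [← im_pre_inf f hA]
        rcases hm.eq_or_le (N := pre f A ⊓ P) inf_le_right (le_norm_inf
          (norm_pre f hTL Subgroup.le_normalizer_of_normal) hm.norm) with h | h
        · exact .inr (by rw [h])
        · exact .inl ((im_bot f hf (inf_le_right.trans hPL)).2 h))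
      (by
        rintro ⟨g⟩ hg
        exact (QuotientGroup.eq_one_iff g).2 (hl.eq_one_iff.1 hg))
      (fun S' hS' => by
        obtain ⟨S₀, hS₀, rfl⟩ := exists_lift_pGroup hφs hS'
        have hSL : P ⊔ S₀.map L.subtype ≤ L := sup_le hPL (Subgroup.map_subtype_le _)
        have hS : IsPGroup 2 ↥(P ⊔ S₀.map L.subtype) := IsPGroup.to_sup_of_normal_left' hP
          (hS₀.map _) ((Subgroup.map_subtype_le _).trans hLP)
        have h5 := keyd hs hO hρ sp hPL hLP (fun R hR hn => hm.eq_or_le hR (hTL.trans hn))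
          (d_le hm hYs) hS le_sup_left hSL (h0 _ hS)
        generalize hS1 : P ⊔ S₀.map L.subtype = S at hSL hS h5
        have hPS : P ≤ S := hS1 ▸ le_sup_left
        have k1 : ∀ i, dser (S₀.map f) i ≤ im f (dser S i) := fun i => by
          induction i with
          | zero =>
            rintro _ ⟨g, hg, rfl⟩
            exact mem_im f (hS1.le (Subgroup.mem_sup_right ⟨g, hg, rfl⟩))
          | succ i ih =>
            rw [dser_succ, dser_succ, im_comm f ((dser_le _ _).trans hSL) ((dser_le _ _).trans hSL)]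
            exact Subgroup.commutator_mono ih ih
        have k2 : ∀ i, bb (S₀.map f) (im f P) i ≤ im f (bb S P i) := fun i => by
          induction i with
          | zero => exact le_rfl
          | succ i ih =>
            change ⁅_, _⁆ ≤ im f ⁅bb S P i, dser S i⁆
            rw [im_comm f (((bb_le hPS (hSL.trans hLP) i).trans inf_le_left).trans hPL)
              ((dser_le _ _).trans hSL)]
            exact Subgroup.commutator_mono ih (k1 i)
        rw [← Subgroup.map_map]
        exact lin_ch (f := QuotientGroup.mk' _) ⟨hl.norm, hl.add, hl.inj, hl.span, hl.conj⟩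
          (le_bot_iff.1 ((k2 _).trans ((im_bot f hf (h5.trans (inf_le_left.trans hPL))).2 h5).le)))
    have hsur : Function.Surjective (π.comp L.subtype) := by
      rw [← MonoidHom.range_eq_top, MonoidHom.range_comp, Subgroup.range_subtype, eq_top_iff, ← hT]
      exact Subgroup.map_mono hTL
    have h6 := hKf _ ((π.comp L.subtype).liftOfSurjective hsur
      ⟨φ, fun g hg => (hφ g).2 (hact _ g.2 hg)⟩) h1
    refine hm.D_lt.not_ge (hm.comm_eq.ge.trans (Subgroup.commutator_le.2 fun a ha y hy => ?_))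
    have h7 := h6 (hNK (hYN.le ⟨y, hy, rfl⟩))
    rw [MonoidHom.mem_ker, show π y = π.comp L.subtype ⟨y, hTL (hYT hy)⟩ from rfl,
      MonoidHom.liftOfRightInverse_comp_apply] at h7
    exact (hφ _).1 h7 (Subgroup.commutator_mem_commutator ha (Subgroup.mem_zpowers y))

theorem main {G : Type u} [Group G] [Finite G] (hs : Group.IsSolvable G) {e : ℕ}
    (he : PDer 2 e G) : PLengthLE 2 e G := by
  haveI : Fact (Nat.Prime 2) := ⟨Nat.prime_two⟩
  rcases e with _ | e
  · exact Core.pLengthLE_zero_iff.2 (PExp.coprime fun y hy => (pow_one _).trans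
      (Subgroup.zpowers_eq_bot.1 (he _ hy)))
  obtain ⟨G', _, _, π, hπ, hr, hc⟩ := exists_red (p := 2) (Core.isPSolvable_of_solvable 2 hs)
  have he' := he.of_surj hπ
  haveI : Group.IsSolvable G' := solvable_of_surjective hπ
  obtain ⟨n, ρ, ι, hl, hf⟩ := hr.exists_lin
  refine plength_succ_of_red hπ hc (claim e ρ inferInstance (Core.pCore_quotient_pCore 2) hf
    fun S hS => ?_)
  rw [← Subgroup.map_comap_eq_self_of_surjective (QuotientGroup.mk'_surjective _) S]
  refine lin_ch hl (le_bot_iff.1 (((bb_le (fun g hg => ?_) Subgroup.le_normalizer_of_normal _).trans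
    inf_le_right).trans (he' _ (hS.comap_of_ker_isPGroup _ ?_)).le))
  · rw [Subgroup.mem_comap, show QuotientGroup.mk' _ g = 1 from (QuotientGroup.eq_one_iff g).2 hg]
    exact S.one_mem
  · rw [QuotientGroup.ker_mk']; exact Core.pCore_isPGroup 2

end Cfsg.Agent.PG.Dl
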