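import Mathlib
import Cfsg.Agent.PG.Tu7

/-! Towers, the descent and Turull's bound on the Fitting height. -/

set_option autoImplicit false
set_option linter.unusedVariables false

namespace Cfsg.Agent.PG.Tu

open Cfsg.Agent.BG Cfsg.Agent.BG.Amb Subgroup Cfsg.Agent.PG.HHS Cfsg.Agent.H23.HH
open scoped Pointwise commutatorElement

universe w

/-- Towers above an `s`-group `Y`. -/
def Tw {X : Type*} [Group X] (R : Subgroup X) : ℕ → Subgroup X → Subgroup X → ℕ → Prop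
  | 0, _, _, _ => True
  | n + 1, G, Y, s => ∃ (G' S : Subgroup X) (u : ℕ), G' ≤ G ∧ S ≤ G' ∧ G' ≤ 𝐍(S) ∧ R ≤ 𝐍(S) ∧ R ≤ 𝐍(G') ∧
      u.Prime ∧ IsPGroup u S ∧ u ≠ s ∧ ⁅Y, S⁆ = Y ∧ Tw R n G' S u

section Lift

variable {X X' : Type*} [Group X] [Group X'] {L : Subgroup X} (f : L →* X')

theorem Tw.im {R : Subgroup X} (n : ℕ) : ∀ {G Y : Subgroup X} {s : ℕ}, G ≤ L → Y ≤ L → Tw R n G Y s →
    Tw (im f R) n (im f G) (im f Y) s := by
  induction n with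
  | zero => exact fun _ _ _ => trivial
  | succ n ih =>
    rintro G Y s hG hY ⟨G', S, u, h1, h2, h3, h4, h5, h6, h7, h8, h9, h10⟩
    have a1 := h1.trans hG
    exact ⟨Tu.im f G', Tu.im f S, u, im_mono f h1, im_mono f h2, im_norm f h3, im_norm f h4, im_norm f h5, h6,
      im_pg f h7, h8, by rw [← im_comm f hY (h2.trans a1), h9], ih a1 (h2.trans a1) h10⟩

variable [Finite X] [Finite X'] {G R Y V : Subgroup X} {s p n : ℕ}

/-- The reduction data. -/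
structure Rx (G R Y V : Subgroup X) (s p : ℕ) {L : Subgroup X} (f : L →* X') : Prop where
  h : Cx G R Y V s p
  m : MinAct V (G ⊔ R) Y
  Gl : G ≤ L
  RL : R ≤ L
  VL : V ≤ L
  hf : ∀ g : L, f g = 1 ↔ (g : X) ∈ (Y ⊓ 𝐂(V)) ⊔ (V ⊓ 𝐂(Y))

namespace Rx

variable {f} (r : Rx G R Y V s p f)
include r

omit [Finite X'] in
theorem YL : Y ≤ L := r.h.YG.trans r.Gl

omit [Finite X'] in
theorem dec {g : X} (hg : g ∈ (Y ⊓ 𝐂(V)) ⊔ (V ⊓ 𝐂(Y))) : ∃ a ∈ Y ⊓ 𝐂(V), ∃ d ∈ V ⊓ 𝐂(Y), g = a * d :=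
  (Core.mem_sup_of_le_normalizer (le_norm_of_le_cent (inf_le_right.trans (cent_anti inf_le_left)))).1 hg

omit [Finite X'] in
theorem NV : (Y ⊓ 𝐂(V)) ⊔ (V ⊓ 𝐂(Y)) ≤ 𝐂(V) := sup_le inf_le_right r.m.D_le_cent

omit [Finite X'] in
theorem lc {A U : Subgroup X} (hA : A ≤ Y) (hU : U ≤ V) (hn : A ≤ 𝐍(U)) (e : im f A ≤ 𝐂(im f U)) :
    A ≤ 𝐂(U) := by
  refine coprime_le_cent_of_comm_le_cent hn
    (Core.coprime_of_le_right (Core.coprime_of_le_left r.m.cop hU) hA) fun g hg => ?_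
  have a1 := (comm_le_left hn).trans hU
  obtain ⟨a, ha, d, hd, rfl⟩ := r.dec ((im_bot f r.hf (a1.trans r.VL)).1 (by
    rw [im_comm f (hU.trans r.VL) (hA.trans r.YL)]; exact le_cent_iff_comm_eq_bot'.1 e) hg)
  have a2 : a ∈ V ⊓ Y := ⟨(V.mul_mem_cancel_right hd.1).1 (a1 hg), ha.1⟩
  rw [(disjoint_iff.1 (disjoint_of_coprime_natCard r.m.cop) :), mem_bot] at a2
  rw [a2, one_mul]
  exact cent_anti hA hd.2

omit [Finite X'] in
theorem ly {A : Subgroup X} {x : X'} (h1 : x ∈ im f A) (h2 : x ∈ im f Y) :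
    ∃ y : L, (y : X) ∈ A ∧ (y : X) ∈ Y ∧ f y = x := by
  obtain ⟨g, hg, rfl⟩ := h1
  obtain ⟨y, hy, e⟩ := h2
  obtain ⟨a, ha, d, hd, e1⟩ := r.dec ((r.hf (y⁻¹ * g)).1 (by rw [map_mul, map_inv, e, inv_mul_cancel]))
  have a1 : (y : X) * a ∈ Y := mul_mem hy ha.1
  have a2 : (g : X) = y * a * d := by rw [mul_assoc, ← e1]; simp
  have a3 : (y : X) * a ∈ zpowers (g : X) := a2 ▸ mem_zpowers_mul_of_coprime (mem_cent.1 hd.2 _ a1)
    ((r.m.cop.coprime_dvd_left (V.orderOf_dvd_natCard hd.1)).symm.coprime_dvd_left (Y.orderOf_dvd_natCard a1))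
  refine ⟨y * ⟨a, r.YL ha.1⟩, zpowers_le.2 (show (g : X) ∈ A from hg) a3, a1, ?_⟩
  rw [map_mul, (r.hf ⟨a, r.YL ha.1⟩).2 (mem_sup_left ha), mul_one, e]

theorem dn (n : ℕ) : Dn (im f G) (im f R) n = im f (Dn G R n) := by
  rw [Dn, Dn, im_inf_cent f r.Gl r.RL r.h.RG r.h.cop (sol_prime r.h.hR), im_nres f (inf_le_left.trans r.Gl)]

omit [Finite X'] in
theorem cR : Nat.card (im f R) = Nat.card R :=
  im_card_R f r.hf r.RL (Nat.Coprime.coprime_dvd_left (Core.card_sup_dvd (le_norm_of_le_cent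
    (inf_le_right.trans (cent_anti inf_le_left)))) (Nat.Coprime.mul_left
    (Core.coprime_of_le_left r.h.cop (inf_le_left.trans r.h.YG)) (Core.coprime_of_le_left r.h.cV inf_le_left)))

theorem cr : Cr (im f G) (im f R) (im f Y) (im f V) s p := by
  have h := r.h
  refine ⟨⟨r.cR ▸ h.hR, r.cR ▸ h.cop.coprime_dvd_left (im_card f r.Gl), im_norm f h.RG, im_mono f h.YG,
    im_norm f h.GY, im_norm f h.RY, h.hs, im_pg f h.Ys, h.hp, im_pg f h.Vp, h.sp,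
    r.cR ▸ h.cV.coprime_dvd_left (im_card f r.VL), im_norm f h.GV, im_norm f h.RV⟩, ⟨comm_of_le_cent
    (le_cent_iff_comm_eq_bot.2 ?_), ?_⟩, le_bot_iff.1 ?_⟩
  · rw [← im_comm f r.VL r.VL, im_bot f r.hf ((der_le V).trans r.VL)]
    exact r.m.der_le.trans le_sup_right
  · rintro _ ⟨g, hg, rfl⟩
    rw [← map_pow, r.hf]
    exact mem_sup_right (mpow r.m h.hp h.Vp hg)
  · rintro _ ⟨⟨g, hg, rfl⟩, e⟩
    replace hg : (g : X) ∈ Y := hg
    exact (r.hf g).2 (mem_sup_left ⟨hg, zpowers_le.1 (r.lc (zpowers_le.2 hg) le_rfl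
      ((zpowers_le.2 hg).trans r.m.normQ) (by rw [im_zp]; exact zpowers_le.2 e))⟩)

theorem bd {B' U' : Subgroup X'} (b : Bd (im f R) (im f Y) (im f V) B' U') : ∃ B U : Subgroup X,
    Bd R Y V B U ∧ im f B = B' ∧ im f U = U' ∧ ∀ x : L, (x : X) ∈ G ⊓ 𝐂(R) → f x ∈ 𝐍(B') → f x ∈ 𝐍(U') →
      (x : X) ∈ 𝐍(B) ∧ (x : X) ∈ 𝐍(U) := by
  have h := r.h
  have := Fact.mk h.hs
  have a1 : R ≤ 𝐍(pre f B' ⊓ Y) := le_norm_inf (norm_pre f r.RL b.RB) h.RY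
  have a2 : ⁅pre f B' ⊓ Y, R⁆ ≤ Y := (comm_le_left a1).trans inf_le_right
  have a3 : im f ⁅pre f B' ⊓ Y, R⁆ = B' := by
    rw [im_comm f (inf_le_right.trans r.YL) r.RL, im_pre_inf f b.BY, b.BR]
  have a4 := norm_comm_R a1
  have a5 := coprime_comm_comm a1 (Core.coprime_of_le_left h.cop (inf_le_right.trans h.YG))
    (Or.inl (sol_prime h.hR))
  have a6 : ∀ x : L, (x : X) ∈ G ⊓ 𝐂(R) → f x ∈ 𝐍(B') → zpowers (x : X) ≤ 𝐍(⁅pre f B' ⊓ Y, R⁆) :=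
    fun x hx e => le_norm_comm (le_norm_inf (norm_pre f (zpowers_le.2 x.2) (by
      rw [im_zp]; exact zpowers_le.2 e)) (zpowers_le.2 (h.GY hx.1))) (le_norm_of_le_cent (zpowers_le.2 hx.2))
  generalize ⁅pre f B' ⊓ Y, R⁆ = B at a2 a3 a4 a5 a6
  have b1 : B ≤ 𝐍(pre f U' ⊓ V) := le_norm_inf (norm_pre f (a2.trans r.YL)
    (a3.le.trans (le_norm_of_comm_le_left b.UB.le))) (a2.trans r.m.normQ)
  have b2 : ⁅pre f U' ⊓ V, B⁆ ≤ V := (comm_le_left b1).trans inf_le_right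
  have b3 : im f ⁅pre f U' ⊓ V, B⁆ = U' := by
    rw [im_comm f (inf_le_right.trans r.VL) (a2.trans r.YL), im_pre_inf f b.UV, a3, b.UB]
  have b4 : ⁅⁅B, B⁆, R⁆ ≤ B := (comm_le_left (le_norm_comm a4 a4)).trans (der_le B)
  refine ⟨B, ⁅pre f U' ⊓ V, B⁆, ⟨a2, a4, a5, b2, le_norm_comm (le_norm_inf (norm_pre f r.RL b.RU) h.RV) a4,
    coprime_comm_comm b1 (Core.coprime_of_le_right (Core.coprime_of_le_left r.m.cop inf_le_right) a2)
      (Or.inl (solvable_of_isPGroup (h.Ys.to_le a2))), r.lc (b4.trans a2) b2 (b4.trans (norm_comm_R b1)) ?_⟩,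
    a3, b3, fun x hx e1 e2 => ⟨zpowers_le.1 (a6 x hx e1), zpowers_le.1 (le_norm_comm (le_norm_inf
      (norm_pre f (zpowers_le.2 x.2) (by rw [im_zp]; exact zpowers_le.2 e2)) (zpowers_le.2 (h.GV hx.1)))
      (a6 x hx e1))⟩⟩
  rw [im_comm f ((der_le B).trans (a2.trans r.YL)) r.RL, im_comm f (a2.trans r.YL) (a2.trans r.YL), a3, b3]
  exact b.b3

theorem lift (hs : St n s (im f G) (im f R) (im f Y) (im f V)) : St n s G R Y V := by
  have h := r.h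
  have lc : ∀ U ≤ V, R ≤ 𝐍(U) → ∀ c' ∈ im f U ⊓ 𝐂(im f R), ∃ c : L, (c : X) ∈ U ⊓ 𝐂(R) ∧ f c = c' :=
    fun U hU hR c' hc => by
      rw [im_inf_cent f (hU.trans r.VL) r.RL hR (Core.coprime_of_le_left h.cV hU) (sol_prime h.hR)] at hc
      exact hc
  have nc : ∀ (A : Subgroup X) (g : L), (g : X) ∈ 𝐂(A) → f g ∈ 𝐂(im f A) := fun A g e =>
    zpowers_le.1 (im_zp f g ▸ im_cent f (zpowers_le.2 e))
  rcases hs with e | ⟨x', B', U', c', hx, b', xB, xU, h3, hc, h4⟩ | ⟨e, B', U', c', b', hc, h4⟩ | e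
  · refine Or.inl fun e1 => e fun x hx => ?_
    rw [r.dn] at hx
    obtain ⟨y, y1, y2, rfl⟩ := r.ly hx.2 hx.1
    exact nc V y (e1 ⟨y2, y1⟩)
  · obtain ⟨B, U, b, rfl, rfl, hn⟩ := r.bd b'
    obtain ⟨c, hc', rfl⟩ := lc U b.UV b.RU c' hc
    obtain ⟨x, hx', rfl⟩ : ∃ x : L, ((x : X) ∈ Dn G R (n - 1) ∨ ((x : X) ∈ Dn G R (n - 2) ∧ (x : X) ∈ Y)) ∧
        f x = x' := by
      rw [r.dn, r.dn] at hx
      rcases hx with ⟨x, hx, rfl⟩ | hx
      · exact ⟨x, Or.inl hx, rfl⟩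
      · obtain ⟨y, y1, y2, rfl⟩ := r.ly hx.1 hx.2
        exact ⟨y, Or.inr ⟨y1, y2⟩, rfl⟩
    obtain ⟨n1, n2⟩ := hn x (hx'.elim (fun e => Dn_le _ _ _ e) fun e => Dn_le _ _ _ e.1) xB xU
    have a1 := comm_le_left (zpowers_le.2 n1)
    have BL := b.BY.trans r.YL
    rw [← im_zp, ← im_comm f BL (zpowers_le.2 x.2)] at h3
    refine Or.inr (Or.inl ⟨x, B, U, c, hx', b, n1, n2, h3.imp (r.lc (a1.trans b.BY) b.UV
      (a1.trans (le_norm_of_comm_le_left b.UB.le))) fun e g hg => ?_, hc', fun e => h4 ?_⟩)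
    · have a2 : im f B ⊓ 𝐂(im f V) ≤ ⊥ := r.cr.fa ▸ inf_le_inf_right _ b'.BY
      obtain ⟨v, hv, e1⟩ := (e.trans (sup_le le_rfl (a2.trans bot_le))) (mem_im f (g := ⟨g, BL hg⟩) hg)
      replace hv : (v : X) ∈ ⁅B, zpowers (x : X)⁆ := hv
      rw [show g = v * ((v : X)⁻¹ * g) by group]
      exact mul_mem_sup hv ⟨B.mul_mem (B.inv_mem (a1 hv)) hg, r.NV ((r.hf (v⁻¹ * ⟨g, BL hg⟩)).1 (by
        rw [map_mul, map_inv, e1, inv_mul_cancel]))⟩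
    · rw [← map_commutatorElement]
      exact nc Y ⁅c, x⁆ e
  · obtain ⟨B, U, b, rfl, rfl, -⟩ := r.bd b'
    obtain ⟨c, hc', rfl⟩ := lc U b.UV b.RU c' hc
    exact Or.inr (Or.inr (Or.inl ⟨e, B, U, c, b, hc', fun e => h4 (nc Y c e)⟩))
  · refine Or.inr (Or.inr (Or.inr ⟨e.1, e.2.1, fun e1 => e.2.2 ?_⟩))
    rw [← im_comm f r.YL r.RL]
    exact im_cent f e1

end Rx

end Lift

theorem claim (n : ℕ) : ∀ {X : Type w} [Group X] [Finite X] {G R Y V : Subgroup X} {s p : ℕ},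
    Cx G R Y V s p → Tw R n G Y s → MinAct V (G ⊔ R) Y → St n s G R Y V := by
  suffices H : ∀ n : ℕ, (∀ {X : Type w} [Group X] [Finite X] {G R Y V : Subgroup X} {s p : ℕ},
      Cr G R Y V s p → Tw R n G Y s → Y ≠ ⊥ → St n s G R Y V) →
      ∀ {X : Type w} [Group X] [Finite X] {G R Y V : Subgroup X} {s p : ℕ},
      Cx G R Y V s p → Tw R n G Y s → MinAct V (G ⊔ R) Y → St n s G R Y V by
    induction n with
    | zero => exact H 0 fun h _ hY => h.base hY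
    | succ n ih =>
      refine @H (n + 1) ?_
      rintro X _ _ G R Y V s p h ⟨G', S, u, h1, h2, h3, h4, h5, h6, h7, h8, h9, h10⟩ hY
      have := Fact.mk h.hs
      obtain ⟨Q, hQ, m⟩ := exists_minAct (Q₀ := Y) (T := G' ⊔ R) (Y := S) (sup_le (h1.trans h.GY) h.RY)
        (h2.trans le_sup_left) (sup_le h3 h4) (pcop h.hs h6 h8.symm h.Ys h7) (solvable_of_isPGroup h.Ys)
        fun e => hY (h9.symm.trans (le_cent_iff_comm_eq_bot.1 e))
      have c : Cx G' R S Q u s := ⟨h.hR, Core.coprime_of_le_left h.cop h1, h5, h2, h3, h4, h6, h7, h.hs,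
        h.Ys.to_le hQ, h8, Core.coprime_of_le_left h.cop (hQ.trans h.YG), le_sup_left.trans m.norm,
        le_sup_right.trans m.norm⟩
      exact Sp.step ⟨h, c, h1, hQ, m⟩ (ih c h10 m)
  intro n H X _ _ G R Y V s p h t m
  obtain ⟨_, f, hf⟩ := exists_sec (L := (G ⊔ R) ⊔ V) (N := (Y ⊓ 𝐂(V)) ⊔ (V ⊓ 𝐂(Y))) (le_norm_sup
    (sup_le (le_norm_inf_cent m.normY m.norm) (le_norm_of_le_cent (le_cent_symm inf_le_right)))
    (sup_le m.normD (le_norm_of_le_cent (le_cent_symm m.D_le_cent))))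
  have r : Rx G R Y V s p f := ⟨h, m, le_sup_left.trans le_sup_left, le_sup_right.trans le_sup_left,
    le_sup_right, hf⟩
  exact r.lift (H r.cr (t.im f n r.Gl r.YL) fun e => m.nle (le_cent_symm (((im_bot f hf r.YL).1 e).trans r.NV)))

end Cfsg.Agent.PG.Tu
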