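import Mathlib
import Cfsg.Agent.PG.Tu8

/-! Existence of towers and Turull's bound on the Fitting height. -/

set_option autoImplicit false
set_option linter.unusedVariables false

namespace Cfsg.Agent.PG.Tu

open Cfsg.Agent.BG Cfsg.Agent.BG.Amb Subgroup Cfsg.Agent.PG.HHS Cfsg.Agent.H23.HH
open scoped Pointwise commutatorElement

variable {X : Type*} [Group X] [Finite X] {R : Subgroup X}

theorem syl (hR : (Nat.card R).Prime) {H M : Subgroup X} (hH : R ≤ 𝐍(H))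
    (hc : (Nat.card H).Coprime (Nat.card R)) (h : ¬ H ≤ M) :
    ∃ (s : ℕ) (P : Subgroup X), s.Prime ∧ Core.IsSylowOf s P H ∧ R ≤ 𝐍(P) ∧ ¬ P ≤ M := by
  by_contra e
  refine h (Core.le_of_forall_isSylowOf_le H M fun s hs _ => ?_)
  have := Fact.mk hs
  obtain ⟨P, h1, h2⟩ := Core.exists_invariant_isSylowOf R H hH hc.symm (Or.inl (sol_prime hR)) s
  exact ⟨P, h1, by_contra fun h3 => e ⟨s, P, hs, h1, h2, h3⟩⟩

theorem norm_Sk {T H M : Subgroup X} (hH : T ≤ 𝐍(H)) (hM : T ≤ 𝐍(M)) : T ≤ 𝐍(Sk H M) :=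
  le_norm_of_conj_mem fun t ht g hg => ⟨mul_mem (mul_mem (hH ht) hg.1) (inv_mem (hH ht)), fun a ha => by
    rw [show ⁅t * g * t⁻¹, a⁆ = t * ⁅g, t⁻¹ * a * t⁆ * t⁻¹ by simp only [commutatorElement_def]; group]
    exact conj_mem_of_le_norm hM ht (hg.2 _ (inv_conj_mem_of_le_norm hH ht ha))⟩

theorem te (hR : (Nat.card R).Prime) (m : ℕ) : ∀ {G M : Subgroup X}, R ≤ 𝐍(G) → Group.IsSolvable G →
    (Nat.card G).Coprime (Nat.card R) → G ≤ 𝐍(M) → R ≤ 𝐍(M) → ¬ nres^[m] G ≤ M →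
    ∃ (G₁ Y : Subgroup X) (s : ℕ), G₁ ≤ G ∧ Y ≤ G₁ ∧ Y ≤ nres^[m] G ∧ G₁ ≤ 𝐍(Y) ∧ R ≤ 𝐍(Y) ∧ R ≤ 𝐍(G₁) ∧
      s.Prime ∧ IsPGroup s Y ∧ Tw R m G₁ Y s ∧ ¬ Y ≤ M := by
  induction m with
  | zero =>
    intro G M h1 h2 h3 h4 h5 h6
    obtain ⟨s, P, hs, hP, a1, a2⟩ := syl hR h1 h3 h6
    exact ⟨P, P, s, hP.le, le_rfl, hP.le, le_normalizer, a1, a1, hs, hP.isPGroup, trivial, a2⟩
  | succ m ih =>
    intro G M h1 h2 h3 h4 h5 h6
    rw [Function.iterate_succ_apply'] at h6 ⊢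
    have TG : G ⊔ R ≤ 𝐍(G) := sup_le le_normalizer h1
    have TK : G ⊔ R ≤ 𝐍(nres^[m] G) := le_norm_nres_iter TG m
    have TH := le_norm_nres TK
    have KG := nres_iter_le G m
    have HK := nres_le (nres^[m] G)
    have HC := nres_comm (nres^[m] G)
    have GT : G ≤ G ⊔ R := le_sup_left
    have KT := KG.trans GT
    have HT := HK.trans KT
    obtain ⟨i, g, hg⟩ := exists_sec TH
    have gK : Group.IsNilpotent (im g (nres^[m] G)) := nres_eq_bot_iff.1
      ((im_nres g KT 1).symm.trans ((im_bot g hg HT).2 le_rfl))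
    have gK' : ∀ A ≤ G, im g A = im g G → im g (nres^[m] A) = im g (nres^[m] G) := fun A hA e => by
      rw [im_nres g (hA.trans GT), im_nres g GT, e]
    have mono := fun A (hA : A ≤ G) => nres_iter_mono hA m
    generalize nres (nres^[m] G) = H at h6 TH HK HC HT i g hg gK gK' ⊢
    generalize hK : nres^[m] G = K at TK KG HK HC KT gK gK' mono
    obtain ⟨M', ⟨m1, m2, m3⟩, hm⟩ := exists_maximal_of_wellFoundedGT
      (fun N : Subgroup X => M ⊓ H ≤ N ∧ N < H ∧ G ⊔ R ≤ 𝐍(N)) ⟨M ⊓ H, le_rfl,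
      lt_of_le_of_ne inf_le_right fun e => h6 (e.ge.trans inf_le_left), le_norm_inf (sup_le h4 h5) TH⟩
    obtain ⟨_, f, hf⟩ := exists_sec m3
    have fH : im f H ≠ ⊥ := fun e => m2.not_ge ((im_bot f hf HT).1 e)
    have hm' : ∀ N ≤ H, G ⊔ R ≤ 𝐍(N ⊔ M') → N ≤ M' ∨ (N ⊔ M' = H ∧ im f N = im f H) := fun N hN nN => by
      by_cases e : N ⊔ M' = H
      · refine Or.inr ⟨e, ?_⟩
        rw [← e, im_sup f (hN.trans HT) (m2.le.trans HT), (im_bot f hf (m2.le.trans HT)).2 le_rfl, sup_bot_eq]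
      · exact Or.inl (le_sup_left.trans (hm ⟨m1.trans le_sup_right,
          lt_of_le_of_ne (sup_le hN m2.le) e, nN⟩ le_sup_right))
    have a1 : ⁅H, H⁆ ≤ M' := (hm' _ (der_le H) (le_norm_sup (le_norm_comm TH TH) m3)).resolve_right fun e => by
      rw [im_comm f HT HT] at e
      exact (der_lt (Core.solvable_map (Core.solvable_subgroupOf (solvable_mono h2 (HK.trans KG))) f) fH).ne e.2
    obtain ⟨s, P, hs, hP, a2, a3⟩ := syl hR (le_sup_right.trans TH) (Core.coprime_of_le_left h3 (HK.trans KG))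
      m2.not_ge
    have := Fact.mk hs
    have a4 := hP.frattini (HK.trans KG) (GT.trans TH)
    obtain ⟨a5, a6⟩ := (hm' P hP.le (sup_le (a4.ge.trans (sup_le (le_norm_of_comm_le_left
      (((commutator_mono (sup_le hP.le m2.le) le_rfl).trans a1).trans le_sup_right)) (le_norm_sup inf_le_right
      ((inf_le_left.trans GT).trans m3)))) (le_norm_sup a2 (le_sup_right.trans m3)))).resolve_left a3
    have b1 := norm_Sk TH m3
    have b2 : ∀ A, A ≤ 𝐍(H) → ⁅H, A⁆ ≤ M' → A ≤ Sk H M' := fun A hA e x hx => ⟨hA hx, fun a ha => by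
      rw [cm_swap]; exact inv_mem (e (commutator_mem_commutator ha hx))⟩
    obtain ⟨G₁, S, u, c1, c2, c3, c4, c5, c6, c7, c8, c9, c10⟩ := ih (G := G ⊓ 𝐍(P)) (M := Sk H M')
      (le_norm_inf h1 (a2.trans le_normalizer)) (solvable_mono h2 inf_le_left)
      (Core.coprime_of_le_left h3 inf_le_left) ((inf_le_left.trans GT).trans b1) (le_sup_right.trans b1)
      fun e => m2.not_ge (HC.ge.trans (commutator_le.2 fun a ha k hk => by
        obtain ⟨y, hy, e1⟩ := (gK' (G ⊓ 𝐍(P)) inf_le_left (by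
          have b4 := im_sup g HT (inf_le_left.trans GT : G ⊓ 𝐍(P) ≤ _)
          rw [a4, (im_bot g hg HT).2 le_rfl, bot_sup_eq] at b4
          exact b4.symm)).ge
          (mem_im g (g := ⟨k, KT hk⟩) hk)
        have b3 : k ∈ Sk H M' := by
          rw [show k = y * ((y : X)⁻¹ * k) by group]
          exact mul_mem (e hy) (b2 H le_normalizer a1 ((hg (y⁻¹ * ⟨k, KT hk⟩)).1 (by
            rw [map_mul, map_inv, e1, inv_mul_cancel])))
        rw [cm_swap]
        exact inv_mem (b3.2 a ha)))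
    have SK := c3.trans (mono _ inf_le_left)
    have us : u ≠ s := by
      rintro rfl
      have d1 : S ≤ pre g (piCoreOf {u} (im g K)) ⊓ K := le_inf ((le_pre g (SK.trans KT)).2
        (nil_le_piCoreOf gK (im_mono g SK) (isPGroup_iff_pi.1 (im_pg g c8)))) SK
      have d2 : G ⊔ R ≤ 𝐍(pre g (piCoreOf {u} (im g K)) ⊓ K) :=
        le_norm_inf (norm_pre g le_rfl (le_norm_piCoreOf_of _ (im_norm g TK))) TK
      have d3 : H ≤ pre g (piCoreOf {u} (im g K)) ⊓ K := le_inf ((le_pre g HT).2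
        (((im_bot g hg HT).2 le_rfl).le.trans bot_le)) HK
      have d4 : IsPGroup u (im f (pre g (piCoreOf {u} (im g K)) ⊓ K)) := by
        rintro ⟨_, x, hx, rfl⟩
        obtain ⟨a, e1⟩ := piCoreOf_isPGroup (p := u) (im g K) ⟨g x, (mem_pre g).1 hx.1⟩
        have e2 : ((x ^ u ^ a : (G ⊔ R : Subgroup X)) : X) ∈ H := (hg _).1 (by
          rw [map_pow]; exact congrArg Subtype.val e1)
        obtain ⟨b, e3⟩ := im_pg f hP.isPGroup ⟨_, a6.ge (mem_im f e2)⟩
        refine ⟨a + b, Subtype.ext ?_⟩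
        have e4 := congrArg Subtype.val e3
        simp only [SubmonoidClass.coe_pow, map_pow, OneMemClass.coe_one] at e4 ⊢
        rw [pow_add, pow_mul, e4]
      have d5 : pre g (piCoreOf {u} (im g K)) ⊓ K ≤ G ⊔ R := inf_le_right.trans KT
      generalize pre g (piCoreOf {u} (im g K)) ⊓ K = W at d1 d2 d3 d4 d5
      rcases hm' _ (comm_le_left (d5.trans TH)) (le_norm_sup (le_norm_comm TH d2) m3) with e | e
      · exact c10 (d1.trans (b2 W (d5.trans TH) e))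
      · rw [im_comm f HT d5] at e
        exact (Core.commutator_lt_of_nilpotent (nilpotent_of_isPGroup d4) (im_mono f d3) le_rfl
          (im_norm f (d5.trans TH)) fH).ne e.2
    have GP : G₁ ≤ 𝐍(P) := c1.trans inf_le_right
    have e1 := comm_le_left (c2.trans GP)
    have e2 := le_norm_comm a2 c5
    refine ⟨G₁ ⊔ ⁅P, S⁆, ⁅P, S⁆, s, sup_le (c1.trans inf_le_left) (e1.trans (hP.le.trans (HK.trans KG))),
      le_sup_right, e1.trans hP.le, sup_le (le_norm_comm GP c4) le_normalizer, e2, le_norm_sup c6 e2, hs,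
      hP.isPGroup.to_le e1, ⟨G₁, S, u, le_sup_left, c2, c4, c5, c6, c7, c8, us, coprime_comm_comm (c2.trans GP)
      (pcop hs c7 us.symm hP.isPGroup c8) (Or.inr (solvable_of_isPGroup hP.isPGroup)), c9⟩,
      fun e => c10 fun x hx => ⟨TH (KT (SK hx)), fun a ha => ?_⟩⟩
    obtain ⟨b, hb, c, hc, rfl⟩ := (Core.mem_sup_of_le_normalizer ((hP.le.trans HT).trans m3)).1
      ((sup_comm P M' ▸ a5).ge ha)
    have e3 : ⁅x, b⁆ ∈ M' := by
      rw [cm_swap]; exact inv_mem (cm_mem hb (m3 (KT (SK hx))))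
    have e4 : ⁅x, c⁆ ∈ M' := by
      rw [cm_swap]
      exact inv_mem (m1 (le_inf e (e1.trans hP.le) (commutator_mem_commutator hc hx)))
    rw [cm_mul_right]
    exact mul_mem e3 (mul_mem (mul_mem hb e4) (inv_mem hb))

theorem turull {G : Subgroup X} (hR : (Nat.card R).Prime) (h1 : R ≤ 𝐍(G)) (h2 : Group.IsSolvable G)
    (h3 : (Nat.card G).Coprime (Nat.card R)) {n : ℕ} (h : Dn G R n = ⊥) : nres^[n + 2] G = ⊥ := by
  by_contra e
  obtain ⟨G₁, V, p, c1, c2, -, c4, c5, c6, hp, c8, ⟨G', Y, s, d1, d2, d3, d4, d5, hs, d7, d8, d9, d10⟩, c10⟩ :=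
    te hR (n + 2) (M := ⊥) h1 h2 h3 le_normalizer_of_normal le_normalizer_of_normal fun e1 => e (le_bot_iff.1 e1)
  have := Fact.mk hp
  have GG := d1.trans c1
  obtain ⟨Q, hQ, m⟩ := exists_minAct (Q₀ := V) (T := G' ⊔ R) (Y := Y) (sup_le (d1.trans c4) c5)
    (d2.trans le_sup_left) (sup_le d3 d4) (pcop hp hs d8.symm c8 d7) (solvable_of_isPGroup c8)
    fun e => c10 (d9.symm.trans (le_cent_iff_comm_eq_bot.1 e)).le
  have QG := (hQ.trans c2).trans c1
  have hD : ∀ k, n ≤ k → ∀ x ∈ Dn G R k, x = 1 := fun k hk x hx => h.le (Dn_anti hk hx)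
  rcases claim (n + 1) ⟨hR, Core.coprime_of_le_left h3 GG, d5, d2, d3, d4, hs, d7, hp, c8.to_le hQ, d8,
    Core.coprime_of_le_left h3 QG, le_sup_left.trans m.norm, le_sup_right.trans m.norm⟩ d10 m with
    e1 | ⟨x, B, U, c, hx, b, -, -, -, hc, e1⟩ | ⟨e2, B, U, c, b, hc, e1⟩ | e1
  · exact e1 fun x hx => hD _ n.le_succ x (Dn_mono GG _ hx.2) ▸ one_mem _
  · refine e1 ?_
    rcases hx with hx | hx
    · rw [hD n le_rfl x (Dn_mono GG _ hx), commutatorElement_one_right]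
      exact one_mem _
    · have xG := Dn_le _ _ _ hx.1
      rw [hD (n + 1 - 2 + 1) (by omega) _ (up (Q := Q ⊓ 𝐂(R)) (A := zpowers x) (inf_le_inf_right _ QG)
        (zpowers_le.2 (Dn_mono GG _ hx.1))
        (le_norm_inf (zpowers_le.2 (m.norm (mem_sup_left xG.1))) (zpowers_le.2 (le_normalizer xG.2)))
        (pcop hp hs d8.symm (c8.to_le (inf_le_left.trans hQ)) (d7.to_le (zpowers_le.2 hx.2)))
        (solvable_of_isPGroup (c8.to_le (inf_le_left.trans hQ)))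
        (commutator_mem_commutator ⟨b.UV hc.1, hc.2⟩ (mem_zpowers x)))]
      exact one_mem _
  · exact e1 (hD 0 (by omega) c ⟨QG (b.UV hc.1), hc.2⟩ ▸ one_mem _)
  · omega

end Cfsg.Agent.PG.Tu
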